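import Groth.Agent.Coherent.K54.PushH1
import Groth.Agent.Coherent.K54.PushBC
import Groth.Agent.EGA2.K34.AmpleCrit
import Groth.Agent.EGA2.K30.CounitEpi
import Groth.Agent.Ega2.RelAmpComp
import Groth.Agent.Surf.K456.FlatInv
import Groth.Agent.PerfC.FPSections

/-!
# Direct images with vanishing `H^1` of the fibre

* `exists_nhd`: `π` proper, locally of finite presentation, `F` of finite presentation and flat over `Y`, `H^1(X_y, F_y) = 0`:
  near `y` the direct image is finite locally free and commutes with every base change.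
* `exists_section`: sections of a base change of `F` not vanishing at a point come from sections of `F` not vanishing at
  the image.
-/

set_option autoImplicit false
universe u

open AlgebraicGeometry CategoryTheory CategoryTheory.Limits Scheme.Modules TensorProduct

namespace K330.PushVan

open Groth.Agent Groth.Agent.CohqA.PullbackUniv Groth.Agent.CohqA.PullbackAffine
  Groth.Agent.CohqA.PullbackSections Groth.Agent.CohqA.AffineBaseChange
  Groth.Agent.CohqA.BaseChangeMod Groth.Agent.CohqA.PullbackQCoh Groth.Agent.Ega3B K55 K55.Pack K55.KerAlg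
  K54.PushSec

variable {X Y : Scheme.{u}} (π : X ⟶ Y) (F : X.Modules)

/-- Near a point whose fibre has `H^1 = 0` the direct image is finite locally free and commutes with base change. -/
theorem exists_nhd [IsProper π] [LocallyOfFinitePresentation π] (hF : Coh.IsQCoh F) (hfp : CohB1.IsFP F)
    (hfl : FlatMod.IsFlatOver π F) (y : Y) (h1 : Subsingleton (CohIII.fiberH π F y 1)) :
    ∃ U : Y.Opens, y ∈ U ∧ FlatMod.IsFinLocFree (((pushforward π).obj F).restrict U.ι) ∧
      ∀ {X' Z : Scheme.{u}} (f : X' ⟶ X) (ζ : X' ⟶ Z) (α : Z ⟶ Y) (h : IsPullback f ζ π α),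
        (∀ z : Z, α z ∈ U) → IsUniv α (pushSquare π α f ζ h.w (pbUnit f F)) := by
  obtain ⟨V, hV, hyV, -⟩ := exists_isAffineOpen_mem_and_subset (x := y) (U := ⊤) trivial
  obtain ⟨K, hK⟩ := exists_compData π F hfp hfl hV
  have hs := secData π F hV K hK
  have h2 := K54.PushH1.subsingleton_HB π F hF hV K hK ⟨y, hyV⟩ 1 h1
  exact K54.PushBC.exists_nhd π F hF hV K hs ⟨y, hyV⟩ (of_subsingleton_ker (K.exact 1) (K.surj 1) _ h2).2.1

/-- Invertible modules are of finite presentation. -/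
theorem isFP_of_isInvertible {L : X.Modules} (hL : PicF.IsInvertible L) : CohB1.IsFP L := by
  refine Groth.Agent.PerfC.FPSections.isFP_of_cover fun x => ?_
  obtain ⟨U, hx, ⟨e⟩⟩ := hL x
  exact ⟨U.toScheme, U.ι, inferInstance, ⟨x, hx⟩, rfl,
    Groth.Agent.PerfC.FPSections.isFP_of_iso e.symm Groth.Agent.PerfB.StructFlat.isFP_structure⟩

open Groth.Agent.Fdesc.LocGen Groth.Agent.Ega2.Nv

theorem locGen (hL : PicF.IsInvertible F) (U : X.Opens) : LocGen F U := by
  intro x hx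
  obtain ⟨V, e, hxV, he⟩ := (isInvertible_iff F).1 hL x
  exact ⟨V ⊓ U, res F inf_le_left e, ⟨hxV, hx⟩, inf_le_right, he.res _⟩

variable {F}

theorem nv_aux {M : X.Modules} {U W : X.Opens} (hWU : W ≤ U) {e : Γ(M, W)} (he : IsGen e) (t : Γ(M, U)) {a : Γ(X, W)}
    (ha : res M hWU t = a • e) {x : X} (hxW : x ∈ W) :
    x ∈ nv M t ↔ IsUnit (X.presheaf.germ W x hxW a) := by
  have h1 := nv_inf_of_eq_smul t hWU he a ha
  rw [← Scheme.mem_basicOpen X a x hxW, ← h1]
  exact ⟨fun h => ⟨hxW, h⟩, fun h => h.2⟩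

/-- A sum is nonzero at `x` only if one of the terms is. -/
theorem mem_nv_add {M : X.Modules} {U : X.Opens} (hM : LocGen M U) (s t : Γ(M, U)) {x : X}
    (hx : x ∈ nv M (s + t)) : x ∈ nv M s ∨ x ∈ nv M t := by
  obtain ⟨W, e, hxW, hWU, he⟩ := hM x (nv_le _ _ hx)
  obtain ⟨a, ha⟩ := he.exists_eq (res M hWU s)
  obtain ⟨b, hb⟩ := he.exists_eq (res M hWU t)
  have h1 : res M hWU (s + t) = (a + b) • e := by rw [map_add, ha, hb, add_smul]
  rw [nv_aux hWU he _ h1 hxW, map_add] at hx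
  rw [nv_aux hWU he _ ha hxW, nv_aux hWU he _ hb hxW]
  exact IsLocalRing.isUnit_or_isUnit_of_isUnit_add hx

theorem mem_nv_of_smul {M : X.Modules} {U : X.Opens} (hM : LocGen M U) (a : Γ(X, U)) (s : Γ(M, U)) {x : X}
    (hx : x ∈ nv M (a • s)) : x ∈ nv M s := by
  obtain ⟨W, e, hxW, hWU, he⟩ := hM x (nv_le _ _ hx)
  obtain ⟨b, hb⟩ := he.exists_eq (res M hWU s)
  have h1 : res M hWU (a • s) = (ores hWU a * b) • e := by rw [res_smul, hb, smul_smul]
  rw [nv_aux hWU he _ h1 hxW, map_mul] at hx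
  rw [nv_aux hWU he _ hb hxW]
  exact isUnit_of_mul_isUnit_right hx

theorem notMem_nv_zero {M : X.Modules} {U : X.Opens} (hM : LocGen M U) {x : X} (hx : x ∈ nv M (0 : Γ(M, U))) :
    False := by
  obtain ⟨W, e, hxW, hWU, he⟩ := hM x (nv_le _ _ hx)
  have h1 : res M hWU (0 : Γ(M, U)) = (0 : Γ(X, W)) • e := by rw [map_zero, zero_smul]
  rw [nv_aux hWU he _ h1 hxW, map_zero] at hx
  exact not_isUnit_zero hx

/-- Sections of a base change not vanishing at a point give sections not vanishing at the image. -/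
theorem exists_section [QuasiCompact π] [QuasiSeparated π] (hF : PicF.IsInvertible F) {X' Z : Scheme.{u}}
    (f : X' ⟶ X) (ζ : X' ⟶ Z) (α : Z ⟶ Y) (w : f ≫ π = ζ ≫ α)
    (hu : IsUniv α (pushSquare π α f ζ w (pbUnit f F))) {V : Y.Opens} (hV : IsAffineOpen V) {V' : Z.Opens}
    (hV' : IsAffineOpen V') (e : V' ≤ α ⁻¹ᵁ V) {x' : X'}
    (s' : Γ((Scheme.Modules.pullback f).obj F, ζ ⁻¹ᵁ V')) (hs' : x' ∈ nv _ s') :
    ∃ s : Γ(F, π ⁻¹ᵁ V), f x' ∈ nv F s := by
  have hM : ((pushforward π).obj F).IsQuasicoherent := Groth.Agent.Ega1.QcqsPush.isQCoh_pushforward π F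
    (Groth.Agent.Ega2.QCohLocal.isQCoh_of_isInvertible hF)
  have hb := isBC_secMap α _ hu hV hV' e
  have hsp := K54.PushBC.span_of_isBC hb
  have hL' := locGen _ (isInvertible_pullback f hF) (ζ ⁻¹ᵁ V')
  let t' : Γ((pushforward ζ).obj ((Scheme.Modules.pullback f).obj F), V') := s'
  have hmem : t' ∈ Submodule.span Γ(Z, V') (Set.range (secMap α (pushSquare π α f ζ w (pbUnit f F)) V V' e).hom) := by
    rw [hsp]; trivial
  let P : Γ((pushforward ζ).obj ((Scheme.Modules.pullback f).obj F), V') → Prop := fun t =>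
    x' ∈ nv ((Scheme.Modules.pullback f).obj F) (U := ζ ⁻¹ᵁ V') t → ∃ s : Γ(F, π ⁻¹ᵁ V), f x' ∈ nv F s
  suffices hP : P t' from hP hs'
  refine Submodule.span_induction (p := fun t _ => P t) ?_ ?_ ?_ ?_ hmem
  · rintro _ ⟨m, rfl⟩ hx
    refine ⟨m, ?_⟩
    have e' : ζ ⁻¹ᵁ V' ≤ f ⁻¹ᵁ (π ⁻¹ᵁ V) := preimage_le w V V' e
    have h1 : (secMap α (pushSquare π α f ζ w (pbUnit f F)) V V' e).hom m =
        res ((Scheme.Modules.pullback f).obj F) e' (pullSec f (show Γ(F, π ⁻¹ᵁ V) from m)) :=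
      secMap_pushSquare π α f ζ w (pbUnit f F) V V' e e' m
    have h2 := nv_res ((Scheme.Modules.pullback f).obj F) (pullSec f (show Γ(F, π ⁻¹ᵁ V) from m)) e'
    have h3 := Groth.Agent.Ega2.RelAmp.nv_pullSec f (locGen F hF (π ⁻¹ᵁ V)) (show Γ(F, π ⁻¹ᵁ V) from m)
    rw [h3] at h2
    have h4 : x' ∈ nv ((Scheme.Modules.pullback f).obj F)
        (res ((Scheme.Modules.pullback f).obj F) e' (pullSec f (show Γ(F, π ⁻¹ᵁ V) from m))) := by
      rw [← h1]; exact hx
    rw [h2] at h4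
    exact h4.2
  · intro hx
    exact (notMem_nv_zero hL' hx).elim
  · intro a b _ _ ha hb' hx
    rcases mem_nv_add hL' _ _ hx with h | h
    · exact ha h
    · exact hb' h
  · intro a t _ ht hx
    exact ht (mem_nv_of_smul hL' (ζ.app V' a) (show Γ((Scheme.Modules.pullback f).obj F, ζ ⁻¹ᵁ V') from t) hx)

/-- Over a field-valued point. -/
theorem exists_nv_of_field [IsProper π] [LocallyOfFinitePresentation π] [Flat π] (hF : PicF.IsInvertible F)
    {K : Type u} [Field K] (α : Spec (CommRingCat.of K) ⟶ Y) {X' : Scheme.{u}} (f : X' ⟶ X)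
    (ζ : X' ⟶ Spec (CommRingCat.of K)) (sq : IsPullback f ζ π α)
    (h1 : Subsingleton (CohIII.fiberH π F (α (IsLocalRing.closedPoint K)) 1))
    {x' : X'} (s' : Γ((Scheme.Modules.pullback f).obj F, ⊤)) (hs' : x' ∈ nv _ s') :
    ∃ (V : Y.Opens) (s : Γ(F, π ⁻¹ᵁ V)), f x' ∈ nv F s := by
  obtain ⟨U, hyU, -, hU⟩ := exists_nhd π F (Groth.Agent.Ega2.QCohLocal.isQCoh_of_isInvertible hF)
    (isFP_of_isInvertible hF)
    (K456.FlatInv.isFlatOver_of_isInvertible π hF) _ h1
  have hpt : ∀ z : Spec (CommRingCat.of K), α z = α (IsLocalRing.closedPoint K) := fun z =>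
    congrArg α (Subsingleton.elim _ _)
  have hu := hU f ζ α sq (fun z => by rw [hpt z]; exact hyU)
  obtain ⟨V, hV, hyV, -⟩ := exists_isAffineOpen_mem_and_subset (x := α (IsLocalRing.closedPoint K)) (U := ⊤) trivial
  obtain ⟨s, hs⟩ := exists_section π hF f ζ α sq.w hu hV (isAffineOpen_top (Spec (CommRingCat.of K)))
    (fun z _ => by change α z ∈ V; rw [hpt z]; exact hyV) s' hs'
  exact ⟨V, s, hs⟩

end K330.PushVan
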