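import Groth.Agent.Curves.K330.EtGood
import Groth.Agent.CurvSt.K899.DivAmple
import Groth.Agent.S1496
import Groth.Agent.Mor.K386.HQP
import Groth.Agent.Ega2.Weight

/-!
# Families of curves are projective étale-locally on the base
-/

set_option autoImplicit false
universe u
open CategoryTheory CategoryTheory.Limits AlgebraicGeometry TopologicalSpace

namespace K330.EtDiv

theorem homeomorph_image_mem {X Y : Type*} [TopologicalSpace X] [TopologicalSpace Y] (e : X ≃ₜ Y) {C : Set X}
    (hC : C ∈ irreducibleComponents X) : e '' C ∈ irreducibleComponents Y :=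
  image_mem_irreducibleComponents_of_isPreirreducible_fiber e e.continuous e.isOpenMap
    (fun y ↦ by
      have : (e ⁻¹' {y}).Subsingleton := by
        intro a ha b hb
        exact e.injective (by rw [Set.mem_preimage, Set.mem_singleton_iff] at ha hb; rw [ha, hb])
      exact this.isPreirreducible)
    e.surjective hC

/-- The fibre over `t` of the base change is the fibre over `g t` when `κ(g t) = κ(t)`. -/
theorem exists_fiberIso {C S T : Scheme.{u}} (f : C ⟶ S) (g : T ⟶ S) (t : T)
    (hres : Function.Bijective (g.residueFieldMap t)) :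
    ∃ e : (pullback.snd f g).fiber t ≅ f.fiber (g t),
      e.hom ≫ f.fiberι (g t) = (pullback.snd f g).fiberι t ≫ pullback.fst f g := by
  have hiso : IsIso (g.residueFieldMap t) := by
    rw [ConcreteCategory.isIso_iff_bijective]; exact hres
  have sq := isPullback_fiberToSpecResidueField_of_isPullback (IsPullback.of_hasPullback f g) t
  have h1 : IsIso (pullback.map (pullback.snd f g) (T.fromSpecResidueField t) f (S.fromSpecResidueField (g t))
      (pullback.fst f g) (Spec.map (g.residueFieldMap t)) g (IsPullback.of_hasPullback f g).w.symm (by simp)) :=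
    sq.isIso_fst_of_isIso
  exact ⟨@asIso _ _ _ _ _ h1, pullback.lift_fst _ _ _⟩

variable {C S : Scheme.{u}} (f : C ⟶ S)

/-- If the base change to the affine `T` carries a divisor meeting the one-dimensional components of the fibre over `t`
properly, then the family is projective over a neighbourhood of `t`. -/
theorem isHProjective_of_hasDiv [IsProper f] {T : Scheme.{u}} [IsAffine T] (g : T ⟶ S) (t : T)
    (hres : Function.Bijective (g.residueFieldMap t)) (hdim : topologicalKrullDim (f.fiber (g t)) ≤ 1) (A : Set C)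
    (hA : ∀ Z ∈ irreducibleComponents (f.fiber (g t) : Type u), topologicalKrullDim Z = 1 →
      (∃ y ∈ Z, f.fiberι (g t) y ∉ A) ∧ ∃ y ∈ Z, f.fiberι (g t) y ∈ A)
    (H : HasDiv f A g t) :
    ∃ W : T.Opens, t ∈ W ∧ IsAffineOpen W ∧ RelProj.IsHProjective (pullback.snd f (W.ι ≫ g)) := by
  obtain ⟨D, hD, hDt⟩ := H
  obtain ⟨e, he⟩ := exists_fiberIso f g t hres
  have hdim' : topologicalKrullDim ((pullback.snd f g).fiber t) ≤ 1 := by
    rw [(Scheme.homeoOfIso e).isHomeomorph.topologicalKrullDim_eq]; exact hdim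
  have hsupp : ∀ y : (pullback.snd f g).fiber t,
      (pullback.snd f g).fiberι t y ∈ D.support ↔ f.fiberι (g t) (e.hom y) ∈ A := by
    intro y
    have h1 : (pullback.snd f g) ((pullback.snd f g).fiberι t y) = t := by
      have : (pullback.snd f g).fiberι t y ∈ (pullback.snd f g) ⁻¹' {t} := by
        rw [← (pullback.snd f g).range_fiberι]; exact ⟨y, rfl⟩
      exact this
    rw [hDt _ h1, ← Scheme.Hom.comp_apply, ← he, Scheme.Hom.comp_apply]
  obtain ⟨V, htV, hV⟩ := K899.DivAmple.exists_nhd (pullback.snd f g) hD t hdim' (fun Z hZ hZd ↦ by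
    have h1 := homeomorph_image_mem (Scheme.homeoOfIso e) hZ
    have h2 : topologicalKrullDim (Scheme.homeoOfIso e '' Z) = 1 := by
      rw [← hZd]
      exact (((Scheme.homeoOfIso e).image Z).isHomeomorph.topologicalKrullDim_eq).symm
    obtain ⟨⟨_, ⟨y, hy, rfl⟩, hyA⟩, ⟨_, ⟨z, hz, rfl⟩, hzA⟩⟩ := hA _ h1 h2
    exact ⟨⟨y, hy, fun h ↦ hyA ((hsupp y).mp h)⟩, ⟨z, hz, (hsupp z).mpr hzA⟩⟩)
  obtain ⟨W, hW, htW, hWV⟩ := exists_isAffineOpen_mem_and_subset (U := V) (x := t) htV
  obtain ⟨-, L, hL⟩ := hV W hWV hW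
  refine ⟨W, htW, hW, ?_⟩
  have hWa : IsAffine W.toScheme := hW
  have h3 : RelProj.IsHProjective ((pullback.snd f g) ∣_ W) := by
    obtain ⟨n, i, hi, hi'⟩ := (Groth.Agent.S1496.result
      ⟨_, Groth.Agent.Ega2.Weight.isAmple_structureModule W.toScheme⟩ ((pullback.snd f g) ∣_ W)).1.mpr
        ⟨inferInstance, L, hL⟩
    exact ⟨n, i, hi, hi'⟩
  have sq : IsPullback ((pullback.snd f g ⁻¹ᵁ W).ι ≫ pullback.fst f g) ((pullback.snd f g) ∣_ W) f (W.ι ≫ g) := by
    exact ((isPullback_morphismRestrict (pullback.snd f g) W).flip.paste_horiz (IsPullback.of_hasPullback f g))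
  have sq2 : IsPullback sq.isoPullback.inv (pullback.snd f (W.ι ≫ g)) ((pullback.snd f g) ∣_ W) (𝟙 _) :=
    IsPullback.of_horiz_isIso ⟨by rw [sq.isoPullback_inv_snd, Category.comp_id]⟩
  exact K386.HQP.isHProjective_of_isPullback sq2 h3

/-- A family of curves becomes projective over an affine elementary étale neighbourhood of every point. -/
theorem exists_etaleNbhd_isHProjective [Flat f] [IsProper f] [LocallyOfFinitePresentation f] (s : S)
    (hdim : topologicalKrullDim (f.fiber s) ≤ 1) :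
    ∃ (T : Scheme.{u}) (g : T ⟶ S) (t : T), IsAffine T ∧ Hens2.IsEtaleNbhd g t s ∧
      RelProj.IsHProjective (pullback.snd f g) := by
  have hlft : LocallyOfFiniteType (f.fiberToSpecResidueField s) :=
    inferInstanceAs (LocallyOfFiniteType (pullback.snd f (S.fromSpecResidueField s)))
  have hqc : QuasiCompact (f.fiberToSpecResidueField s) :=
    inferInstanceAs (QuasiCompact (pullback.snd f (S.fromSpecResidueField s)))
  have hln : IsLocallyNoetherian (f.fiber s) := LocallyOfFiniteType.isLocallyNoetherian (f.fiberToSpecResidueField s)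
  have hc : CompactSpace (f.fiber s) := QuasiCompact.compactSpace_of_compactSpace (f.fiberToSpecResidueField s)
  have hN : IsNoetherian (f.fiber s) := { }
  have hfin : (irreducibleComponents (f.fiber s)).Finite := NoetherianSpace.finite_irreducibleComponents
  -- a good point on every one-dimensional component
  have hex : ∀ Z : irreducibleComponents (f.fiber s), ∃ x : f.fiber s, topologicalKrullDim (Z : Set (f.fiber s)) = 1 →
      x ∈ (Z : Set (f.fiber s)) ∧ IsClosed ({x} : Set (f.fiber s)) ∧ Good f (f.fiberι s x) := by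
    intro Z
    by_cases hZ : topologicalKrullDim (Z : Set (f.fiber s)) = 1
    · obtain ⟨x, hxZ, hxc, h, hm, hn⟩ := exists_point (f.fiber s) Z Z.2 hZ
      exact ⟨x, fun _ ↦ ⟨hxZ, hxc, good_of f s x hxc h hm hn⟩⟩
    · obtain ⟨x, hx⟩ := Z.2.1.nonempty
      exact ⟨x, fun h ↦ (hZ h).elim⟩
  choose p hp using hex
  let I : Set (irreducibleComponents (f.fiber s)) := {Z | topologicalKrullDim (Z : Set (f.fiber s)) = 1}
  have hFin : Finite (irreducibleComponents (f.fiber s)) := hfin
  let A : Set C := (fun Z ↦ f.fiberι s (p Z)) '' I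
  have hAfin : A.Finite := (Set.toFinite I).image _
  have hfs : ∀ x : f.fiber s, f (f.fiberι s x) = s := by
    intro x
    have : f.fiberι s x ∈ f ⁻¹' {s} := by rw [← f.range_fiberι]; exact ⟨x, rfl⟩
    exact this
  have hA : ∀ x ∈ A, f x = s ∧ Good f x := by
    rintro _ ⟨Z, hZ, rfl⟩
    exact ⟨hfs _, (hp Z hZ).2.2⟩
  obtain ⟨T, g, t, hg, H⟩ := exists_finite f s hdim A hAfin hA
  -- make `T` affine
  obtain ⟨U, hU, htU, -⟩ := exists_isAffineOpen_mem_and_subset (U := ⊤) (x := t) trivial
  have hUa : IsAffine U.toScheme := hU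
  let t' : U.toScheme := ⟨t, htU⟩
  have H' : HasDiv f A (U.ι ≫ g) t' := H.refine U.ι t' rfl _ rfl
  have hg' : Hens2.IsEtaleNbhd (U.ι ≫ g) t' s :=
    Groth.Agent.Grpsch.EtLoc.IsEtaleNbhd.comp (Groth.Agent.Grpsch.EtLoc.isEtaleNbhd_of_isOpenImmersion U.ι t') hg
  have hs : (U.ι ≫ g) t' = s := hg'.base_eq
  have key : ∀ s' : S, s' = s → topologicalKrullDim (f.fiber s') ≤ 1 ∧
      ∀ Z ∈ irreducibleComponents (f.fiber s' : Type u), topologicalKrullDim Z = 1 →
      (∃ y ∈ Z, f.fiberι s' y ∉ A) ∧ ∃ y ∈ Z, f.fiberι s' y ∈ A := by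
    rintro s' rfl
    refine ⟨hdim, fun Z hZ hZd ↦ ⟨?_, ?_⟩⟩
    · -- the generic point
      have hZc : IsClosed Z := isClosed_of_mem_irreducibleComponents Z hZ
      obtain ⟨η, hη⟩ := QuasiSober.sober hZ.1 hZc
      refine ⟨η, hη.mem, ?_⟩
      rintro ⟨Z', hZ', hη'⟩
      have h1 := (f.fiberι s').isEmbedding.injective hη'
      have hcl := (hp Z' hZ').2.1
      rw [h1] at hcl
      rw [IsGenericPoint, hcl.closure_eq] at hη
      subst hη
      have : topologicalKrullDim ({η} : Set (f.fiber s')) ≤ 0 := by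
        have : DiscreteTopology ({η} : Set (f.fiber s')) := Subsingleton.discreteTopology
        exact topologicalKrullDim_zero_of_discreteTopology _
      rw [hZd] at this
      exact absurd this (by norm_num)
    · exact ⟨p ⟨Z, hZ⟩, (hp ⟨Z, hZ⟩ hZd).1, ⟨⟨Z, hZ⟩, hZd, rfl⟩⟩
  obtain ⟨hdim', hA'⟩ := key _ hs
  obtain ⟨W, htW, hW, hP⟩ := isHProjective_of_hasDiv f (U.ι ≫ g) t' hg'.residue_bijective hdim' A hA' H'
  have hWa : IsAffine W.toScheme := hW
  let t'' : W.toScheme := ⟨t', htW⟩
  exact ⟨W.toScheme, W.ι ≫ U.ι ≫ g, t'', hWa,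
    Groth.Agent.Grpsch.EtLoc.IsEtaleNbhd.comp (Groth.Agent.Grpsch.EtLoc.isEtaleNbhd_of_isOpenImmersion W.ι t'') hg', hP⟩

end K330.EtDiv
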