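import Groth.Agent.FormalB.TwistGen
import Groth.Agent.Lefpen.H705.SecIdeal
import Groth.Agent.Lefpen.H708.Geo
import Groth.Agent.Fdesc.LocGenPullback
import Groth.Agent.CurvesB.HZero

/-!
# Forms as sections of `O(d)` on a scheme over projective space

For `r : X ⟶ P^N_k` and a form `G` of degree `d`:
* `glob G : Γ(O(d), ⊤)` on `P^N_k`; `exists_gen`: on the chart `D_+(T_j)` it is `(G / T_j^d) • T_j^d`;
* `formSec r : Form N k d →ₗ[k] H^0(X, r^* O(d))` (for `X` over `Spec k` through `r`);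
* `formSec_eq_zero_iff`: the section vanishes iff `(hypIdeal G).comap r = ⊥`, iff `hypIdeal G ≤ r.ker`
  (`hypIdeal_le_ker`);
* `exists_lift`: factorization through the intersection of two hypersurfaces.
-/

set_option autoImplicit false
set_option linter.style.haveILetI false

universe u

open CategoryTheory AlgebraicGeometry Limits TopologicalSpace Opposite

namespace K330.FormSec

open LefPen Groth.Agent.Fdesc.LocGen Groth.Agent.Lefpen.H705.HypIdeal Groth.Agent.Lefpen.H705.SecIdeal
open Groth.Agent.FormalB Groth.Agent.CurvesB.HZero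

variable {N d : ℕ} {k : Type u} [Field k]

/-- The value at a point of a section of a twisting sheaf. -/
noncomputable def tv {e : ℤ} {U : (CohB1.ProjSpace N k).Opens} (t : Γ(Twist.twistProjSpace N k e, U)) (x : U) :
    Twist.Loc (CohB1.polyGrading N k) x.1 :=
  ((show Twist.sectN (𝒜 := CohB1.polyGrading N k) e (op U) from t).1 x).1

theorem tv_ext {e : ℤ} {U : (CohB1.ProjSpace N k).Opens} {s t : Γ(Twist.twistProjSpace N k e, U)}
    (h : ∀ x : U, tv s x = tv t x) : s = t :=
  Subtype.ext (funext fun x => Subtype.ext (h x))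

theorem tv_smul {e : ℤ} {U : (CohB1.ProjSpace N k).Opens} (c : Γ(CohB1.ProjSpace N k, U))
    (t : Γ(Twist.twistProjSpace N k e, U)) (x : U) : tv (c • t) x = (c.1 x).val * tv t x :=
  Twist.coe_smul_val (𝒜 := CohB1.polyGrading N k) _ _ _ _

/-- The global section of `O(d)` on `P^N` defined by a form of degree `d`. -/
noncomputable def glob (G : Form N k d) : Γ(Twist.twistProjSpace N k (d : ℤ), ⊤) :=
  show Twist.sectN (𝒜 := CohB1.polyGrading N k) (d : ℤ) (op ⊤) from Twist.globalOf (CohB1.polyGrading N k) G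

theorem tv_glob (G : Form N k d) (x : (⊤ : (CohB1.ProjSpace N k).Opens)) :
    tv (glob G) x = algebraMap _ (Twist.Loc (CohB1.polyGrading N k) x.1) G.1 := by
  rw [← Localization.mk_one_eq_algebraMap]
  rfl

theorem glob_add (G G' : Form N k d) : glob (G + G') = glob G + glob G' := by
  refine tv_ext fun x => ?_
  have h : tv (glob G + glob G') x = tv (glob G) x + tv (glob G') x := rfl
  rw [h, tv_glob, tv_glob, tv_glob, ← map_add]
  rfl

theorem exists_gen_aux (j : Fin (N + 1)) (e : ℤ) (h : ((1 : ℕ) : ℤ) * (d : ℤ) = e) :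
    ∃ g : Γ(Twist.twistProjSpace N k e, chart N k j), IsGen g ∧
      ∀ x : chart N k j, tv g x =
        algebraMap (MvPolynomial (Fin (N + 1)) k) (Twist.Loc (CohB1.polyGrading N k) x.1)
          (MvPolynomial.X j ^ d) := by
  subst h
  refine ⟨TwistGen.gen (X_mem N k j) (d : ℤ) _ le_rfl, TwistGen.isGen_gen _ _ _ le_rfl, fun x => ?_⟩
  have h1 := TwistGen.pw_eq_mul (𝒜 := CohB1.polyGrading N k) (MvPolynomial.X j) (d : ℤ) x.1 x.2
  have h2 : (-(d : ℤ)).toNat = 0 := by omega
  rw [h2, pow_zero, map_one, one_mul, Int.toNat_natCast] at h1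
  exact h1

theorem mk_mul_algebraMap {R : Type*} [CommRing R] (M : Submonoid R) (a : R) (s : M) :
    Localization.mk a s * algebraMap R (Localization M) s.1 = algebraMap R (Localization M) a := by
  rw [Localization.mk_eq_mk']
  exact IsLocalization.mk'_spec _ _ _

theorem exists_gen (j : Fin (N + 1)) :
    ∃ g : Γ(Twist.twistProjSpace N k (d : ℤ), chart N k j), IsGen g ∧
      ∀ G : Form N k d, res _ le_top (glob G) = dehom G j • g := by
  obtain ⟨g, hg, hg'⟩ := exists_gen_aux (N := N) (d := d) (k := k) j (d : ℤ) (by simp)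
  refine ⟨g, hg, fun G => ?_⟩
  refine tv_ext fun x => ?_
  have h0 : tv (res (Twist.twistProjSpace N k (d : ℤ)) (le_top : chart N k j ≤ ⊤) (glob G)) x =
    tv (glob G) ⟨x.1, trivial⟩ := rfl
  have h1 : ((dehom G j).1 x).val * algebraMap (MvPolynomial (Fin (N + 1)) k)
      (Twist.Loc (CohB1.polyGrading N k) x.1) (MvPolynomial.X j ^ d) =
      algebraMap (MvPolynomial (Fin (N + 1)) k) (Twist.Loc (CohB1.polyGrading N k) x.1) G.1 := by
    rw [dehom_val]
    exact mk_mul_algebraMap _ G.1 ⟨MvPolynomial.X j ^ d, pow_mem_primeCompl j x d⟩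
  rw [h0, tv_glob, tv_smul, hg']
  exact h1.symm

section Pull

variable {X : Scheme.{u}} (r : X ⟶ CohB1.ProjSpace N k)

/-- The section of `r^* O(d)` defined by a form. -/
noncomputable def sec' (G : Form N k d) :
    Γ((Scheme.Modules.pullback r).obj (Twist.twistProjSpace N k (d : ℤ)), ⊤) := pullTop r (glob G)

theorem exists_gen_pull (j : Fin (N + 1)) :
    ∃ g : Γ((Scheme.Modules.pullback r).obj (Twist.twistProjSpace N k (d : ℤ)), r ⁻¹ᵁ chart N k j), IsGen g ∧
      ∀ G : Form N k d, res _ le_top (sec' r G) = (eqn r j (r ⁻¹ᵁ chart N k j) le_rfl G) • g := by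
  obtain ⟨g, hg, h⟩ := exists_gen (N := N) (d := d) (k := k) j
  refine ⟨pullSec r g, hg.pullSec r, fun G => ?_⟩
  have h1 := res_pullSec r (le_top : chart N k j ≤ ⊤) (glob G)
  refine h1.trans ?_
  rw [h G, pullSec_smul, eqn, Scheme.Hom.app_eq_appLE]

theorem sec'_eq_zero_iff (G : Form N k d) :
    sec' r G = 0 ↔ ∀ j, eqn r j (r ⁻¹ᵁ chart N k j) le_rfl G = 0 := by
  constructor
  · intro h j
    obtain ⟨g, hg, h1⟩ := exists_gen_pull (d := d) r j
    have h2 := h1 G
    rw [h, map_zero] at h2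
    apply hg.ext
    rw [← h2, zero_smul]
  · intro h
    refine res_ext _ (fun j => r ⁻¹ᵁ chart N k j) (fun j => le_top) ?_ fun j => ?_
    · intro x _
      obtain ⟨j, hj⟩ := Groth.Agent.PerfB.ProjSpaceCover.exists_mem_basicOpen_X N k (r x)
      exact Opens.mem_iSup.mpr ⟨j, hj⟩
    · obtain ⟨g, hg, h1⟩ := exists_gen_pull (d := d) r j
      rw [h1, h j, zero_smul, map_zero]

theorem sec'_add (G G' : Form N k d) : sec' r (G + G') = sec' r G + sec' r G' := by
  rw [sec', glob_add]
  exact pullSec_add r _ _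

theorem ores_eqn (j : Fin (N + 1)) {U V : X.Opens} (h : V ≤ U) (hU : U ≤ r ⁻¹ᵁ chart N k j) (G : Form N k d) :
    ores h (eqn r j U hU G) = eqn r j V (h.trans hU) G := by
  change (r.appLE (chart N k j) U hU ≫ X.presheaf.map (homOfLE h).op) (dehom G j) = _
  rw [Scheme.Hom.appLE_map]
  rfl

/-- If the pulled back section vanishes the morphism factors through the hypersurface. -/
theorem comap_eq_bot (G : Form N k d) (h : sec' r G = 0) : (hypIdeal G).comap r = ⊥ := by
  rw [sec'_eq_zero_iff] at h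
  let ι := { U : X.affineOpens // ∃ j, U.1 ≤ r ⁻¹ᵁ chart N k j }
  refine Scheme.IdealSheafData.ext_of_iSup_eq_top (fun i : ι => i.1) ?_ ?_
  · rw [eq_top_iff]
    intro x _
    obtain ⟨j, hj⟩ := Groth.Agent.PerfB.ProjSpaceCover.exists_mem_basicOpen_X N k (r x)
    obtain ⟨U, hU, hxU, hle⟩ := exists_isAffineOpen_mem_and_subset (U := r ⁻¹ᵁ chart N k j) (x := x) hj
    exact Opens.mem_iSup.mpr ⟨⟨⟨U, hU⟩, j, hle⟩, hxU⟩
  · rintro ⟨U, j, hU⟩
    have h1 := secIdeal_ideal_of_le r ({G} : Set (Form N k d)) j U hU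
    rw [Set.image_singleton, ← ores_eqn r j hU le_rfl G, h j, map_zero, Ideal.span_singleton_eq_bot.2 rfl] at h1
    have h2 : secIdeal r ({G} : Set (Form N k d)) = (hypIdeal G).comap r := by
      rw [secIdeal, iSup_singleton]
    rw [← h2, h1]
    rfl

theorem hypIdeal_le_ker (G : Form N k d) (h : sec' r G = 0) : hypIdeal G ≤ r.ker := by
  rw [← Scheme.IdealSheafData.map_bot, Scheme.IdealSheafData.le_map_iff_comap_le, comap_eq_bot r G h]

/-- Factorization through the intersection of two hypersurfaces. -/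
theorem exists_lift {d' : ℕ} (G : Form N k d) (G' : Form N k d') (h : sec' r G = 0) (h' : sec' r G' = 0) :
    ∃ j : X ⟶ (hypIdeal G ⊔ hypIdeal G').subscheme, j ≫ (hypIdeal G ⊔ hypIdeal G').subschemeι = r := by
  have hle : (hypIdeal G ⊔ hypIdeal G').subschemeι.ker ≤ r.ker := by
    rw [Scheme.IdealSheafData.ker_subschemeι]
    exact sup_le (hypIdeal_le_ker r G h) (hypIdeal_le_ker r G' h')
  exact ⟨IsClosedImmersion.lift _ r hle, IsClosedImmersion.lift_fac _ r hle⟩

end Pull

section Lin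

variable (X : Scheme.{u}) [X.Over (Spec (CommRingCat.of k))] (r : X ⟶ CohB1.ProjSpace N k)
  (hr : r ≫ CohB1.ProjSpace.toSpec N k = X ↘ Spec (CommRingCat.of k))

include hr in
theorem eqn_smul (c : k) (G : Form N k d) (j : Fin (N + 1)) :
    eqn r j (r ⁻¹ᵁ chart N k j) le_rfl (c • G) =
      ores le_top (gl k X c) * eqn r j (r ⁻¹ᵁ chart N k j) le_rfl G := by
  rw [Groth.Agent.Lefpen.H708.Geo.eqn_eq, Groth.Agent.Lefpen.H708.Geo.eqn_eq]
  have h1 : (c • G).1 = MvPolynomial.C c * G.1 := MvPolynomial.smul_eq_C_mul _ _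
  have h2 : Groth.Agent.Sga5.ProjChart.dehom N k j (MvPolynomial.C c) = MvPolynomial.C c := by simp
  rw [h1, map_mul, map_mul, h2]
  congr 1
  have h3 := congrArg (fun φ : k →+* Γ(X, r ⁻¹ᵁ chart N k j) => φ c)
    (Groth.Agent.Lefpen.H708.Geo.coordU_C r j (r ⁻¹ᵁ chart N k j) le_rfl)
  refine h3.trans ?_
  rw [hr]
  rfl

include hr in
theorem sec'_smul (c : k) (G : Form N k d) : sec' r (c • G) = gl k X c • sec' r G := by
  refine res_ext _ (fun j => r ⁻¹ᵁ chart N k j) (fun j => le_top) ?_ fun j => ?_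
  · intro x _
    obtain ⟨j, hj⟩ := Groth.Agent.PerfB.ProjSpaceCover.exists_mem_basicOpen_X N k (r x)
    exact Opens.mem_iSup.mpr ⟨j, hj⟩
  · obtain ⟨g, hg, h1⟩ := exists_gen_pull (d := d) r j
    rw [h1, eqn_smul X r hr c G j]
    refine Eq.trans ?_ (res_smul _ _ _ _).symm
    rw [h1, smul_smul]

/-- The linear map `G ↦ r^* G` from forms to `H^0(X, r^* O(d))`. -/
noncomputable def formSec :
    Form N k d →ₗ[k] Coh.HH X ((Scheme.Modules.pullback r).obj (Twist.twistProjSpace N k (d : ℤ))) 0 where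
  toFun G := (equivAdd _).symm (sec' r G)
  map_add' G G' := by rw [sec'_add, map_add]
  map_smul' c G := by
    apply (equivAdd _).injective
    rw [RingHom.id_apply, equivAdd_smul_over, AddEquiv.apply_symm_apply, AddEquiv.apply_symm_apply]
    exact sec'_smul X r hr c G

end Lin

end K330.FormSec
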