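import Mathlib.LinearAlgebra.Dimension.Finite
import Mathlib.LinearAlgebra.FiniteDimensional.Basic
import Mathlib.Algebra.MvPolynomial.Basic
import Mathlib.Tactic
import Groth.Prelude.Def_Curves

/-!
# Normal form of a quadratic relation between three vectors

`B : V → V → W` symmetric bilinear, `e : Fin 3 → V` linearly independent, `dim W ≤ 5`, over a field with
property `C_1`: after a change of basis there is a nontrivial relation between the products `B ℓ_i ℓ_j` without the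
term `B ℓ₀ ℓ₀`.
-/

set_option autoImplicit false

namespace K330.ConicAlg

variable {K V W : Type*} [Field K] [AddCommGroup V] [Module K V] [AddCommGroup W] [Module K W]

/-- The normal form: a basis `ℓ₀, ℓ₁, ℓ₂` and a nontrivial relation without `ℓ₀²`. -/
def Normal (B : V →ₗ[K] V →ₗ[K] W) : Prop :=
  ∃ (l0 l1 l2 : V) (b1 b2 c11 c12 c22 : K),
    (∀ x y z : K, x • l0 + y • l1 + z • l2 = 0 → x = 0 ∧ y = 0 ∧ z = 0) ∧
    ¬ (b1 = 0 ∧ b2 = 0 ∧ c11 = 0 ∧ c12 = 0 ∧ c22 = 0) ∧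
    b1 • B l0 l1 + b2 • B l0 l2 + c11 • B l1 l1 + c12 • B l1 l2 + c22 • B l2 l2 = 0

theorem normal_aux (B : V →ₗ[K] V →ₗ[K] W) (hB : ∀ x y, B x y = B y x) (e0 e1 e2 : V)
    (hind : ∀ x y z : K, x • e0 + y • e1 + z • e2 = 0 → x = 0 ∧ y = 0 ∧ z = 0)
    (a b c d e f : K) (hne : ¬ (a = 0 ∧ b = 0 ∧ c = 0 ∧ d = 0 ∧ e = 0 ∧ f = 0))
    (hrel : a • B e0 e0 + b • B e1 e1 + c • B e2 e2 + d • B e0 e1 + e • B e0 e2 + f • B e1 e2 = 0)
    (v0 v1 v2 : K) (hv0 : v0 ≠ 0)
    (hv : a * v0 ^ 2 + b * v1 ^ 2 + c * v2 ^ 2 + d * (v0 * v1) + e * (v0 * v2) + f * (v1 * v2) = 0) :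
    Normal B := by
  set p := v1 / v0 with hp
  set r := v2 / v0 with hr
  have h1 : a + b * p ^ 2 + c * r ^ 2 + d * p + e * r + f * (p * r) = 0 := by
    have h2 : a + b * p ^ 2 + c * r ^ 2 + d * p + e * r + f * (p * r) =
        (a * v0 ^ 2 + b * v1 ^ 2 + c * v2 ^ 2 + d * (v0 * v1) + e * (v0 * v2) + f * (v1 * v2)) / v0 ^ 2 := by
      rw [hp, hr]
      field_simp
    rw [h2, hv, zero_div]
  have ha : a = -(b * p ^ 2 + c * r ^ 2 + d * p + e * r + f * (p * r)) := by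
    linear_combination h1
  refine ⟨e0, e1 - p • e0, e2 - r • e0, 2 * b * p + d + f * r, 2 * c * r + e + f * p, b, f, c, ?_, ?_, ?_⟩
  · intro x y z h
    have h' : (x - y * p - z * r) • e0 + y • e1 + z • e2 = 0 := by
      rw [← h]
      module
    obtain ⟨h3, h4, h5⟩ := hind _ _ _ h'
    subst h4 h5
    refine ⟨by simpa using h3, rfl, rfl⟩
  · rintro ⟨h2, h3, h4, h5, h6⟩
    apply hne
    subst h4 h5 h6
    have h7 : d = 0 := by simpa using h2
    have h8 : e = 0 := by simpa using h3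
    refine ⟨?_, rfl, rfl, h7, h8, rfl⟩
    rw [ha, h7, h8]
    ring
  · rw [← hrel]
    simp only [map_sub, map_smul, LinearMap.sub_apply, LinearMap.smul_apply]
    rw [hB e1 e0, hB e2 e0, ha]
    module

theorem normal_of_rel (B : V →ₗ[K] V →ₗ[K] W) (hB : ∀ x y, B x y = B y x) (e0 e1 e2 : V)
    (hind : ∀ x y z : K, x • e0 + y • e1 + z • e2 = 0 → x = 0 ∧ y = 0 ∧ z = 0)
    (a b c d e f : K) (hne : ¬ (a = 0 ∧ b = 0 ∧ c = 0 ∧ d = 0 ∧ e = 0 ∧ f = 0))
    (hrel : a • B e0 e0 + b • B e1 e1 + c • B e2 e2 + d • B e0 e1 + e • B e0 e2 + f • B e1 e2 = 0)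
    (v0 v1 v2 : K) (hvne : ¬ (v0 = 0 ∧ v1 = 0 ∧ v2 = 0))
    (hv : a * v0 ^ 2 + b * v1 ^ 2 + c * v2 ^ 2 + d * (v0 * v1) + e * (v0 * v2) + f * (v1 * v2) = 0) :
    Normal B := by
  by_cases h0 : v0 = 0
  · by_cases h1 : v1 = 0
    · have h2 : v2 ≠ 0 := fun h2 => hvne ⟨h0, h1, h2⟩
      refine normal_aux B hB e2 e1 e0 ?_ c b a f e d ?_ ?_ v2 v1 v0 h2 ?_
      · intro x y z h
        obtain ⟨h3, h4, h5⟩ := hind z y x (by rw [← h]; module)
        exact ⟨h5, h4, h3⟩
      · rintro ⟨h3, h4, h5, h6, h7, h8⟩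
        exact hne ⟨h5, h4, h3, h8, h7, h6⟩
      · rw [hB e2 e1, hB e2 e0, hB e1 e0, ← hrel]
        module
      · linear_combination hv
    · refine normal_aux B hB e1 e0 e2 ?_ b a c d f e ?_ ?_ v1 v0 v2 h1 ?_
      · intro x y z h
        obtain ⟨h3, h4, h5⟩ := hind y x z (by rw [← h]; module)
        exact ⟨h4, h3, h5⟩
      · rintro ⟨h3, h4, h5, h6, h7, h8⟩
        exact hne ⟨h4, h3, h5, h6, h8, h7⟩
      · rw [hB e1 e0, ← hrel]
        module
      · linear_combination hv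
  · exact normal_aux B hB e0 e1 e2 hind a b c d e f hne hrel v0 v1 v2 h0 hv

open MvPolynomial in
/-- Over a `C_1` field, every ternary quadratic form has a nontrivial zero. -/
theorem exists_zero (hC : Curves.IsCi K 1) (a b c d e f : K) :
    ∃ v0 v1 v2 : K, ¬ (v0 = 0 ∧ v1 = 0 ∧ v2 = 0) ∧
      a * v0 ^ 2 + b * v1 ^ 2 + c * v2 ^ 2 + d * (v0 * v1) + e * (v0 * v2) + f * (v1 * v2) = 0 := by
  have hX : ∀ i : Fin 3, (X i : MvPolynomial (Fin 3) K).IsHomogeneous 1 := fun i => isHomogeneous_X K i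
  have hc : ∀ (r : K) (i j : Fin 3), (C r * (X i * X j) : MvPolynomial (Fin 3) K).IsHomogeneous 2 := by
    intro r i j
    have h := (isHomogeneous_C (Fin 3) r).mul ((hX i).mul (hX j))
    simpa using h
  obtain ⟨v, hv, hv0⟩ := hC 1 3 (fun _ => C a * (X 0 * X 0) + C b * (X 1 * X 1) + C c * (X 2 * X 2) +
    C d * (X 0 * X 1) + C e * (X 0 * X 2) + C f * (X 1 * X 2)) (fun _ => 2)
    (fun _ => (((((hc _ _ _).add (hc _ _ _)).add (hc _ _ _)).add (hc _ _ _)).add (hc _ _ _)).add (hc _ _ _))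
    (fun _ => by norm_num) (by simp)
  refine ⟨v 0, v 1, v 2, ?_, ?_⟩
  · rintro ⟨h0, h1, h2⟩
    apply hv
    funext i
    fin_cases i
    · exact h0
    · exact h1
    · exact h2
  · have h := hv0 0
    simp only [map_add, map_mul, eval_C, eval_X] at h
    linear_combination h

/-- The normal form exists over a `C_1` field if the target has dimension at most five. -/
theorem exists_normal [FiniteDimensional K W] (hC : Curves.IsCi K 1) (B : V →ₗ[K] V →ₗ[K] W)
    (hB : ∀ x y, B x y = B y x)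
    (hV : Module.finrank K V = 3) (hW : Module.finrank K W ≤ 5) : Normal B := by
  have : FiniteDimensional K V := Module.finite_of_finrank_pos (by omega)
  let bas := Module.finBasisOfFinrankEq K V hV
  have hind : ∀ x y z : K, x • bas 0 + y • bas 1 + z • bas 2 = 0 → x = 0 ∧ y = 0 ∧ z = 0 := by
    intro x y z h
    have h1 := (Fintype.linearIndependent_iff.1 bas.linearIndependent) ![x, y, z] (by
      rw [Fin.sum_univ_three]
      exact h)
    exact ⟨h1 0, h1 1, h1 2⟩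
  let w : Fin 6 → W := ![B (bas 0) (bas 0), B (bas 1) (bas 1), B (bas 2) (bas 2), B (bas 0) (bas 1),
    B (bas 0) (bas 2), B (bas 1) (bas 2)]
  have hdep : ¬ LinearIndependent K w := by
    intro h
    have := h.fintype_card_le_finrank
    rw [Fintype.card_fin] at this
    omega
  rw [Fintype.not_linearIndependent_iff] at hdep
  obtain ⟨g, hg, i, hi⟩ := hdep
  obtain ⟨v0, v1, v2, hvne, hv⟩ := exists_zero hC (g 0) (g 1) (g 2) (g 3) (g 4) (g 5)
  refine normal_of_rel B hB (bas 0) (bas 1) (bas 2) hind (g 0) (g 1) (g 2) (g 3) (g 4) (g 5) ?_ ?_ v0 v1 v2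
    hvne hv
  · rintro ⟨h0, h1, h2, h3, h4, h5⟩
    apply hi
    fin_cases i
    · exact h0
    · exact h1
    · exact h2
    · exact h3
    · exact h4
    · exact h5
  · rw [← hg, Fin.sum_univ_six]
    rfl

end K330.ConicAlg
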