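import Groth.Agent.CurvesC.VeryAmple
import Groth.Agent.Old.H24.LinearSeries
import Groth.Agent.S1635
import Groth.Agent.CurvesB.NodeCriterion
import Groth.Agent.CurvesA.HHMap
import Groth.Agent.Curves.K330.ConicAlg

/-!
# A genus zero curve over a `C_1` field has a rational point

`exists_point`: `X` integral proper of dimension one over a field `k` with property `C_1`, `h⁰(O_X) = 1`, `h¹(O_X) = 0`,
with an invertible module of degree two.  Then `X` has a `k`-rational point.
-/

set_option autoImplicit false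
universe u
open CategoryTheory CategoryTheory.Limits AlgebraicGeometry TopologicalSpace Opposite

namespace K330.ConicPoint

open Groth.Agent Groth.Agent.CurvesC.Gen Groth.Agent.CurvesC.GenPt Groth.Agent.CurvesB.HZero
open Groth.Agent.Fdesc Groth.Agent.Old.H24.MulHom

section Mul

variable {X : Scheme.{u}}

/-- The product of two global sections of an invertible module in `O ⊗ L ⊗ L`. -/
noncomputable def prd {L : X.Modules} (a b : Γ(L, ⊤)) :
    Γ(CohB1.tensorMod (CohB1.tensorMod (Coh.structureModule X) L) L, ⊤) :=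
  LocGen.tmul (LocGen.tmul (LocGen.one ⊤) a) b

theorem prd_comm {L : X.Modules} (hL : PicF.IsInvertible L) (a b : Γ(L, ⊤)) : prd a b = prd b a :=
  tmul_tmul_comm hL _ a b

theorem prd_add {L : X.Modules} (a b c : Γ(L, ⊤)) : prd a (b + c) = prd a b + prd a c :=
  LocGen.tmul_add _ _ _

theorem prd_smul {L : X.Modules} (r : Γ(X, ⊤)) (a b : Γ(L, ⊤)) : prd a (r • b) = r • prd a b :=
  LocGen.tmul_smul _ _ _

theorem add_prd {L : X.Modules} (a b c : Γ(L, ⊤)) : prd (a + b) c = prd a c + prd b c := by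
  unfold prd
  rw [LocGen.tmul_add, LocGen.add_tmul]

theorem smul_prd {L : X.Modules} (r : Γ(X, ⊤)) (a b : Γ(L, ⊤)) : prd (r • a) b = r • prd a b := by
  unfold prd
  rw [LocGen.tmul_smul, LocGen.smul_tmul]

/-- A relation `A · t₁ = C · t₂` between sections, where `t₁, t₂` generate `L` everywhere: `A = c t₂`,
`C = c t₁`. -/
theorem exists_factor {L : X.Modules} (hL : PicF.IsInvertible L) {t1 t2 : Γ(L, ⊤)}
    (hcov : loc t1 ⊔ loc t2 = ⊤) (A C : Γ(L, ⊤)) (h : prd A t1 = prd C t2) :
    ∃ c : Γ(X, ⊤), A = c • t2 ∧ C = c • t1 := by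
  have hc : Covers t1 t2 := by
    intro x
    have hx : x ∈ loc t1 ⊔ loc t2 := hcov ▸ trivial
    rcases hx with hx | hx
    · refine ⟨loc t1, hx, Or.inl ?_⟩
      have h1 : IsGen L (loc t1) (sec (ofSec t1) _) := isGen_genLocus _
      rw [sec_ofSec] at h1
      exact h1
    · refine ⟨loc t2, hx, Or.inr ?_⟩
      have h1 : IsGen L (loc t2) (sec (ofSec t2) _) := isGen_genLocus _
      rw [sec_ofSec] at h1
      exact h1
  obtain ⟨c, hc1, hc2⟩ := hc.exists_eq (F := Coh.structureModule X) hL
    (LocGen.tmul (LocGen.one ⊤) C) (LocGen.tmul (LocGen.one ⊤) A) h.symm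
  obtain ⟨r, hr⟩ : ∃ r : Γ(X, ⊤), c = r • LocGen.one ⊤ := ⟨c, LocGen.ofFun_eq_smul (X := X) (U := ⊤) c⟩
  have hinj := (LocGen.tmul_left_bijective L (LocGen.isGen_one (X := X) ⊤) (le_refl ⊤)).1
  refine ⟨r, ?_, ?_⟩
  · apply hinj
    change LocGen.tmul (LocGen.res _ _ (LocGen.one ⊤)) A = LocGen.tmul (LocGen.res _ _ (LocGen.one ⊤)) (r • t2)
    rw [LocGen.res_refl, ← hc2, LocGen.tmul_smul, ← LocGen.smul_tmul, ← hr]
  · apply hinj
    change LocGen.tmul (LocGen.res _ _ (LocGen.one ⊤)) C = LocGen.tmul (LocGen.res _ _ (LocGen.one ⊤)) (r • t1)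
    rw [LocGen.res_refl, ← hc1, LocGen.tmul_smul, ← LocGen.smul_tmul, ← hr]

end Mul

section Point

variable {k : Type u} [Field k] {X : Scheme.{u}} [X.Over (Spec (CommRingCat.of k))]

/-- `B x y = x y` on `H⁰(L)`, `k`-bilinear. -/
noncomputable def bil (L : X.Modules) : Coh.HH X L 0 →ₗ[k] Coh.HH X L 0 →ₗ[k]
    Coh.HH X (CohB1.tensorMod (CohB1.tensorMod (Coh.structureModule X) L) L) 0 :=
  LinearMap.mk₂ k (fun x y => (equivAdd _).symm (prd (equivAdd L x) (equivAdd L y)))
    (fun x y z => by rw [map_add, add_prd, map_add])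
    (fun c x y => by
      apply (equivAdd _).injective
      rw [AddEquiv.apply_symm_apply, equivAdd_smul_over (A := k), equivAdd_smul_over (A := k),
        AddEquiv.apply_symm_apply, smul_prd])
    (fun x y z => by rw [map_add, prd_add, map_add])
    (fun c x y => by
      apply (equivAdd _).injective
      rw [AddEquiv.apply_symm_apply, equivAdd_smul_over (A := k), equivAdd_smul_over (A := k),
        AddEquiv.apply_symm_apply, prd_smul])

theorem equivAdd_bil (L : X.Modules) (x y : Coh.HH X L 0) :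
    equivAdd _ (bil (k := k) L x y) = prd (equivAdd L x) (equivAdd L y) := by
  change equivAdd _ ((equivAdd _).symm _) = _
  rw [AddEquiv.apply_symm_apply]

/-- Some point is a common zero of `ℓ₁` and `ℓ₂` in a normal form. -/
theorem exists_common_zero (h0 : Module.finrank k (Coh.HH X (Coh.structureModule X) 0) = 1)
    {L : X.Modules} (hL : PicF.IsInvertible L) (l0 l1 l2 : Coh.HH X L 0) (b1 b2 c11 c12 c22 : k)
    (hind : ∀ x y z : k, x • l0 + y • l1 + z • l2 = 0 → x = 0 ∧ y = 0 ∧ z = 0)
    (hne : ¬ (b1 = 0 ∧ b2 = 0 ∧ c11 = 0 ∧ c12 = 0 ∧ c22 = 0))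
    (hrel : b1 • bil (k := k) L l0 l1 + b2 • bil (k := k) L l0 l2 + c11 • bil (k := k) L l1 l1 + c12 • bil (k := k) L l1 l2 +
      c22 • bil (k := k) L l2 l2 = 0) :
    ∃ x : X, x ∉ loc (equivAdd L l1) ∧ x ∉ loc (equivAdd L l2) := by
  by_contra hcon
  push Not at hcon
  have hcov : loc (equivAdd L l1) ⊔ loc (equivAdd L l2) = ⊤ := by
    rw [eq_top_iff]
    intro x _
    by_cases hx : x ∈ loc (equivAdd L l1)
    · exact Or.inl hx
    · exact Or.inr (hcon x hx)
  have hrel' : prd (equivAdd L (b1 • l0 + c11 • l1 + c12 • l2)) (equivAdd L l1) =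
      prd (equivAdd L (-(b2 • l0 + c22 • l2))) (equivAdd L l2) := by
    rw [← equivAdd_bil (k := k), ← equivAdd_bil (k := k)]
    congr 1
    rw [← sub_eq_zero, ← hrel]
    simp only [map_add, map_smul, map_neg, LinearMap.add_apply, LinearMap.smul_apply, LinearMap.neg_apply]
    have hs : bil (k := k) L l2 l1 = bil (k := k) L l1 l2 := by
      apply (equivAdd _).injective
      rw [equivAdd_bil, equivAdd_bil, prd_comm hL]
    rw [hs]
    abel
  obtain ⟨c, hA, hC⟩ := exists_factor hL hcov _ _ hrel'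
  obtain ⟨c0, rfl⟩ := exists_const k h0 c
  rw [← equivAdd_smul_over (A := k)] at hA hC
  have hA' := (equivAdd L).injective hA
  have hC' := (equivAdd L).injective hC
  obtain ⟨e1, e2, e3⟩ := hind b1 c11 (c12 - c0) (by
    rw [sub_smul, ← hA']; abel)
  obtain ⟨e4, e5, e6⟩ := hind b2 c0 c22 (by
    rw [← hC']; abel)
  refine hne ⟨e1, e4, e2, ?_, e6⟩
  rw [e5, sub_zero] at e3
  exact e3

/-- If all functions on an affine neighbourhood of `x` have constant value at `x`, the residue field is `k`. -/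
theorem surjective_residue {U : X.Opens} (hU : IsAffineOpen U) {x : X} (hx : x ∈ U)
    (key : ∀ a : Γ(X, U), ∃ c : k, Curv2.resMap k X x c = X.residue x (X.presheaf.germ U x hx a)) :
    Function.Surjective (Curv2.resMap k X x) := by
  intro z
  obtain ⟨w, rfl⟩ := X.residue_surjective x z
  have hloc := hU.isLocalization_stalk ⟨x, hx⟩
  let _ := TopCat.Presheaf.algebra_section_stalk X.presheaf ⟨x, hx⟩
  obtain ⟨⟨a, s⟩, hs⟩ := IsLocalization.surj (hU.primeIdealOf ⟨x, hx⟩).asIdeal.primeCompl w
  obtain ⟨ca, hca⟩ := key a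
  obtain ⟨cs, hcs⟩ := key s.1
  have hunit : IsUnit (X.presheaf.germ U x hx s.1) :=
    IsLocalization.map_units (M := (hU.primeIdealOf ⟨x, hx⟩).asIdeal.primeCompl) (X.presheaf.stalk x) s
  have hs' : w * X.presheaf.germ U x hx s.1 = X.presheaf.germ U x hx a := hs
  have hne : X.residue x (X.presheaf.germ U x hx s.1) ≠ 0 := (hunit.map (X.residue x).hom).ne_zero
  have h1 := congr(X.residue x $hs')
  rw [map_mul, ← hca, ← hcs] at h1
  rw [← hcs] at hne
  refine ⟨ca / cs, ?_⟩
  have hcs0 : cs ≠ 0 := by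
    rintro rfl
    exact hne (map_zero _)
  apply mul_right_cancel₀ hne
  rw [h1, ← map_mul, div_mul_cancel₀ _ hcs0]

/-- A point with residue field `k` gives a section. -/
theorem exists_section {x : X}
    (h : Function.Surjective (Curv2.resMap k X x)) :
    ∃ s : Spec (CommRingCat.of k) ⟶ X, s ≫ (X ↘ Spec (CommRingCat.of k)) = 𝟙 _ ∧
      x ∈ Set.range s.base := by
  let ψ : CommRingCat.of k ⟶ X.residueField x := CommRingCat.ofHom (Curv2.resMap k X x)
  have hbij : Function.Bijective ψ := ⟨(Curv2.resMap k X x).injective, h⟩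
  have hp : X.fromSpecResidueField x ≫ (X ↘ Spec (CommRingCat.of k)) = Spec.map ψ :=
    CurvesB.Node.fromSpecResidueField_comp (X ↘ Spec (CommRingCat.of k)) x
  have hiso : IsIso ψ := (ConcreteCategory.isIso_iff_bijective _).mpr hbij
  refine ⟨Spec.map (inv ψ) ≫ X.fromSpecResidueField x, ?_, ?_⟩
  · rw [Category.assoc, hp, ← Spec.map_comp, IsIso.hom_inv_id, Spec.map_id]
  · refine ⟨IsLocalRing.closedPoint k, ?_⟩
    have h1 : (Spec.map (inv ψ) ≫ X.fromSpecResidueField x).base
        (IsLocalRing.closedPoint k) ∈ Set.range (X.fromSpecResidueField x).base :=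
      ⟨(Spec.map (inv ψ)).base (IsLocalRing.closedPoint k), rfl⟩
    rw [Scheme.range_fromSpecResidueField] at h1
    exact h1

/-- **Rational point**: a proper integral curve with `h⁰(O) = 1`, `h¹(O) = 0` over a `C_1` field with an invertible
module of degree two has a rational point. -/
theorem exists_point (hC : Curves.IsCi k 1) [IsIntegral X] [IsProper (X ↘ (Spec (CommRingCat.of k)))]
    (hdim : topologicalKrullDim X = 1) (h0 : Module.finrank k (Coh.HH X (Coh.structureModule X) 0) = 1)
    (hg : Curv2.genus k X = 0) (L : X.Modules) (hL : PicF.IsInvertible L) (hdeg : Curv2.deg k X L 1 = 2) :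
    ∃ s : Spec (CommRingCat.of k) ⟶ X, s ≫ (X ↘ Spec (CommRingCat.of k)) = 𝟙 _ := by
  have hN := CurvesC.CurveCoh.noetherianSpace k X
  have hNoeth : IsNoetherian X := CurvesB.CurveRR.isNoetherian_of_proper k X
  have h1 := Groth.Agent.S1635.h1_structure k X hg
  have hfr := (Groth.Agent.S1635.result k X hdim h0 hg L hL 2 two_pos hdeg).1
  have hinvW : PicF.IsInvertible (CohB1.tensorMod (CohB1.tensorMod (Coh.structureModule X) L) L) :=
    LocGen.isInvertible_tensorMod (LocGen.isInvertible_tensorMod LocGen.isInvertible_structureModule hL) hL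
  have hdegW : Curv2.deg k X (CohB1.tensorMod (CohB1.tensorMod (Coh.structureModule X) L) L) 1 = (4 : ℕ) := by
    rw [Old.H24.LinearSeries.deg_tensor k hdim.le
      (LocGen.isInvertible_tensorMod LocGen.isInvertible_structureModule hL) hL,
      Old.H24.LinearSeries.deg_tensor k hdim.le LocGen.isInvertible_structureModule hL, hdeg]
    have : Curv2.deg k X (Coh.structureModule X) 1 = 0 := by simp [Curv2.deg]
    rw [this]
    norm_num
  have hW := (Groth.Agent.S1635.result k X hdim h0 hg _ hinvW 4 (by norm_num) hdegW).1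
  have hfinW : Module.Finite k (Coh.HH X (CohB1.tensorMod (CohB1.tensorMod (Coh.structureModule X) L) L) 0) :=
    Module.finite_of_finrank_pos (by rw [hW]; norm_num)
  obtain ⟨l0, l1, l2, b1, b2, c11, c12, c22, hind, hne, hrel⟩ :=
    ConicAlg.exists_normal hC (bil (k := k) L) (fun x y => by
      apply (equivAdd _).injective
      rw [equivAdd_bil, equivAdd_bil, prd_comm hL]) hfr hW.le
  obtain ⟨x, hx1, hx2⟩ := exists_common_zero h0 hL l0 l1 l2 b1 b2 c11 c12 c22 hind hne hrel
  -- the three sections span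
  have hlin : LinearIndependent k ![l0, l1, l2] := by
    rw [Fintype.linearIndependent_iff]
    intro g hg
    rw [Fin.sum_univ_three] at hg
    obtain ⟨g0, g1, g2⟩ := hind (g 0) (g 1) (g 2) hg
    intro i
    fin_cases i
    · exact g0
    · exact g1
    · exact g2
  let b := basisOfLinearIndependentOfCardEqFinrank hlin (by rw [hfr, Fintype.card_fin])
  have hspan : ∀ r : Γ(L, ⊤), ∃ c : Fin 3 → k, r = gl k X (c 0) • equivAdd L l0 + gl k X (c 1) • equivAdd L l1 +
      gl k X (c 2) • equivAdd L l2 := by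
    intro r
    refine ⟨fun i => b.repr ((equivAdd L).symm r) i, ?_⟩
    have h := congrArg (equivAdd L) (b.sum_repr ((equivAdd L).symm r))
    rw [AddEquiv.apply_symm_apply, map_sum, Fin.sum_univ_three] at h
    refine h.symm.trans ?_
    rw [equivAdd_smul_over (A := k), equivAdd_smul_over (A := k), equivAdd_smul_over (A := k)]
    simp [b]
  set t0 := equivAdd L l0 with ht0
  set t1 := equivAdd L l1 with ht1
  set t2 := equivAdd L l2 with ht2
  have hnz : ∀ y : Coh.HH X L 0, y ≠ 0 → equivAdd L y ≠ 0 := fun y hy h =>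
    hy ((equivAdd L).injective (h.trans (map_zero _).symm))
  have hntop : ∀ y : Coh.HH X L 0, loc (equivAdd L y) ≠ ⊤ := by
    intro y h
    have hiso : IsIso (ofSec (equivAdd L y)) := by
      rw [isIso_iff_isGen, ← le_genLocus_iff]
      exact h.ge
    have h2 := (CurvesA.HHMap.equivOver k (asIso (ofSec (equivAdd L y))) 0).finrank_eq
    rw [h0, hfr] at h2
    omega
  have hl0 : l0 ≠ 0 := by
    intro h
    have := (hind 1 0 0 (by rw [h]; simp)).1
    exact one_ne_zero this
  have hl1 : l1 ≠ 0 := by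
    intro h
    have := (hind 0 1 0 (by rw [h]; simp)).2.1
    exact one_ne_zero this
  obtain ⟨t, ht⟩ := exists_complement hdim.le h1 hL (hnz l1 hl1)
  obtain ⟨t', ht'⟩ := exists_complement hdim.le h1 hL (hnz l0 hl0)
  have hx0 : x ∈ loc t0 := by
    by_contra hx0
    have hxt : x ∈ loc t1 ⊔ loc t := ht ▸ trivial
    rcases hxt with h | h
    · exact hx1 h
    · obtain ⟨c, rfl⟩ := hspan t
      exact Submodule.add_mem (nonGen hL x) (Submodule.add_mem (nonGen hL x)
        (Submodule.smul_mem (nonGen hL x) _ hx0) (Submodule.smul_mem (nonGen hL x) _ hx1))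
        (Submodule.smul_mem (nonGen hL x) _ hx2) h
  -- the open where `t0` generates is affine
  have haff : IsAffineOpen (loc t0) := by
    let s : Fin (2 + 1) → (Coh.structureModule X ⟶ L) := ![ofSec t0, ofSec t1, ofSec t2]
    have hs : ⨆ i, CohB1.genLocus L (s i) = ⊤ := by
      rw [eq_top_iff]
      intro y _
      by_contra hy
      have hy0 : y ∉ loc t0 := fun h => hy (Opens.mem_iSup.2 ⟨0, h⟩)
      have hy1 : y ∉ loc t1 := fun h => hy (Opens.mem_iSup.2 ⟨1, h⟩)
      have hy2 : y ∉ loc t2 := fun h => hy (Opens.mem_iSup.2 ⟨2, h⟩)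
      have hyt : y ∈ loc t1 ⊔ loc t := ht ▸ trivial
      rcases hyt with h | h
      · exact hy1 h
      · obtain ⟨c, rfl⟩ := hspan t
        exact Submodule.add_mem (nonGen hL y) (Submodule.add_mem (nonGen hL y)
          (Submodule.smul_mem (nonGen hL y) _ hy0) (Submodule.smul_mem (nonGen hL y) _ hy1))
          (Submodule.smul_mem (nonGen hL y) _ hy2) h
    obtain ⟨φ, hφ, hφg, hpre, -, e, -⟩ := CurvesC.ProjMap.exists_morphism (X ↘ (Spec (CommRingCat.of k))) L s hs
    have hprop : IsProper φ := by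
      have : IsProper (φ ≫ CohB1.ProjSpace.toSpec 2 k) :=
        hφg ▸ (inferInstance : IsProper (X ↘ (Spec (CommRingCat.of k))))
      exact IsProper.of_comp φ (CohB1.ProjSpace.toSpec 2 k)
    have hfin : IsFinite φ := CurvesC.FinMap.isFinite_of_cover φ hdim.le (CurvesC.ProjSpaceBasic.Dp 2 k)
      (CurvesC.ProjSpaceBasic.iSup_Dp 2 k) (fun i h => by
        rw [hpre i] at h
        fin_cases i
        · exact hntop l0 h
        · exact hntop l1 h
        · exact hntop l2 h)
    have h3 := (CurvesC.ProjSpaceBasic.isAffineOpen_Dp 2 k 0).preimage φ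
    rw [hpre 0] at h3
    exact h3
  -- all functions there are constant at `x`
  have hgen : IsGen L (loc t0) (L.presheaf.map (homOfLE (le_top : loc t0 ≤ ⊤)).op t0) := by
    rw [← sec_ofSec]; exact isGen_genLocus _
  let S : Subring Γ(X, loc t0) := ((Curv2.resMap k X x).fieldRange.toSubring).comap
    ((X.residue x).hom.comp (X.presheaf.germ (loc t0) x hx0).hom)
  have hS : ∀ a : Γ(X, loc t0), a ∈ S := by
    refine CurvesC.RatGen.mem_of_complement h1 t0 t' ht' (NoetherianSpace.isCompact _)
      (IsQuasiSeparated.of_quasiSeparatedSpace _) S ?_ ?_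
    · intro c
      obtain ⟨c, rfl⟩ := exists_const k h0 c
      refine ⟨c, ?_⟩
      change X.residue x (X.presheaf.germ ⊤ x trivial (gl k X c)) = X.residue x (X.presheaf.germ (loc t0) x hx0 _)
      rw [X.presheaf.germ_res_apply (homOfLE (le_top : loc t0 ≤ ⊤)) x hx0]
    · intro r a ha
      obtain ⟨c, rfl⟩ := hspan r
      obtain ⟨a1, ha1⟩ := hgen.exists_eq (L.presheaf.map (homOfLE (le_top : loc t0 ≤ ⊤)).op t1)
      obtain ⟨a2, ha2⟩ := hgen.exists_eq (L.presheaf.map (homOfLE (le_top : loc t0 ≤ ⊤)).op t2)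
      have hr1 : X.residue x (X.presheaf.germ (loc t0) x hx0 a1) = 0 := by
        rw [mem_loc_iff hgen t1 ha1 hx0] at hx1
        exact (IsLocalRing.residue_eq_zero_iff _).2 hx1
      have hr2 : X.residue x (X.presheaf.germ (loc t0) x hx0 a2) = 0 := by
        rw [mem_loc_iff hgen t2 ha2 hx0] at hx2
        exact (IsLocalRing.residue_eq_zero_iff _).2 hx2
      have haeq : a = X.presheaf.map (homOfLE (le_top : loc t0 ≤ ⊤)).op (gl k X (c 0)) +
          X.presheaf.map (homOfLE (le_top : loc t0 ≤ ⊤)).op (gl k X (c 1)) * a1 +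
          X.presheaf.map (homOfLE (le_top : loc t0 ≤ ⊤)).op (gl k X (c 2)) * a2 := by
        apply hgen.injective
        rw [ha, map_add, map_add, map_smul_section, map_smul_section, map_smul_section, ← ha1, ← ha2,
          add_smul, add_smul, mul_smul, mul_smul]
      refine ⟨c 0, ?_⟩
      change X.residue x (X.presheaf.germ ⊤ x trivial (gl k X (c 0))) =
        X.residue x (X.presheaf.germ (loc t0) x hx0 a)
      rw [haeq, map_add, map_add, map_mul, map_mul, map_add, map_add, map_mul, map_mul, hr1, hr2, mul_zero, mul_zero,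
        add_zero, add_zero, X.presheaf.germ_res_apply (homOfLE (le_top : loc t0 ≤ ⊤)) x hx0]
  obtain ⟨s, hs, -⟩ := exists_section (surjective_residue haff hx0 (fun a => hS a))
  exact ⟨s, hs⟩

end Point

end K330.ConicPoint
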