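import Groth.Agent.Old.H24.LinearSeries
import Groth.Agent.CurvesB.SubEuler
import Groth.Agent.VarietyA.CurveFin
import Groth.Agent.S1522
import Groth.Agent.Dix.IdealModCartier
import Groth.Agent.Ega3B.ProjFrame

/-!
# Dimension of `H^0` of line bundles on curves over an algebraically closed field

* `finrank_h0_of_deg`: `h^0(L) = deg L + 1 - g` if `deg L ≥ 2 g - 1`;
* `nonempty_pull_twist`: `r^* O(a) ⊗ r^* O(b) ≅ r^* O(a + b)`; `deg_pull_twist`.
-/

set_option autoImplicit false

universe u

open CategoryTheory AlgebraicGeometry Limits TopologicalSpace Opposite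

namespace K330.CurveDim

open Groth.Agent

section Deg

variable (k : Type u) [Field k] [IsAlgClosed k] (X : Scheme.{u}) [X.Over (Spec (CommRingCat.of k))]
  [IsIntegral X] [IsProper (X ↘ Spec (CommRingCat.of k))]

theorem finrank_h0_of_deg (hdim : topologicalKrullDim X = 1) {L : X.Modules} (hL : PicF.IsInvertible L)
    (hdeg : 2 * (Curv2.genus k X : ℤ) - 1 ≤ Curv2.deg k X L 1) :
    (Module.finrank k (Coh.HH X L 0) : ℤ) = Curv2.deg k X L 1 + 1 - Curv2.genus k X := by
  have := CurvesB.CurveRR.isNoetherian_of_proper k X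
  have h1 := S1522.result k X hdim L hL hdeg
  have h2 := CurvesB.CurveRR.deg_eq k X hdim.le L
  rw [Module.finrank_zero_of_subsingleton (M := Coh.HH X L 1), VarietyA.CurveFin.finrank_h0_structure k X] at h2
  push_cast at h2
  omega

theorem deg_eq_zero_structure : Curv2.deg k X (Coh.structureModule X) 1 = 0 := by
  simp [Curv2.deg]

end Deg

section Twist

variable {k : Type u} [Field k] {N : ℕ} {X : Scheme.{u}} (r : X ⟶ CohB1.ProjSpace N k)

theorem isInvertible_pull_twist (a : ℤ) :
    PicF.IsInvertible ((Scheme.Modules.pullback r).obj (Twist.twistProjSpace N k a)) :=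
  Fdesc.LocGen.isInvertible_pullback r (Ega3B.ProjFrame.isInvertible_twistProjSpace N k a)

theorem nonempty_mul (a b : ℤ) :
    Nonempty (CohB1.tensorMod (Twist.twistProjSpace N k a) (Twist.twistProjSpace N k b) ≅
      Twist.twistProjSpace N k (a + b)) := by
  have h := Ega3B.ProjFrame.coveredByOne N k
  have h1 := Ega2.TwistInv.isIso_mulHom h (rfl : a + b = a + b)
  exact ⟨@asIso _ _ _ _ (Ega2.TwistMul.mulHom (CohB1.polyGrading N k) (rfl : a + b = a + b)) h1⟩

theorem nonempty_pull_twist (a b : ℤ) :
    Nonempty (CohB1.tensorMod ((Scheme.Modules.pullback r).obj (Twist.twistProjSpace N k a))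
      ((Scheme.Modules.pullback r).obj (Twist.twistProjSpace N k b)) ≅
      (Scheme.Modules.pullback r).obj (Twist.twistProjSpace N k (a + b))) := by
  obtain ⟨e⟩ := nonempty_mul (k := k) (N := N) a b
  obtain ⟨e'⟩ := Dix.IdealModCartier.pullback_tensorMod r
    (Ega3B.ProjFrame.isInvertible_twistProjSpace N k a) (Ega3B.ProjFrame.isInvertible_twistProjSpace N k b)
  exact ⟨e'.symm ≪≫ (Scheme.Modules.pullback r).mapIso e⟩

variable [X.Over (Spec (CommRingCat.of k))] [IsIntegral X] [IsProper (X ↘ Spec (CommRingCat.of k))]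

theorem deg_pull_twist_add (hdim : topologicalKrullDim X ≤ 1) (a b : ℤ) :
    Curv2.deg k X ((Scheme.Modules.pullback r).obj (Twist.twistProjSpace N k (a + b))) 1 =
      Curv2.deg k X ((Scheme.Modules.pullback r).obj (Twist.twistProjSpace N k a)) 1 +
      Curv2.deg k X ((Scheme.Modules.pullback r).obj (Twist.twistProjSpace N k b)) 1 := by
  obtain ⟨e⟩ := nonempty_pull_twist r a b
  rw [← CurvesB.SubEuler.deg_congr k e]
  exact Old.H24.LinearSeries.deg_tensor k hdim (isInvertible_pull_twist r a) (isInvertible_pull_twist r b)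

end Twist

end K330.CurveDim
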