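import Groth.Agent.VBPn.K700.HDim
import Groth.Agent.ASBun.K791.Tens
import Groth.Agent.VarietyB.ClosedInter
import Groth.Agent.VarietyB.ProjForm
import Groth.Agent.S0843
import Groth.Agent.S0844
import Groth.Agent.LefPen.K568.GenericForms
import Groth.Agent.Curves.K330.CurveDim

/-!
# Push-forward of a line bundle along a morphism to `P^1`: dimensions of `H^0`

* `finrank_twist`: `h^0(P^1, O(n)) = n + 1` or `0`.
* `h0_formula`: if `π_* L ≅ ⨁ O(a_j)` then `h^0(π^*O(m) ⊗ L) = ∑ (a_j + m + 1)^+`.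
-/

set_option autoImplicit false

universe u

open CategoryTheory AlgebraicGeometry Limits TopologicalSpace Opposite

namespace K330.DoubleP1

open Groth.Agent

variable {k : Type u} [Field k]

theorem finrank_twist (n : ℤ) :
    Module.Finite k (Coh.HH (CohB1.ProjSpace 1 k) (Twist.twistProjSpace 1 k n) 0) ∧
    Module.finrank k (Coh.HH (CohB1.ProjSpace 1 k) (Twist.twistProjSpace 1 k n) 0) = (n + 1).toNat := by
  by_cases hn : 0 ≤ n
  · obtain ⟨d, rfl⟩ := Int.eq_ofNat_of_zero_le hn
    obtain ⟨e⟩ := S0843.result k 1 d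
    have h1 : Module.finrank k (LefPen.Form 1 k d) = (1 + d).choose d :=
      _root_.K568.GenericForms.finrank_form (k := k) 1 d
    have h2 : Module.finrank k (Coh.HH (CohB1.ProjSpace 1 k) (Twist.twistProjSpace 1 k (d : ℤ)) 0) = d + 1 := by
      rw [e.finrank_eq]
      refine Eq.trans h1 ?_
      rw [add_comm 1 d, Nat.choose_succ_self_right]
    refine ⟨Module.finite_of_finrank_pos (by rw [h2]; exact Nat.succ_pos d), ?_⟩
    rw [h2]
    omega
  · have h := S0844.result k 1 n 0 (fun h => hn h.2) (fun h => absurd h.1 (by norm_num))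
    refine ⟨inferInstance, ?_⟩
    rw [Module.finrank_zero_of_subsingleton]
    omega

theorem h0_formula {E : Scheme.{u}} [E.Over (Spec (CommRingCat.of k))] (π : E ⟶ CohB1.ProjSpace 1 k)
    (hπ : π ≫ CohB1.ProjSpace.toSpec 1 k = E ↘ Spec (CommRingCat.of k)) (L : E.Modules) {r : ℕ}
    (a : Fin r → ℤ) (e : (Scheme.Modules.pushforward π).obj L ≅ ∐ fun j => Twist.twistProjSpace 1 k (a j)) (m : ℤ) :
    Module.finrank k (Coh.HH E (CohB1.tensorMod ((Scheme.Modules.pullback π).obj (Twist.twistProjSpace 1 k m)) L) 0) =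
      ∑ j, (a j + m + 1).toNat := by
  have hb : VarietyB.TensCoh.HasBases (Twist.twistProjSpace 1 k m) :=
    VarietyB.TensCoh.HasBases.of_isFinLocFreeOfRank
      (Ega2.QCohLocal.isFinLocFreeOfRank_one_iff.mpr (Ega3B.ProjFrame.isInvertible_twistProjSpace 1 k m))
  rw [← VarietyB.ClosedInter.finrank_hZero_push k π hπ]
  have e1 : (Scheme.Modules.pushforward π).obj
      (CohB1.tensorMod ((Scheme.Modules.pullback π).obj (Twist.twistProjSpace 1 k m)) L) ≅
      ⨁ fun j => Twist.twistProjSpace 1 k (m + a j) :=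
    (VarietyB.ProjForm.projIso π hb L).symm ≪≫ ASBun.K791.Tens.tensMap (Iso.refl _) e ≪≫
      ASBun.K791.Tens.tensCoprod _ _ ≪≫
      (Sigma.mapIso fun j => (CurveDim.nonempty_mul (k := k) (N := 1) m (a j)).some) ≪≫
      (biproduct.isoCoproduct _).symm
  refine (K700.HDim.fr_iso k e1 0).trans ?_
  have hfin : ∀ j, Module.Finite k (Coh.HH (CohB1.ProjSpace 1 k) (Twist.twistProjSpace 1 k (m + a j)) 0) :=
    fun j => (finrank_twist (m + a j)).1
  refine (K700.HDim.biprodEquiv k (fun j => Twist.twistProjSpace 1 k (m + a j)) 0).finrank_eq.trans ?_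
  rw [Module.finrank_pi_fintype]
  exact Finset.sum_congr rfl fun j _ => by rw [(finrank_twist (m + a j)).2, add_comm m]

end K330.DoubleP1
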