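import Groth.Agent.Curves.K330.DoubleP1
import Groth.Agent.S1519
import Groth.Agent.S1564
import Groth.Agent.Pi1.K154.DegSheaf
import Groth.Agent.Krr.H495.Rank
import Groth.Agent.JacVar.K533.CurveBasic
import Groth.Agent.PerfB.PushFLF
import Groth.Agent.Lefpen.H717.ProjIrr
import Groth.Agent.CurvesC.Gen
import Groth.Agent.CurvesB.HZero

/-!
# Push-forward of line bundles along a double cover `E → P^1`, `E` of genus one
-/

set_option autoImplicit false

universe u

open CategoryTheory AlgebraicGeometry Limits TopologicalSpace Opposite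

namespace K330.DoubleSplit

open Groth.Agent K330.DoubleP1 K330.CurveDim

variable {k : Type u} [Field k] [IsAlgClosed k] {E : Scheme.{u}} [E.Over (Spec (CommRingCat.of k))]
  [IsIntegral E] [IsProper (E ↘ Spec (CommRingCat.of k))]

/-- `h^0 = deg` for positive degree in genus one. -/
theorem h0_pos (hE : topologicalKrullDim E = 1) (hg : Curv2.genus k E = 1) {M : E.Modules}
    (hM : PicF.IsInvertible M) (h : 0 < Curv2.deg k E M 1) :
    (Module.finrank k (Coh.HH E M 0) : ℤ) = Curv2.deg k E M 1 := by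
  have := finrank_h0_of_deg k E hE hM (by rw [hg]; push_cast; omega)
  rw [this, hg]
  push_cast
  ring

/-- If `deg M ≤ 0` and `h^0(M) ≠ 0` then `M ≅ O`. -/
theorem iso_of_h0 (hE : topologicalKrullDim E = 1) {M : E.Modules}
    (hM : PicF.IsInvertible M) (h : Curv2.deg k E M 1 ≤ 0)
    (h0 : Module.finrank k (Coh.HH E M 0) ≠ 0) : Nonempty (M ≅ Coh.structureModule E) := by
  have hnt : Nontrivial (Coh.HH E M 0) := by
    by_contra hn
    rw [not_nontrivial_iff_subsingleton] at hn
    exact h0 (Module.finrank_zero_of_subsingleton)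
  obtain ⟨x, hx⟩ := exists_ne (0 : Coh.HH E M 0)
  set t : Γ(M, ⊤) := CurvesB.HZero.equivAdd M x with ht
  have htne : t ≠ 0 := fun h => hx ((CurvesB.HZero.equivAdd M).injective (h.trans (map_zero _).symm))
  have hs : CurvesC.Gen.ofSec t ≠ 0 := by
    intro h
    apply htne
    rw [← CurvesC.Gen.sec_ofSec_top t, h]
    rfl
  have htop : CohB1.genLocus M (CurvesC.Gen.ofSec t) = ⊤ := by
    rw [eq_top_iff]
    intro y _
    by_contra hy
    exact absurd (S1519.result k E hE M hM _ hs y hy) (not_lt.mpr h)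
  have hiso : IsIso (CurvesC.Gen.ofSec t) := by
    rw [CurvesC.Gen.isIso_iff_isGen, ← CurvesC.Gen.le_genLocus_iff]
    exact htop.ge
  exact ⟨(asIso (CurvesC.Gen.ofSec t)).symm⟩

/-- The degree of `π^*O(m)` is linear in `m`. -/
theorem deg_pull_twist_mul (hE : topologicalKrullDim E = 1) (π : E ⟶ CohB1.ProjSpace 1 k) (m : ℤ) :
    Curv2.deg k E ((Scheme.Modules.pullback π).obj (Twist.twistProjSpace 1 k m)) 1 =
      m * Curv2.deg k E ((Scheme.Modules.pullback π).obj (Twist.twistProjSpace 1 k 1)) 1 := by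
  let f : ℤ →+ ℤ :=
    AddMonoidHom.mk' (fun m => Curv2.deg k E ((Scheme.Modules.pullback π).obj (Twist.twistProjSpace 1 k m)) 1)
      (fun a b => deg_pull_twist_add π hE.le a b)
  have h := map_zsmul f m 1
  rw [smul_eq_mul, mul_one] at h
  exact h.trans (smul_eq_mul _ _)

/-- Degrees of the twists `π^*O(m) ⊗ L`. -/
theorem deg_twist (hE : topologicalKrullDim E = 1) (π : E ⟶ CohB1.ProjSpace 1 k) {L : E.Modules}
    (hL : PicF.IsInvertible L) (m : ℤ) :
    Curv2.deg k E (CohB1.tensorMod ((Scheme.Modules.pullback π).obj (Twist.twistProjSpace 1 k m)) L) 1 =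
      m * Curv2.deg k E ((Scheme.Modules.pullback π).obj (Twist.twistProjSpace 1 k 1)) 1 + Curv2.deg k E L 1 := by
  rw [Old.H24.LinearSeries.deg_tensor k hE.le (isInvertible_pull_twist π m) hL, deg_pull_twist_mul hE]

omit [IsAlgClosed k] [E.Over (Spec (CommRingCat.of k))] [IsIntegral E] [IsProper (E ↘ Spec (CommRingCat.of k))] in
theorem pull_zero (π : E ⟶ CohB1.ProjSpace 1 k) {c c' : ℤ} (h : c + c' = 0) :
    Nonempty (CohB1.tensorMod ((Scheme.Modules.pullback π).obj (Twist.twistProjSpace 1 k c))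
      ((Scheme.Modules.pullback π).obj (Twist.twistProjSpace 1 k c')) ≅ Coh.structureModule E) := by
  obtain ⟨e⟩ := nonempty_pull_twist (k := k) π c c'
  obtain ⟨e'⟩ := ASBun.K791.Tens.twistProj_zero 1 k
  rw [h] at e
  exact ⟨e ≪≫ (Scheme.Modules.pullback π).mapIso e' ≪≫ ASBun.K791.Tens.pullUnit π⟩

omit [IsAlgClosed k] [E.Over (Spec (CommRingCat.of k))] [IsIntegral E] [IsProper (E ↘ Spec (CommRingCat.of k))] in
theorem iso_unit_iff (π : E ⟶ CohB1.ProjSpace 1 k) (L : E.Modules) (c : ℤ) : Nonempty (CohB1.tensorMod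
      ((Scheme.Modules.pullback π).obj (Twist.twistProjSpace 1 k (-c))) L ≅ Coh.structureModule E) ↔
      Nonempty (L ≅ (Scheme.Modules.pullback π).obj (Twist.twistProjSpace 1 k c)) := by
  obtain ⟨i⟩ := pull_zero (k := k) π (c := c) (c' := -c) (by ring)
  obtain ⟨j⟩ := pull_zero (k := k) π (c := -c) (c' := c) (by ring)
  constructor
  · rintro ⟨e⟩
    exact ⟨(ASBun.K791.Tens.tensLUnit L).symm ≪≫ ASBun.K791.Tens.tensMap i.symm (Iso.refl L) ≪≫
      ASBun.K791.Tens.tensAssoc _ _ _ ≪≫ ASBun.K791.Tens.tensMap (Iso.refl _) e ≪≫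
      ASBun.K791.Tens.tensRUnit _⟩
  · rintro ⟨e⟩
    exact ⟨ASBun.K791.Tens.tensMap (Iso.refl _) e ≪≫ j⟩

/-- Rank and degree of a splitting of `π_* L`. -/
theorem split_sum (hE : topologicalKrullDim E = 1) (hg : Curv2.genus k E = 1) (π : E ⟶ CohB1.ProjSpace 1 k)
    (hπ : π ≫ CohB1.ProjSpace.toSpec 1 k = E ↘ Spec (CommRingCat.of k)) {L : E.Modules} (hL : PicF.IsInvertible L)
    {r : ℕ} (a : Fin r → ℤ)
    (e : (Scheme.Modules.pushforward π).obj L ≅ ∐ fun j => Twist.twistProjSpace 1 k (a j))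
    (hΔ : 0 < Curv2.deg k E ((Scheme.Modules.pullback π).obj (Twist.twistProjSpace 1 k 1)) 1) :
    (r : ℤ) = Curv2.deg k E ((Scheme.Modules.pullback π).obj (Twist.twistProjSpace 1 k 1)) 1 ∧
      ∑ j, (a j + 1) = Curv2.deg k E L 1 := by
  set Δ := Curv2.deg k E ((Scheme.Modules.pullback π).obj (Twist.twistProjSpace 1 k 1)) 1 with hΔdef
  set d := Curv2.deg k E L 1 with hd
  set m0 : ℤ := 1 + |d| + ∑ j, |a j| with hm0
  have hS : 0 ≤ ∑ j, |a j| := Finset.sum_nonneg fun j _ => abs_nonneg _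
  have key : ∀ m : ℤ, m0 ≤ m → ∑ j, (a j + 1) + r * m = m * Δ + d := by
    intro m hm
    have hmpos : 0 < m := by
      have := abs_nonneg d
      omega
    have h1 := h0_formula π hπ L a e m
    have hinv := Fdesc.LocGen.isInvertible_tensorMod (isInvertible_pull_twist π m) hL
    have hdeg := deg_twist hE π hL m
    rw [← hΔdef, ← hd] at hdeg
    have hpos : 0 < m * Δ + d := by
      have h2 : m * 1 ≤ m * Δ := mul_le_mul_of_nonneg_left (by omega) hmpos.le
      have h3 := neg_abs_le d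
      rw [mul_one] at h2
      linarith
    have h2 := h0_pos hE hg hinv (by rw [hdeg]; exact hpos)
    rw [hdeg, h1] at h2
    rw [← h2]
    push_cast
    have h4 : ∀ j ∈ Finset.univ, (((a j + m + 1).toNat : ℕ) : ℤ) = (a j + 1) + m := by
      intro j hj
      have h5 : |a j| ≤ ∑ j, |a j| := Finset.single_le_sum (f := fun j => |a j|) (fun i _ => abs_nonneg _) hj
      have h6 := neg_abs_le (a j)
      have h7 := abs_nonneg d
      rw [Int.toNat_of_nonneg (by linarith)]
      ring
    have h5 : ∑ j, ((a j + 1) + m) = ∑ j, (a j + 1) + r * m := by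
      rw [Finset.sum_add_distrib, Finset.sum_const, Finset.card_univ, Fintype.card_fin, nsmul_eq_mul]
    rw [Finset.sum_congr rfl h4, h5]
  have h1 := key m0 le_rfl
  have h2 := key (m0 + 1) (by omega)
  have h3 : (r : ℤ) = Δ := by linarith
  refine ⟨h3, ?_⟩
  rw [h3] at h1
  linarith

/-- The degree of `π^*O(1)` is two. -/
theorem deg_eq_two (hE : topologicalKrullDim E = 1) (hg : Curv2.genus k E = 1) (π : E ⟶ CohB1.ProjSpace 1 k)
    (hπ : π ≫ CohB1.ProjSpace.toSpec 1 k = E ↘ Spec (CommRingCat.of k)) (a : Fin 2 → ℤ)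
    (e : (Scheme.Modules.pushforward π).obj (Coh.structureModule E) ≅ ∐ fun j => Twist.twistProjSpace 1 k (a j)) :
    Curv2.deg k E ((Scheme.Modules.pullback π).obj (Twist.twistProjSpace 1 k 1)) 1 = 2 := by
  have hO := Fdesc.LocGen.isInvertible_structureModule (X := E)
  have hpos : 0 < Curv2.deg k E ((Scheme.Modules.pullback π).obj (Twist.twistProjSpace 1 k 1)) 1 := by
    by_contra hneg
    rw [not_lt] at hneg
    set m : ℤ := 2 + |a 0| + |a 1| with hm
    have hmpos : 0 < m := by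
      have := abs_nonneg (a 0)
      have := abs_nonneg (a 1)
      omega
    have h1 := h0_formula π hπ _ a e m
    rw [Fin.sum_univ_two] at h1
    have hinv := Fdesc.LocGen.isInvertible_tensorMod (isInvertible_pull_twist π m) hO
    have hdeg := deg_twist hE π hO m
    have h2 := neg_abs_le (a 0)
    have h3 := neg_abs_le (a 1)
    have h4 := abs_nonneg (a 0)
    have h5 := abs_nonneg (a 1)
    have h6 : 2 ≤ Module.finrank k (Coh.HH E (CohB1.tensorMod
        ((Scheme.Modules.pullback π).obj (Twist.twistProjSpace 1 k m)) (Coh.structureModule E)) 0) := by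
      rw [h1]
      omega
    have hle : Curv2.deg k E (CohB1.tensorMod
        ((Scheme.Modules.pullback π).obj (Twist.twistProjSpace 1 k m)) (Coh.structureModule E)) 1 ≤ 0 := by
      rw [hdeg, deg_eq_zero_structure, add_zero]
      exact mul_nonpos_of_nonneg_of_nonpos hmpos.le hneg
    have hnt : Nontrivial (Coh.HH E (CohB1.tensorMod
        ((Scheme.Modules.pullback π).obj (Twist.twistProjSpace 1 k m)) (Coh.structureModule E)) 0) := by
      by_contra hn
      rw [not_nontrivial_iff_subsingleton] at hn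
      rw [Module.finrank_zero_of_subsingleton] at h6
      omega
    have h7 := (S1564.result k E hE (VarietyA.CurveFin.finrank_h0_structure k E) _ hinv hnt).1
    omega
  have := (split_sum hE hg π hπ hO a e hpos).1
  rw [← this]
  norm_num

/-- The three cases, from a splitting with `a₀ ≥ a₁`. -/
theorem cases_of_split (hE : topologicalKrullDim E = 1) (hg : Curv2.genus k E = 1) (π : E ⟶ CohB1.ProjSpace 1 k)
    (hπ : π ≫ CohB1.ProjSpace.toSpec 1 k = E ↘ Spec (CommRingCat.of k)) {L : E.Modules} (hL : PicF.IsInvertible L)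
    (hΔ : Curv2.deg k E ((Scheme.Modules.pullback π).obj (Twist.twistProjSpace 1 k 1)) 1 = 2)
    {r : ℕ} (a : Fin r → ℤ) (ha : Antitone a)
    (e : (Scheme.Modules.pushforward π).obj L ≅ ∐ fun j => Twist.twistProjSpace 1 k (a j)) :
    ∃ b : Fin 2 → ℤ, Nonempty ((Scheme.Modules.pushforward π).obj L ≅ ∐ fun j => Twist.twistProjSpace 1 k (b j)) ∧
      b 0 + b 1 + 2 = Curv2.deg k E L 1 ∧ b 1 ≤ b 0 ∧
      (∀ c : ℤ, Curv2.deg k E L 1 < 2 * c → b 0 < c) ∧
      (∀ c : ℤ, Curv2.deg k E L 1 = 2 * c →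
        (c ≤ b 0 ↔ Nonempty (L ≅ (Scheme.Modules.pullback π).obj (Twist.twistProjSpace 1 k c)))) := by
  obtain ⟨h1, h2⟩ := split_sum hE hg π hπ hL a e (by rw [hΔ]; norm_num)
  rw [hΔ] at h1
  obtain rfl : r = 2 := by exact_mod_cast h1
  rw [Fin.sum_univ_two] at h2
  have h10 : a 1 ≤ a 0 := ha (by decide)
  have hh : ∀ c : ℤ, Module.finrank k (Coh.HH E (CohB1.tensorMod
      ((Scheme.Modules.pullback π).obj (Twist.twistProjSpace 1 k (-c))) L) 0) =
      (a 0 + -c + 1).toNat + (a 1 + -c + 1).toNat := by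
    intro c
    rw [h0_formula π hπ L a e (-c), Fin.sum_univ_two]
  have hdeg : ∀ c : ℤ, Curv2.deg k E (CohB1.tensorMod
      ((Scheme.Modules.pullback π).obj (Twist.twistProjSpace 1 k (-c))) L) 1 = Curv2.deg k E L 1 - 2 * c := by
    intro c
    rw [deg_twist hE π hL, hΔ]
    ring
  have hinv : ∀ c : ℤ, PicF.IsInvertible (CohB1.tensorMod
      ((Scheme.Modules.pullback π).obj (Twist.twistProjSpace 1 k (-c))) L) := fun c =>
    Fdesc.LocGen.isInvertible_tensorMod (isInvertible_pull_twist π _) hL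
  -- `π^*O(-c) ⊗ L ≅ O` iff `L ≅ π^*O(c)`
  have htriv : ∀ c : ℤ, Nonempty (CohB1.tensorMod
      ((Scheme.Modules.pullback π).obj (Twist.twistProjSpace 1 k (-c))) L ≅ Coh.structureModule E) ↔
      Nonempty (L ≅ (Scheme.Modules.pullback π).obj (Twist.twistProjSpace 1 k c)) := fun c => iso_unit_iff π L c
  refine ⟨a, ⟨e⟩, by linarith, h10, ?_, ?_⟩
  · intro c hc
    by_contra hlt
    rw [not_lt] at hlt
    obtain ⟨i⟩ := iso_of_h0 hE (hinv c) (by rw [hdeg]; omega) (by rw [hh c]; omega)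
    have h3 := CurvesB.SubEuler.deg_congr k i (n := 1)
    rw [hdeg c, deg_eq_zero_structure] at h3
    omega
  · intro c hc
    rw [← htriv c]
    constructor
    · intro hlt
      exact iso_of_h0 hE (hinv c) (by rw [hdeg]; omega) (by rw [hh c]; omega)
    · rintro ⟨i⟩
      by_contra hlt
      rw [not_le] at hlt
      have h3 : Module.finrank k (Coh.HH E (CohB1.tensorMod
        ((Scheme.Modules.pullback π).obj (Twist.twistProjSpace 1 k (-c))) L) 0) = 1 :=
        (K700.HDim.fr_iso k i 0).trans (VarietyA.CurveFin.finrank_h0_structure k E)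
      rw [hh c] at h3
      omega

/-- Every finite locally free module on `P^1` splits (the shape of S7797). -/
def SplitP1 (k : Type u) [Field k] : Prop :=
  ∀ (r : ℕ) (F : (CohB1.ProjSpace 1 k).Modules), FlatMod.IsFinLocFreeOfRank r F →
    ∃! d : Fin r → ℤ, Antitone d ∧ Nonempty (F ≅ ∐ fun i : Fin r => Twist.twistProjSpace 1 k (d i))

theorem main (hsplit : SplitP1 k)
    (hE : topologicalKrullDim E = 1) (hg : Curv2.genus k E = 1)
    (π : E ⟶ CohB1.ProjSpace 1 k) (hπ : π ≫ CohB1.ProjSpace.toSpec 1 k = E ↘ Spec (CommRingCat.of k))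
    [IsFinite π] [Flat π] (hrk : ∀ y : ↥(CohB1.ProjSpace 1 k), Scheme.Hom.finrank π y = 2)
    (L : E.Modules) (hL : PicF.IsInvertible L) (d : ℤ) (hd : Curv2.deg k E L 1 = d) :
    (∀ e : ℤ, d = 2 * e + 1 → Nonempty ((Scheme.Modules.pushforward π).obj L ≅
        ∐ fun j : Fin 2 => Twist.twistProjSpace 1 k (![e, e - 1] j))) ∧
    (∀ e : ℤ, d = 2 * e → Nonempty (L ≅ (Scheme.Modules.pullback π).obj (Twist.twistProjSpace 1 k e)) →
        Nonempty ((Scheme.Modules.pushforward π).obj L ≅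
          ∐ fun j : Fin 2 => Twist.twistProjSpace 1 k (![e, e - 2] j))) ∧
    (∀ e : ℤ, d = 2 * e → IsEmpty (L ≅ (Scheme.Modules.pullback π).obj (Twist.twistProjSpace 1 k e)) →
        Nonempty ((Scheme.Modules.pushforward π).obj L ≅
          ∐ fun j : Fin 2 => Twist.twistProjSpace 1 k (![e - 1, e - 1] j))) := by
  have hlfp : LocallyOfFinitePresentation π := by
    have : LocallyOfFiniteType (π ≫ CohB1.ProjSpace.toSpec 1 k) := hπ ▸ inferInstance
    have h1 : LocallyOfFiniteType π := locallyOfFiniteType_of_comp π (CohB1.ProjSpace.toSpec 1 k)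
    have h2 : IsLocallyNoetherian (CohB1.ProjSpace 1 k) :=
      LocallyOfFiniteType.isLocallyNoetherian (CohB1.ProjSpace.toSpec 1 k)
    exact LocallyOfFinitePresentation.iff_locallyOfFiniteType.mpr h1
  have hconn : ConnectedSpace (CohB1.ProjSpace 1 k) := inferInstance
  have h2 : FlatMod.IsFinLocFreeOfRank 2 ((Scheme.Modules.pushforward π).obj (Coh.structureModule E)) :=
    (K154.DegSheaf.isFinLocFreeOfRank_push_iff π 2).2 hrk
  obtain ⟨a, ⟨ha, ⟨ea⟩⟩, -⟩ := hsplit 2 _ h2
  have hΔ := deg_eq_two hE hg π hπ a ea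
  obtain ⟨r, hr⟩ := Krr.H495.Rank.exists_rank_of_connected
    (PerfB.PushFLF.isFinLocFree_pushforward π (E := L) (fun x => by
      obtain ⟨U, hx, e⟩ := (Ega2.QCohLocal.isFinLocFreeOfRank_one_iff.mpr hL) x
      exact ⟨U, 1, hx, e⟩))
  obtain ⟨a', ⟨ha', ⟨ea'⟩⟩, -⟩ := hsplit r _ hr
  obtain ⟨b, ⟨eb⟩, hsum, h10, hlt, htriv⟩ := cases_of_split hE hg π hπ hL hΔ a' ha' ea'
  rw [hd] at hsum hlt htriv
  have fin : ∀ c : Fin 2 → ℤ, b 0 = c 0 → b 1 = c 1 → Nonempty ((Scheme.Modules.pushforward π).obj L ≅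
          ∐ fun j : Fin 2 => Twist.twistProjSpace 1 k (c j)) := by
    intro c h0 h1
    obtain rfl : b = c := by
      funext i
      fin_cases i
      · exact h0
      · exact h1
    exact ⟨eb⟩
  refine ⟨fun e he => ?_, fun e he hiso => ?_, fun e he hiso => ?_⟩
  · have h3 := hlt (e + 1) (by omega)
    refine fin _ ?_ ?_
    · change b 0 = e
      omega
    · change b 1 = e - 1
      omega
  · have h3 := hlt (e + 1) (by omega)
    have h4 := (htriv e he).2 hiso
    refine fin _ ?_ ?_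
    · change b 0 = e
      omega
    · change b 1 = e - 2
      omega
  · have h3 := hlt (e + 1) (by omega)
    have h4 : ¬ e ≤ b 0 := fun h => (not_nonempty_iff.2 hiso) ((htriv e he).1 h)
    refine fin _ ?_ ?_
    · change b 0 = e - 1
      omega
    · change b 1 = e - 1
      omega

end K330.DoubleSplit
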