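import Groth.Agent.Divis.EffCartier
import Groth.Prelude.Def_Hens2
import Mathlib.AlgebraicGeometry.ZariskisMainTheorem
import Mathlib.AlgebraicGeometry.Noetherian
import Mathlib.AlgebraicGeometry.Fiber
import Mathlib.AlgebraicGeometry.Morphisms.Finite
import Mathlib.Topology.KrullDimension

/-!
# Effective Cartier divisors on étale base changes cut out by finite pieces

Let `f : C ⟶ S` be separated, `V` a closed subscheme of an open `U` of `C` whose ideal is effective Cartier, and
`g : T ⟶ S` flat.  If an open piece `W` of `V ×_S T` is finite over `T`, then `W` is a closed subscheme of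
`C ×_S T` and its ideal is effective Cartier.
-/

set_option autoImplicit false
universe u
open CategoryTheory CategoryTheory.Limits AlgebraicGeometry TopologicalSpace

namespace K330.EtDiv

/-- The kernel of the base change of a closed immersion is the inverse image of the kernel. -/
lemma ker_of_isPullback {P X Y Z : Scheme.{u}} {p : P ⟶ X} {q : P ⟶ Z} {f : X ⟶ Y} {i : Z ⟶ Y}
    (sq : IsPullback p q f i) [IsClosedImmersion i] : p.ker = i.ker.comap f := by
  rw [← Scheme.IdealSheafData.ker_fst_of_isClosedImmersion, ← sq.isoPullback_hom_fst,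
    Scheme.Hom.ker_comp_of_isIso]

lemma isPullback_of_mono {A B Z : Scheme.{u}} (a : A ⟶ B) (e : B ⟶ Z) [Mono e] (i : A ⟶ Z) (h : a ≫ e = i) :
    IsPullback a (𝟙 A) e i := by
  refine ⟨⟨by rw [h, Category.id_comp]⟩, ⟨PullbackCone.IsLimit.mk _ (fun s ↦ s.snd) ?_ ?_ ?_⟩⟩
  · intro s
    rw [← cancel_mono e, Category.assoc, h, ← s.condition]
  · intro s; exact Category.comp_id _
  · intro s m _ hm
    rw [← hm, Category.comp_id]

/-- Being effective Cartier can be tested locally around the support. -/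
theorem isEff_of_forall_mem_support {X : Scheme.{u}} {I : X.IdealSheafData}
    (h : ∀ x : X, x ∈ I.support → ∃ (W : Scheme.{u}) (f : W ⟶ X) (_ : IsOpenImmersion f), x ∈ Set.range f ∧
      BlowUp.IsEffCartierIdeal (I.comap f)) : BlowUp.IsEffCartierIdeal I := by
  refine Groth.Agent.Divis.EffCartier.isEff_of_forall_comap fun x ↦ ?_
  by_cases hx : x ∈ I.support
  · exact h x hx
  · let O : X.Opens := I.support.compl
    refine ⟨O.toScheme, O.ι, inferInstance, ?_, ?_⟩
    · rw [Scheme.Opens.range_ι]; exact hx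
    · have h1 : I.comap O.ι = ⊤ := by
        rw [← Scheme.IdealSheafData.support_eq_bot_iff, Scheme.IdealSheafData.support_comap, eq_bot_iff]
        intro y hy
        exact y.2 hy
      rw [h1]
      exact Groth.Agent.Divis.EffCartier.isEff_top

/-- Every open of a closed subscheme is the trace of an open. -/
lemma exists_open_preimage {X Y : Scheme.{u}} (b : X ⟶ Y) [IsClosedImmersion b] (W : X.Opens) :
    ∃ O : Y.Opens, b ⁻¹ᵁ O = W := by
  obtain ⟨t, ht, htW⟩ := b.isClosedEmbedding.isInducing.isOpen_iff.mp W.2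
  exact ⟨⟨t, ht⟩, Opens.ext htW⟩

section

variable {C S T V : Scheme.{u}} (f : C ⟶ S) (U : C.Opens) (j : V ⟶ U.toScheme) (g : T ⟶ S)

/-- The map `V ×_S T ⟶ C ×_S T`. -/
noncomputable def toP : pullback (j ≫ U.ι ≫ f) g ⟶ pullback f g :=
  pullback.lift (pullback.fst _ _ ≫ j ≫ U.ι) (pullback.snd _ _) (by
    simp only [Category.assoc]; exact pullback.condition)

@[reassoc (attr := simp)]
lemma toP_fst : toP f U j g ≫ pullback.fst f g = pullback.fst _ _ ≫ j ≫ U.ι :=
  pullback.lift_fst _ _ _

@[reassoc (attr := simp)]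
lemma toP_snd : toP f U j g ≫ pullback.snd f g = pullback.snd _ _ :=
  pullback.lift_snd _ _ _

lemma isPullback_toP : IsPullback (pullback.fst (j ≫ U.ι ≫ f) g) (toP f U j g) (j ≫ U.ι) (pullback.fst f g) := by
  refine IsPullback.of_bot ?_ (toP_fst f U j g).symm (IsPullback.of_hasPullback f g)
  rw [toP_snd, Category.assoc]
  exact IsPullback.of_hasPullback _ _

/-- The map `V ×_S T ⟶ fst⁻¹ U`. -/
noncomputable def toU : pullback (j ≫ U.ι ≫ f) g ⟶ (pullback.fst f g ⁻¹ᵁ U).toScheme :=
  (isPullback_morphismRestrict (pullback.fst f g) U).lift (pullback.fst _ _ ≫ j) (toP f U j g)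
    (by rw [toP_fst, Category.assoc])

@[reassoc (attr := simp)]
lemma toU_ι : toU f U j g ≫ (pullback.fst f g ⁻¹ᵁ U).ι = toP f U j g :=
  (isPullback_morphismRestrict (pullback.fst f g) U).lift_snd _ _ _

@[reassoc (attr := simp)]
lemma toU_restrict : toU f U j g ≫ (pullback.fst f g ∣_ U) = pullback.fst _ _ ≫ j :=
  (isPullback_morphismRestrict (pullback.fst f g) U).lift_fst _ _ _

lemma isPullback_toU : IsPullback (toU f U j g) (pullback.fst (j ≫ U.ι ≫ f) g) (pullback.fst f g ∣_ U) j := by
  refine (IsPullback.of_bot (v₂₁ := (pullback.fst f g ⁻¹ᵁ U).ι) (v₂₂ := U.ι) (h₃₁ := pullback.fst f g) ?_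
    (toU_restrict f U j g).symm (isPullback_morphismRestrict (pullback.fst f g) U)).flip
  rw [toU_ι]
  exact isPullback_toP f U j g

variable [IsClosedImmersion j]

instance isClosedImmersion_toU : IsClosedImmersion (toU f U j g) :=
  MorphismProperty.of_isPullback (P := @IsClosedImmersion) (isPullback_toU f U j g).flip inferInstance

instance mono_toP : Mono (toP f U j g) := by
  rw [← toU_ι]; infer_instance

variable (W : (pullback (j ≫ U.ι ≫ f) g).Opens)

/-- The finite piece as a closed subscheme of `C ×_S T`. -/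
lemma isClosedImmersion_piece [IsSeparated f] (hW : IsFinite (W.ι ≫ pullback.snd (j ≫ U.ι ≫ f) g)) :
    IsClosedImmersion (W.ι ≫ toP f U j g) := by
  have h1 : IsFinite ((W.ι ≫ toP f U j g) ≫ pullback.snd f g) := by
    rw [Category.assoc, toP_snd]; exact hW
  have h2 : IsFinite (W.ι ≫ toP f U j g) := IsFinite.of_comp _ (pullback.snd f g)
  rw [IsClosedImmersion.iff_isFinite_and_mono]
  exact ⟨h2, inferInstance⟩

/-- The ideal of a finite piece of the base change is effective Cartier. -/
theorem isEff_piece [IsSeparated f] [Flat g] (hj : BlowUp.IsEffCartierIdeal j.ker)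
    (hW : IsFinite (W.ι ≫ pullback.snd (j ≫ U.ι ≫ f) g)) :
    BlowUp.IsEffCartierIdeal (W.ι ≫ toP f U j g).ker := by
  have hi := isClosedImmersion_piece f U j g W hW
  obtain ⟨O, rfl⟩ := exists_open_preimage (toU f U j g) W
  have hb : BlowUp.IsEffCartierIdeal (toU f U j g).ker := by
    rw [ker_of_isPullback (isPullback_toU f U j g)]
    exact Groth.Agent.Divis.EffCartier.isEff_comap_flat hj _
  refine isEff_of_forall_mem_support fun x hx ↦ ?_
  refine ⟨O.toScheme, O.ι ≫ (pullback.fst f g ⁻¹ᵁ U).ι, inferInstance, ?_, ?_⟩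
  · have hx' : x ∈ (closure (Set.range ((toU f U j g ⁻¹ᵁ O).ι ≫ toP f U j g)) : Set _) := by
      rw [← Scheme.Hom.support_ker]; exact hx
    rw [(Scheme.Hom.isClosedEmbedding ((toU f U j g ⁻¹ᵁ O).ι ≫ toP f U j g)).isClosed_range.closure_eq] at hx'
    obtain ⟨w, rfl⟩ := hx'
    refine ⟨(toU f U j g ∣_ O) w, ?_⟩
    rw [← Scheme.Hom.comp_apply, morphismRestrict_ι_assoc, toU_ι]
  · have h1 : (toU f U j g ∣_ O) ≫ O.ι ≫ (pullback.fst f g ⁻¹ᵁ U).ι = (toU f U j g ⁻¹ᵁ O).ι ≫ toP f U j g := by
      rw [morphismRestrict_ι_assoc, toU_ι]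
    have sq := isPullback_of_mono _ _ _ h1
    rw [← ker_of_isPullback sq, ker_of_isPullback (isPullback_morphismRestrict (toU f U j g) O)]
    exact Groth.Agent.Divis.EffCartier.isEff_comap_flat hb _

/-- The support of the ideal of a finite piece. -/
theorem mem_support_piece [IsSeparated f] (hW : IsFinite (W.ι ≫ pullback.snd (j ≫ U.ι ≫ f) g))
    (y : ↑(pullback f g)) :
    y ∈ (W.ι ≫ toP f U j g).ker.support ↔ ∃ w ∈ W, toP f U j g w = y := by
  have hi := isClosedImmersion_piece f U j g W hW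
  have h1 : y ∈ (W.ι ≫ toP f U j g).ker.support ↔ y ∈ (closure (Set.range (W.ι ≫ toP f U j g)) : Set _) := by
    rw [← Scheme.Hom.support_ker]; rfl
  rw [h1, (Scheme.Hom.isClosedEmbedding (W.ι ≫ toP f U j g)).isClosed_range.closure_eq]
  constructor
  · rintro ⟨w, rfl⟩
    exact ⟨w.1, w.2, by rw [Scheme.Hom.comp_apply]; rfl⟩
  · rintro ⟨w, hw, rfl⟩
    exact ⟨⟨w, hw⟩, Scheme.Hom.comp_apply _ _ _⟩

end

end K330.EtDiv
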