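import Mathlib.AlgebraicGeometry.ZariskisMainTheorem
import Mathlib.AlgebraicGeometry.Noetherian
import Mathlib.AlgebraicGeometry.Fiber
import Mathlib.AlgebraicGeometry.Morphisms.Finite
import Mathlib.Topology.KrullDimension

/-!
# Points of fibres of dimension at most one where a fibrewise nonzerodivisor vanishes
-/

set_option autoImplicit false
universe u
open CategoryTheory CategoryTheory.Limits AlgebraicGeometry TopologicalSpace

namespace K330.EtPt

section Top

variable {Z : Type*} [TopologicalSpace Z]

/-- In a `T₀` space of dimension at most one there is no chain of three distinct specializations. -/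
lemma no_chain [T0Space Z] (hdim : topologicalKrullDim Z ≤ 1) {a b c : Z} (hab : a ⤳ b) (hbc : b ⤳ c)
    (h1 : a ≠ b) : b = c := by
  by_contra h2
  let A : IrreducibleCloseds Z := ⟨closure {a}, isIrreducible_singleton.closure, isClosed_closure⟩
  let B : IrreducibleCloseds Z := ⟨closure {b}, isIrreducible_singleton.closure, isClosed_closure⟩
  let D : IrreducibleCloseds Z := ⟨closure {c}, isIrreducible_singleton.closure, isClosed_closure⟩
  have lt : ∀ {p q : Z}, p ⤳ q → p ≠ q → (closure {q} : Set Z) ⊂ closure {p} := by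
    intro p q hpq hne
    refine ⟨hpq.closure_subset, fun h ↦ hne ?_⟩
    have hqp : q ⤳ p := by
      rw [specializes_iff_closure_subset]; exact h
    exact (hpq.antisymm hqp).eq
  have h3 : B < A := lt hab h1
  have h4 : D < B := lt hbc h2
  let s : LTSeries (IrreducibleCloseds Z) :=
    { length := 2
      toFun := ![D, B, A]
      step := by
        intro i
        fin_cases i
        · exact h4
        · exact h3 }
  have h5 : (s.length : WithBot ℕ∞) ≤ topologicalKrullDim Z := Order.LTSeries.length_le_krullDim s
  have h6 : s.length = 2 := rfl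
  rw [h6] at h5
  have h7 := h5.trans hdim
  norm_cast at h7

/-- A closed point stable under generalization in a Noetherian sober space is open. -/
lemma isOpen_singleton_of_noeth [NoetherianSpace Z] [QuasiSober Z] [T0Space Z] (x : Z) (hc : IsClosed ({x} : Set Z))
    (hg : StableUnderGeneralization ({x} : Set Z)) : IsOpen ({x} : Set Z) := by
  have h1 : ({x} : Set Z) ∈ irreducibleComponents Z := by
    refine ⟨isIrreducible_singleton, fun T hT hxT ↦ ?_⟩
    obtain ⟨η, hη⟩ := QuasiSober.sober hT.closure isClosed_closure
    have h2 : η ⤳ x := hη.specializes (subset_closure (hxT rfl))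
    have h3 : η = x := hg h2 rfl
    subst h3
    rw [IsGenericPoint, hc.closure_eq] at hη
    rw [hη]
    exact subset_closure
  obtain ⟨o, ho, hne, hoZ⟩ := NoetherianSpace.exists_isOpen_nonempty_subset_irreducibleComponent _ h1
  have h4 : o = {x} := by
    refine Set.Subset.antisymm hoZ ?_
    obtain ⟨y, hy⟩ := hne
    have := hoZ hy
    rw [Set.mem_singleton_iff] at this
    subst this
    exact Set.singleton_subset_iff.mpr hy
  rw [← h4]; exact ho

end Top

/-- A closed point stable under generalization in a locally Noetherian scheme is open. -/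
lemma isOpen_singleton (G : Scheme.{u}) [IsLocallyNoetherian G] (x : G) (hc : IsClosed ({x} : Set G))
    (hg : StableUnderGeneralization ({x} : Set G)) : IsOpen ({x} : Set G) := by
  obtain ⟨U, hU, hxU, -⟩ := exists_isAffineOpen_mem_and_subset (U := ⊤) (x := x) trivial
  have h1 : IsNoetherianRing Γ(G, U) := IsLocallyNoetherian.component_noetherian ⟨U, hU⟩
  have h2 : NoetherianSpace U.toScheme := noetherianSpace_of_isAffineOpen U hU
  let x' : U.toScheme := ⟨x, hxU⟩
  have hx' : U.ι x' = x := rfl
  have h3 : IsOpen ({x'} : Set U.toScheme) := by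
    refine isOpen_singleton_of_noeth (Z := U.toScheme) x' ?_ ?_
    · have : ({x'} : Set U.toScheme) = U.ι ⁻¹' {x} := by
        ext y
        simp only [Set.mem_singleton_iff, Set.mem_preimage]
        constructor
        · rintro rfl; exact hx'
        · intro h; exact U.ι.isOpenEmbedding.injective (h.trans hx'.symm)
      rw [this]
      exact hc.preimage U.ι.continuous
    · intro b a hab hb
      have h5 : U.ι b = x := by rw [Set.mem_singleton_iff.mp hb]; exact hx'
      have h6 : U.ι a ⤳ x := h5 ▸ hab.map U.ι.continuous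
      exact U.ι.isOpenEmbedding.injective ((hg h6 rfl : U.ι a ∈ ({x} : Set G)).trans hx'.symm)
  have h4 := U.ι.isOpenEmbedding.isOpenMap _ h3
  rw [Set.image_singleton, hx'] at h4
  exact h4

section

variable {C S : Scheme.{u}} (f : C ⟶ S)

/-- The points of the fibre through `x` on which a fibrewise nonzerodivisor at `x` vanishes: only `x`, when the fibre has
dimension at most one. -/
theorem eq_of_specializes (x : C) (hdim : topologicalKrullDim (f.fiber (f x)) ≤ 1) (h : C.presheaf.stalk x)
    (hreg : Ideal.Quotient.mk (Ideal.map (f.stalkMap x).hom (IsLocalRing.maximalIdeal (S.presheaf.stalk (f x)))) h ∈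
      nonZeroDivisors (C.presheaf.stalk x ⧸ Ideal.map (f.stalkMap x).hom
        (IsLocalRing.maximalIdeal (S.presheaf.stalk (f x)))))
    (y : C) (hy : y ⤳ x) (hf : f y = f x)
    (hh : (C.presheaf.stalkSpecializes hy).hom h ∈ IsLocalRing.maximalIdeal (C.presheaf.stalk y)) : y = x := by
  set m := IsLocalRing.maximalIdeal (S.presheaf.stalk (f x)) with hm
  set I := Ideal.map (f.stalkMap x).hom m with hI
  -- points of the fibre are the primes containing `I`
  have key : ∀ P : Spec (C.presheaf.stalk x), I ≤ P.asIdeal ↔ f (C.fromSpecStalk x P) = f x := by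
    intro P
    have h1 : f (C.fromSpecStalk x P) = S.fromSpecStalk (f x) (Spec.map (f.stalkMap x) P) := by
      rw [← Scheme.Hom.comp_apply, ← Scheme.SpecMap_stalkMap_fromSpecStalk, Scheme.Hom.comp_apply]
    have h2 : S.fromSpecStalk (f x) (IsLocalRing.closedPoint (S.presheaf.stalk (f x))) = f x :=
      Scheme.fromSpecStalk_closedPoint
    have h3 : f (C.fromSpecStalk x P) = f x ↔
        Spec.map (f.stalkMap x) P = IsLocalRing.closedPoint (S.presheaf.stalk (f x)) := by
      rw [h1]
      conv_lhs => rhs; rw [← h2]
      exact (S.fromSpecStalk (f x)).isEmbedding.injective.eq_iff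
    rw [h3, hI, Ideal.map_le_iff_le_comap]
    constructor
    · intro hP
      refine PrimeSpectrum.ext ?_
      exact ((IsLocalRing.maximalIdeal.isMaximal (S.presheaf.stalk (f x))).eq_of_le
        ((Spec.map (f.stalkMap x) P).isPrime.ne_top) hP).symm
    · intro hP
      have h4 : (Spec.map (f.stalkMap x) P).asIdeal = m := by rw [hP]; rfl
      exact h4.symm.le
  -- the prime of `y`
  let Py : Spec (C.presheaf.stalk x) :=
    Spec.map (C.presheaf.stalkSpecializes hy) (IsLocalRing.closedPoint (C.presheaf.stalk y))
  have hPy : C.fromSpecStalk x Py = y := by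
    have h0 : C.fromSpecStalk x Py = (Spec.map (C.presheaf.stalkSpecializes hy) ≫ C.fromSpecStalk x)
      (IsLocalRing.closedPoint (C.presheaf.stalk y)) := (Scheme.Hom.comp_apply _ _ _).symm
    rw [h0, Scheme.SpecMap_stalkSpecializes_fromSpecStalk]
    exact Scheme.fromSpecStalk_closedPoint
  have hhPy : h ∈ Py.asIdeal := hh
  have hIPy : I ≤ Py.asIdeal := (key Py).mpr (by rw [hPy, hf])
  -- a minimal prime of the local ring of the fibre below it
  have hPyp : Py.asIdeal.IsPrime := Py.isPrime
  have hprime : (Py.asIdeal.map (Ideal.Quotient.mk I)).IsPrime :=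
    Ideal.map_isPrime_of_surjective Ideal.Quotient.mk_surjective (by rw [Ideal.mk_ker]; exact hIPy)
  obtain ⟨q', hq', hq'le⟩ := Ideal.exists_minimalPrimes_le (bot_le : ⊥ ≤ Py.asIdeal.map (Ideal.Quotient.mk I))
  have hq'p : q'.IsPrime := hq'.1.1
  have hhq' : Ideal.Quotient.mk I h ∉ q' := fun hc ↦
    notMem_nonZeroDivisors_of_mem_mem_minimalPrimes hc hq' hreg
  let q : Spec (C.presheaf.stalk x) := ⟨q'.comap (Ideal.Quotient.mk I), inferInstance⟩
  have hqP : q.asIdeal ≤ Py.asIdeal := by
    have h5 := Ideal.comap_mono (f := Ideal.Quotient.mk I) hq'le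
    rwa [Ideal.comap_map_of_surjective _ Ideal.Quotient.mk_surjective, ← RingHom.ker_eq_comap_bot, Ideal.mk_ker,
      sup_eq_left.mpr hIPy] at h5
  have hIq : I ≤ q.asIdeal := by
    intro a ha
    change Ideal.Quotient.mk I a ∈ q'
    rw [Ideal.Quotient.eq_zero_iff_mem.mpr ha]; exact q'.zero_mem
  have hsp : q ⤳ Py := (PrimeSpectrum.le_iff_specializes q Py).mp hqP
  have hzy : C.fromSpecStalk x q ⤳ y := by
    have := hsp.map (C.fromSpecStalk x).continuous
    rwa [hPy] at this
  have hne : C.fromSpecStalk x q ≠ y := by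
    intro hc
    rw [← hPy] at hc
    have h6 := (C.fromSpecStalk x).isEmbedding.injective hc
    apply hhq'
    have h7 : h ∈ q.asIdeal := by rw [h6]; exact hhPy
    exact h7
  have hfz : f (C.fromSpecStalk x q) = f x := (key q).mp hIq
  -- lift to the fibre
  have hr := f.range_fiberι (f x)
  have lift : ∀ w : C, f w = f x → ∃ w' : f.fiber (f x), f.fiberι (f x) w' = w := by
    intro w hw
    have : w ∈ Set.range (f.fiberι (f x)) := by rw [hr]; exact hw
    exact this
  obtain ⟨z', hz'⟩ := lift _ hfz
  obtain ⟨y', hy'⟩ := lift _ hf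
  obtain ⟨x', hx'⟩ := lift _ rfl
  have hind := (f.fiberι (f x)).isEmbedding.isInducing
  have h8 : z' ⤳ y' := by rw [← hind.specializes_iff, hz', hy']; exact hzy
  have h9 : y' ⤳ x' := by rw [← hind.specializes_iff, hy', hx']; exact hy
  have h10 : z' ≠ y' := fun hc ↦ hne (by rw [← hz', hc, hy'])
  rw [← hy', no_chain hdim h8 h9 h10, hx']

end

end K330.EtPt
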