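import Groth.Agent.Curves.K330.EtDiv
import Groth.Agent.Curves.K330.EtPt
import Groth.Agent.Grpsch.EtLoc
import Groth.Agent.S1348

/-!
# A divisor through one good point, after an elementary étale base change
-/

set_option autoImplicit false
universe u
open CategoryTheory CategoryTheory.Limits AlgebraicGeometry TopologicalSpace

namespace K330.EtDiv

/-- The ideal of `V(a)` in an affine scheme is effective Cartier for a nonzerodivisor `a`. -/
theorem isEff_specMap {R : Type u} [CommRing R] (a : R) (ha : a ∈ nonZeroDivisors R) :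
    BlowUp.IsEffCartierIdeal (Spec.map (CommRingCat.ofHom (Ideal.Quotient.mk (Ideal.span {a})))).ker := by
  intro x
  have hinj : Function.Injective (Scheme.ΓSpecIso (CommRingCat.of R)).hom.hom :=
    ((ConcreteCategory.isIso_iff_bijective _).mp inferInstance).1
  have h3 : ∀ b : R,
      (Scheme.ΓSpecIso (CommRingCat.of R)).hom.hom ((Scheme.ΓSpecIso (CommRingCat.of R)).inv.hom b) = b := by
    intro b
    rw [← RingHom.comp_apply, ← CommRingCat.hom_comp, Iso.inv_hom_id]; rfl
  refine ⟨⟨⊤, isAffineOpen_top _⟩, trivial, (Scheme.ΓSpecIso (CommRingCat.of R)).inv.hom a, ?_, ?_⟩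
  · rw [mem_nonZeroDivisors_iff_right]
    intro b hb
    apply hinj
    have h2 := congrArg (Scheme.ΓSpecIso (CommRingCat.of R)).hom.hom hb
    rw [map_mul, map_zero, h3] at h2
    rw [map_zero]
    exact (mem_nonZeroDivisors_iff_right.mp ha) _ h2
  · rw [Scheme.Hom.ker_apply]
    ext b
    have hS : Function.Injective
        (Scheme.ΓSpecIso (CommRingCat.of (R ⧸ Ideal.span {a}))).hom.hom :=
      ((ConcreteCategory.isIso_iff_bijective _).mp inferInstance).1
    have hnat := congrArg (fun φ ↦ φ.hom b)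
      (Scheme.ΓSpecIso_naturality (CommRingCat.ofHom (Ideal.Quotient.mk (Ideal.span {a}))))
    have hnat' : (Scheme.ΓSpecIso (CommRingCat.of (R ⧸ Ideal.span {a}))).hom.hom
        (((Spec.map (CommRingCat.ofHom (Ideal.Quotient.mk (Ideal.span {a})))).app ⊤).hom b) =
        Ideal.Quotient.mk (Ideal.span {a}) ((Scheme.ΓSpecIso (CommRingCat.of R)).hom.hom b) := hnat
    have e1 : (((Spec.map (CommRingCat.ofHom (Ideal.Quotient.mk (Ideal.span {a})))).app ⊤).hom b = 0) ↔
        Ideal.Quotient.mk (Ideal.span {a}) ((Scheme.ΓSpecIso (CommRingCat.of R)).hom.hom b) = 0 := by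
      rw [← hnat']
      exact (map_eq_zero_iff _ hS).symm
    refine (RingHom.mem_ker.trans e1).trans ?_
    rw [Ideal.Quotient.eq_zero_iff_mem, Ideal.mem_span_singleton, Ideal.mem_span_singleton]
    constructor
    · rintro ⟨c, hc⟩
      refine ⟨(Scheme.ΓSpecIso (CommRingCat.of R)).inv.hom c, hinj ?_⟩
      rw [map_mul, h3, h3]; exact hc
    · rintro ⟨c, hc⟩
      refine ⟨(Scheme.ΓSpecIso (CommRingCat.of R)).hom.hom c, ?_⟩
      rw [hc, map_mul, h3]

section

variable {C S : Scheme.{u}} {U : C.Opens} (hU : IsAffineOpen U) (h' : Γ(C, U))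

/-- The closed subscheme `V(h')` of the affine open `U`. -/
noncomputable def jOf : Spec (CommRingCat.of (Γ(C, U) ⧸ Ideal.span {h'})) ⟶ U.toScheme :=
  Spec.map (CommRingCat.ofHom (Ideal.Quotient.mk (Ideal.span {h'}))) ≫ hU.isoSpec.inv

instance : IsClosedImmersion (jOf hU h') := by
  have : IsClosedImmersion (Spec.map (CommRingCat.ofHom (Ideal.Quotient.mk (Ideal.span {h'})))) :=
    IsClosedImmersion.spec_of_surjective _ Ideal.Quotient.mk_surjective
  exact inferInstanceAs (IsClosedImmersion (_ ≫ _))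

lemma jOf_ι : jOf hU h' ≫ U.ι = Spec.map (CommRingCat.ofHom (Ideal.Quotient.mk (Ideal.span {h'}))) ≫ hU.fromSpec := by
  rw [jOf, Category.assoc, IsAffineOpen.isoSpec_inv_ι]

lemma isEff_jOf (hn : h' ∈ nonZeroDivisors Γ(C, U)) : BlowUp.IsEffCartierIdeal (jOf hU h').ker := by
  have : IsClosedImmersion (Spec.map (CommRingCat.ofHom (Ideal.Quotient.mk (Ideal.span {h'})))) :=
    IsClosedImmersion.spec_of_surjective _ Ideal.Quotient.mk_surjective
  have h1 : jOf hU h' ≫ hU.isoSpec.hom = Spec.map (CommRingCat.ofHom (Ideal.Quotient.mk (Ideal.span {h'}))) := by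
    rw [jOf, Category.assoc, Iso.inv_hom_id, Category.comp_id]
  rw [ker_of_isPullback (isPullback_of_mono _ _ _ h1)]
  exact Groth.Agent.Divis.EffCartier.isEff_comap_flat (isEff_specMap h' hn) _

/-- The points of `V(h')`. -/
lemma mem_range_jOf_iff (y : C) (hy : y ∈ U) :
    y ∈ Set.range (jOf hU h' ≫ U.ι) ↔ (C.presheaf.germ U y hy).hom h' ∈ IsLocalRing.maximalIdeal (C.presheaf.stalk y) := by
  have h1 : (C.presheaf.germ U y hy).hom h' ∈ IsLocalRing.maximalIdeal (C.presheaf.stalk y) ↔ y ∉ C.basicOpen h' := by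
    rw [IsLocalRing.mem_maximalIdeal, mem_nonunits_iff, Scheme.mem_basicOpen _ _ _ hy]
  have h2 : hU.fromSpec (hU.primeIdealOf ⟨y, hy⟩) = y := hU.fromSpec_primeIdealOf ⟨y, hy⟩
  have h3 : y ∈ C.basicOpen h' ↔ h' ∉ (hU.primeIdealOf ⟨y, hy⟩).asIdeal := by
    conv_lhs => rw [← h2]
    change hU.primeIdealOf ⟨y, hy⟩ ∈ hU.fromSpec ⁻¹ᵁ C.basicOpen h' ↔ _
    rw [hU.fromSpec_preimage_basicOpen]
    rfl
  rw [h1, h3, not_not, jOf_ι]
  have hinj : Function.Injective hU.fromSpec := hU.fromSpec.isOpenEmbedding.injective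
  have h4 : y ∈ Set.range (Spec.map (CommRingCat.ofHom (Ideal.Quotient.mk (Ideal.span {h'}))) ≫ hU.fromSpec) ↔
      hU.primeIdealOf ⟨y, hy⟩ ∈ Set.range (Spec.map (CommRingCat.ofHom (Ideal.Quotient.mk (Ideal.span {h'})))) := by
    constructor
    · rintro ⟨v, hv⟩
      refine ⟨v, hinj ?_⟩
      rw [h2, ← hv, Scheme.Hom.comp_apply]
    · rintro ⟨v, hv⟩
      refine ⟨v, ?_⟩
      rw [Scheme.Hom.comp_apply, hv, h2]
  rw [h4]
  have h5 := _root_.range_comap_of_surjective (Γ(C, U) ⧸ Ideal.span {h'}) (Ideal.Quotient.mk (Ideal.span {h'}))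
    Ideal.Quotient.mk_surjective
  have h6 : Set.range (Spec.map (CommRingCat.ofHom (Ideal.Quotient.mk (Ideal.span {h'})))) =
      PrimeSpectrum.zeroLocus (RingHom.ker (Ideal.Quotient.mk (Ideal.span {h'}))) := h5
  rw [h6, Ideal.mk_ker, PrimeSpectrum.zeroLocus_span]
  exact ⟨fun h ↦ h rfl, fun h ↦ Set.singleton_subset_iff.mpr h⟩

/-- The point `x` is the only point of its fibre where the fibrewise nonzerodivisor `h'` vanishes, so `V(h')` is
quasi-finite at `x`. -/
theorem quasiFiniteAt (f : C ⟶ S) [LocallyOfFiniteType f] (x : C) (hdim : topologicalKrullDim (f.fiber (f x)) ≤ 1)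
    (hcl : IsClosed ({f.asFiber x} : Set (f.fiber (f x)))) (hxU : x ∈ U)
    (hreg : Ideal.Quotient.mk (Ideal.map (f.stalkMap x).hom (IsLocalRing.maximalIdeal (S.presheaf.stalk (f x))))
      ((C.presheaf.germ U x hxU).hom h') ∈
      nonZeroDivisors (C.presheaf.stalk x ⧸ Ideal.map (f.stalkMap x).hom
        (IsLocalRing.maximalIdeal (S.presheaf.stalk (f x)))))
    (v : Spec (CommRingCat.of (Γ(C, U) ⧸ Ideal.span {h'}))) (hv : (jOf hU h' ≫ U.ι) v = x)
    [hlft : LocallyOfFiniteType (jOf hU h' ≫ U.ι ≫ f)] :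
    (jOf hU h' ≫ U.ι ≫ f).QuasiFiniteAt v := by
  set q := jOf hU h' ≫ U.ι ≫ f with hq
  have hqv : ∀ w, q w = f ((jOf hU h' ≫ U.ι) w) := by
    intro w
    rw [hq, ← Category.assoc, Scheme.Hom.comp_apply]
  have hinj : Function.Injective (jOf hU h' ≫ U.ι) := by
    intro a b hab
    rw [Scheme.Hom.comp_apply, Scheme.Hom.comp_apply] at hab
    exact (jOf hU h').isClosedEmbedding.injective (U.ι.isOpenEmbedding.injective hab)
  rw [Scheme.Hom.quasiFiniteAt_iff_isOpen_singleton_asFiber]
  have hlft' : LocallyOfFiniteType (q.fiberToSpecResidueField (q v)) :=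
    inferInstanceAs (LocallyOfFiniteType (pullback.snd q (S.fromSpecResidueField (q v))))
  have hn : IsLocallyNoetherian (q.fiber (q v)) :=
    LocallyOfFiniteType.isLocallyNoetherian (q.fiberToSpecResidueField (q v))
  have hfa : ∀ a : q.fiber (q v), q (q.fiberι (q v) a) = f x := by
    intro a
    have h1 : q.fiberι (q v) a ∈ q ⁻¹' {q v} := by rw [← q.range_fiberι]; exact ⟨a, rfl⟩
    rw [show q (q.fiberι (q v) a) = q v from h1, hqv, hv]
  have heq : ∀ a : q.fiber (q v), (jOf hU h' ≫ U.ι) (q.fiberι (q v) a) = x → a = q.asFiber v := by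
    intro a ha
    apply (q.fiberι (q v)).isEmbedding.injective
    rw [q.fiberι_asFiber]
    exact hinj (ha.trans hv.symm)
  refine K330.EtPt.isOpen_singleton _ _ ?_ ?_
  · obtain ⟨K, hK, hKx⟩ := (f.fiberι (f x)).isEmbedding.isInducing.isClosed_iff.mp hcl
    have h1 : ({q.asFiber v} : Set (q.fiber (q v))) =
        (fun a ↦ (jOf hU h' ≫ U.ι) (q.fiberι (q v) a)) ⁻¹' K := by
      ext a
      simp only [Set.mem_singleton_iff, Set.mem_preimage]
      constructor
      · rintro rfl
        rw [q.fiberι_asFiber, hv]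
        have h2 : f.asFiber x ∈ (f.fiberι (f x)) ⁻¹' K := by rw [hKx]; rfl
        rw [Set.mem_preimage, f.fiberι_asFiber] at h2
        exact h2
      · intro ha
        apply heq
        have h3 : (jOf hU h' ≫ U.ι) (q.fiberι (q v) a) ∈ Set.range (f.fiberι (f x)) := by
          rw [f.range_fiberι]
          change f _ = f x
          rw [← hqv, hfa]
        obtain ⟨b, hb⟩ := h3
        have h4 : b ∈ (f.fiberι (f x)) ⁻¹' K := by rw [Set.mem_preimage, hb]; exact ha
        rw [hKx, Set.mem_singleton_iff] at h4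
        rw [← hb, h4, f.fiberι_asFiber]
    rw [h1]
    exact hK.preimage ((jOf hU h' ≫ U.ι).continuous.comp (q.fiberι (q v)).continuous)
  · intro b a hab hb
    rw [Set.mem_singleton_iff] at hb
    subst hb
    refine heq a ?_
    have h5 : (jOf hU h' ≫ U.ι) (q.fiberι (q v) a) ⤳ x := by
      have := (hab.map (q.fiberι (q v)).continuous).map (jOf hU h' ≫ U.ι).continuous
      rwa [q.fiberι_asFiber, hv] at this
    set y := (jOf hU h' ≫ U.ι) (q.fiberι (q v) a) with hy
    have hyU : y ∈ U := h5.mem_open U.2 hxU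
    have h6 := (mem_range_jOf_iff hU h' y hyU).mp ⟨_, rfl⟩
    refine K330.EtPt.eq_of_specializes f x hdim _ hreg y h5 ?_ ?_
    · rw [hy, ← hqv, hfa]
    · have h7 := congrArg (fun φ ↦ φ.hom h') (C.presheaf.germ_stalkSpecializes hxU h5)
      have h8 : (C.presheaf.stalkSpecializes h5).hom ((C.presheaf.germ U x hxU).hom h') =
          (C.presheaf.germ U y hyU).hom h' := h7
      rw [h8]; exact h6

end

end K330.EtDiv
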