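import Groth.Agent.Curves.K330.EtDiv2
import Groth.Agent.Flat2D.EtNbhd

/-!
# A divisor through finitely many good points, after an elementary étale base change
-/

set_option autoImplicit false
universe u
open CategoryTheory CategoryTheory.Limits AlgebraicGeometry TopologicalSpace
open Groth.Agent.Grpsch.EtLoc

namespace K330.EtDiv

variable {C S : Scheme.{u}} (f : C ⟶ S)

/-- `C ×_S T` carries an effective Cartier divisor meeting the fibre over `t` exactly in the points over `A`. -/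
def HasDiv (A : Set C) {T : Scheme.{u}} (g : T ⟶ S) (t : T) : Prop :=
  ∃ D : (pullback f g).IdealSheafData, BlowUp.IsEffCartierIdeal D ∧
    ∀ y : ↥(pullback f g), pullback.snd f g y = t → (y ∈ D.support ↔ pullback.fst f g y ∈ A)

variable {f}

lemma HasDiv.refine {A : Set C} {T : Scheme.{u}} {g : T ⟶ S} {t : T} (H : HasDiv f A g t) {T' : Scheme.{u}}
    (h : T' ⟶ T) [Flat h] (t' : T') (ht : h t' = t) (g' : T' ⟶ S) (e : h ≫ g = g') : HasDiv f A g' t' := by
  obtain ⟨D, hD, hDt⟩ := H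
  have sq := isPullback_refineMap f g h g' e
  have hfl : Flat (refineMap f g h g' e) := MorphismProperty.of_isPullback sq.flip inferInstance
  refine ⟨D.comap (refineMap f g h g' e), Groth.Agent.Divis.EffCartier.isEff_comap_flat hD _, fun y hy ↦ ?_⟩
  have h1 : pullback.snd f g (refineMap f g h g' e y) = t := by
    rw [← Scheme.Hom.comp_apply, refineMap_snd, Scheme.Hom.comp_apply, hy, ht]
  have h2 : pullback.fst f g (refineMap f g h g' e y) = pullback.fst f g' y := by
    rw [← Scheme.Hom.comp_apply, refineMap_fst]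
  rw [Scheme.IdealSheafData.support_comap, ← h2]
  exact hDt _ h1

lemma HasDiv.mul {A B : Set C} {T : Scheme.{u}} {g : T ⟶ S} {t : T} (H : HasDiv f A g t) (H' : HasDiv f B g t) :
    HasDiv f (A ∪ B) g t := by
  obtain ⟨D, hD, hDt⟩ := H
  obtain ⟨E, hE, hEt⟩ := H'
  refine ⟨D * E, Groth.Agent.Divis.EffCartier.isEff_mul hD hE, fun y hy ↦ ?_⟩
  rw [Scheme.IdealSheafData.support_mul, Set.mem_union, ← hDt y hy, ← hEt y hy]
  rfl

variable (f)

/-- `x` is a closed point of its fibre and there is a fibrewise nonzerodivisor in the maximal ideal at `x`. -/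
def Good (x : C) : Prop :=
  IsClosed ({f.asFiber x} : Set (f.fiber (f x))) ∧
    ∃ h ∈ IsLocalRing.maximalIdeal (C.presheaf.stalk x),
      Ideal.Quotient.mk (Ideal.map (f.stalkMap x).hom (IsLocalRing.maximalIdeal (S.presheaf.stalk (f x)))) h ∈
        nonZeroDivisors (C.presheaf.stalk x ⧸ Ideal.map (f.stalkMap x).hom
          (IsLocalRing.maximalIdeal (S.presheaf.stalk (f x))))

/-- A divisor through one good point, after an elementary étale base change. -/
theorem exists_single [Flat f] [LocallyOfFinitePresentation f] [IsSeparated f] (x : C)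
    (hdim : topologicalKrullDim (f.fiber (f x)) ≤ 1) (hx : Good f x) :
    ∃ (T : Scheme.{u}) (g : T ⟶ S) (t : T), Hens2.IsEtaleNbhd g t (f x) ∧ HasDiv f {x} g t := by
  obtain ⟨hcl, h, hm, hreg⟩ := hx
  obtain ⟨U, hU, hxU, h', hgerm, hn, hfl, hlfp⟩ := Groth.Agent.S1348.result f x (Flat.stalkMap f x) h hm hreg
  have e1 : jOf hU h' ≫ U.ι ≫ f =
      Spec.map (CommRingCat.ofHom (Ideal.Quotient.mk (Ideal.span {h'}))) ≫ hU.fromSpec ≫ f := by
    rw [← Category.assoc, jOf_ι, Category.assoc]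
  have hlft : LocallyOfFiniteType (jOf hU h' ≫ U.ι ≫ f) := by
    rw [e1]; infer_instance
  have hxr : x ∈ Set.range (jOf hU h' ≫ U.ι) := by
    rw [mem_range_jOf_iff hU h' x hxU]
    rw [← hgerm] at hm
    exact hm
  obtain ⟨v, hv⟩ := hxr
  have hqf := quasiFiniteAt hU h' f x hdim hcl hxU (by rw [← hgerm] at hreg; exact hreg) v hv
  obtain ⟨T, g, t, hg, W, hWcl, hWfin, hW⟩ := exists_etaleNbhd_isFinite_of_quasiFiniteAt _ v hqf
  have hqv : (jOf hU h' ≫ U.ι ≫ f) v = f x := by
    rw [← Category.assoc, Scheme.Hom.comp_apply, hv]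
  rw [hqv] at hg
  have hge : Etale g := hg.etale
  refine ⟨T, g, t, hg, (W.ι ≫ toP f U (jOf hU h') g).ker, isEff_piece f U (jOf hU h') g W (isEff_jOf hU h' hn) hWfin,
    fun y hy ↦ ?_⟩
  rw [mem_support_piece f U (jOf hU h') g W hWfin, Set.mem_singleton_iff]
  constructor
  · rintro ⟨w, hwW, rfl⟩
    have h1 : pullback.snd (jOf hU h' ≫ U.ι ≫ f) g w = t := by
      rw [← hy, ← Scheme.Hom.comp_apply, toP_snd]
    have h2 := (hW w h1).mp hwW
    rw [← Scheme.Hom.comp_apply, toP_fst, Scheme.Hom.comp_apply, h2, hv]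
  · intro hyx
    obtain ⟨w, hw1, hw2⟩ := Scheme.exists_preimage_of_isPullback (isPullback_toP f U (jOf hU h') g) v y
      (hv.trans hyx.symm)
    refine ⟨w, (hW w ?_).mpr hw1, hw2⟩
    rw [← hy, ← hw2]
    have h3 : toP f U (jOf hU h') g w = (toP f U (jOf hU h') g).base w := rfl
    rw [← h3, ← Scheme.Hom.comp_apply, toP_snd]

/-- A divisor through finitely many good points, after an elementary étale base change. -/
theorem exists_finite [Flat f] [LocallyOfFinitePresentation f] [IsSeparated f] (s : S)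
    (hdim : topologicalKrullDim (f.fiber s) ≤ 1) (A : Set C) (hfin : A.Finite) (hA : ∀ x ∈ A, f x = s ∧ Good f x) :
    ∃ (T : Scheme.{u}) (g : T ⟶ S) (t : T), Hens2.IsEtaleNbhd g t s ∧ HasDiv f A g t := by
  induction A, hfin using Set.Finite.induction_on with
  | empty =>
    refine ⟨S, 𝟙 S, s, isEtaleNbhd_of_isOpenImmersion (𝟙 S) s, ⊤, Groth.Agent.Divis.EffCartier.isEff_top,
      fun y _ ↦ ?_⟩
    have h1 : (⊤ : (pullback f (𝟙 S)).IdealSheafData).support = ⊥ := by
      rw [Scheme.IdealSheafData.support_eq_bot_iff]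
    rw [h1]
    exact ⟨fun h ↦ h.elim, fun h ↦ h.elim⟩
  | @insert x A hx _ ih =>
    obtain ⟨T₁, g₁, t₁, h₁, H₁⟩ := ih (fun y hy ↦ hA y (Or.inr hy))
    obtain ⟨hxs, hxg⟩ := hA x (Or.inl rfl)
    subst hxs
    obtain ⟨T₂, g₂, t₂, h₂, H₂⟩ := exists_single f x hdim hxg
    obtain ⟨T, a₁, a₂, t, hc, ha₁, ha₂⟩ := exists_common_refinement h₁ h₂
    have e₁ : Etale a₁ := ha₁.etale
    have e₂ : Etale a₂ := ha₂.etale
    refine ⟨T, a₁ ≫ g₁, t, IsEtaleNbhd.comp ha₁ h₁, ?_⟩
    have h3 := (H₂.refine a₂ t ha₂.base_eq (a₁ ≫ g₁) hc.symm).mul (H₁.refine a₁ t ha₁.base_eq (a₁ ≫ g₁) rfl)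
    rwa [Set.singleton_union] at h3

end K330.EtDiv
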