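import Groth.Agent.Curves.K330.EtDiv3
import Groth.Agent.S9501
import Mathlib.RingTheory.Ideal.AssociatedPrime.Finiteness
import Mathlib.RingTheory.Ideal.AssociatedPrime.Localization

/-!
# Good points: closed points of a fibre at which the local ring of the fibre has positive depth
-/

set_option autoImplicit false
universe u
open CategoryTheory CategoryTheory.Limits AlgebraicGeometry TopologicalSpace

namespace K330.EtDiv

/-- A maximal ideal of a Noetherian ring which is not associated contains a nonzerodivisor. -/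
lemma exists_nonZeroDivisor {Q : Type*} [CommRing Q] [IsNoetherianRing Q] (m : Ideal Q) [hm : m.IsMaximal]
    (hma : m ∉ associatedPrimes Q Q) : ∃ h ∈ m, h ∈ nonZeroDivisors Q := by
  by_contra hcon
  push Not at hcon
  have h1 : (m : Set Q) ⊆ ⋃ p ∈ associatedPrimes Q Q, (p : Set Q) := by
    rw [biUnion_associatedPrimes_eq_compl_nonZeroDivisors]
    exact hcon
  obtain ⟨p, hp, hmp⟩ := (Ideal.subset_union_prime_finite (f := fun p : Ideal Q ↦ p)
    (associatedPrimes.finite Q Q) ⊤ ⊤ (fun p hp _ _ ↦ hp.isPrime)).mp h1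
  exact hma (hm.eq_of_le hp.isPrime.ne_top hmp ▸ hp)

/-- The germ at `y` lies in the maximal ideal iff the section lies in the prime of `y`. -/
lemma germ_mem_maximalIdeal_iff {C : Scheme.{u}} {U : C.Opens} (hU : IsAffineOpen U) (h' : Γ(C, U)) (y : C)
    (hy : y ∈ U) : (C.presheaf.germ U y hy).hom h' ∈ IsLocalRing.maximalIdeal (C.presheaf.stalk y) ↔
      h' ∈ (hU.primeIdealOf ⟨y, hy⟩).asIdeal := by
  have h1 : (C.presheaf.germ U y hy).hom h' ∈ IsLocalRing.maximalIdeal (C.presheaf.stalk y) ↔ y ∉ C.basicOpen h' := by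
    rw [IsLocalRing.mem_maximalIdeal, mem_nonunits_iff, Scheme.mem_basicOpen _ _ _ hy]
  have h2 : hU.fromSpec (hU.primeIdealOf ⟨y, hy⟩) = y := hU.fromSpec_primeIdealOf ⟨y, hy⟩
  have h3 : y ∈ C.basicOpen h' ↔ h' ∉ (hU.primeIdealOf ⟨y, hy⟩).asIdeal := by
    conv_lhs => rw [← h2]
    change hU.primeIdealOf ⟨y, hy⟩ ∈ hU.fromSpec ⁻¹ᵁ C.basicOpen h' ↔ _
    rw [hU.fromSpec_preimage_basicOpen]
    rfl
  rw [h1, h3, not_not]

/-- On a component of positive dimension there is a closed point with a nonzerodivisor in its maximal ideal. -/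
theorem exists_point (F : Scheme.{u}) [IsLocallyNoetherian F] [JacobsonSpace F] (Z : Set F)
    (hZ : Z ∈ irreducibleComponents F) (hdim : topologicalKrullDim Z = 1) :
    ∃ x ∈ Z, IsClosed ({x} : Set F) ∧ ∃ h ∈ IsLocalRing.maximalIdeal (F.presheaf.stalk x),
      h ∈ nonZeroDivisors (F.presheaf.stalk x) := by
  have hZc : IsClosed Z := isClosed_of_mem_irreducibleComponents Z hZ
  obtain ⟨η, hη⟩ := QuasiSober.sober hZ.1 hZc
  have hηc : ¬ IsClosed ({η} : Set F) := by
    intro hc
    rw [IsGenericPoint, hc.closure_eq] at hη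
    subst hη
    have : topologicalKrullDim ({η} : Set F) ≤ 0 := by
      have : DiscreteTopology ({η} : Set F) := Subsingleton.discreteTopology
      exact topologicalKrullDim_zero_of_discreteTopology _
    rw [hdim] at this
    exact absurd this (by norm_num)
  obtain ⟨W, hW, hηW, -⟩ := exists_isAffineOpen_mem_and_subset (U := ⊤) (x := η) trivial
  have hnoeth : IsNoetherianRing Γ(F, W) := IsLocallyNoetherian.component_noetherian ⟨W, hW⟩
  -- the closed points of `W` which are associated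
  let E : Set F := {w | ∃ hw : w ∈ W, (hW.primeIdealOf ⟨w, hw⟩).asIdeal ∈ associatedPrimes Γ(F, W) Γ(F, W) ∧
    IsClosed ({w} : Set F)}
  have hEfin : E.Finite := by
    have h1 := associatedPrimes.finite Γ(F, W) Γ(F, W)
    have h2 : {P : PrimeSpectrum Γ(F, W) | P.asIdeal ∈ associatedPrimes Γ(F, W) Γ(F, W)}.Finite :=
      h1.preimage (fun a _ b _ hab ↦ PrimeSpectrum.ext hab)
    refine (h2.image (fun P ↦ hW.fromSpec P)).subset ?_
    rintro w ⟨hw, hw1, -⟩
    exact ⟨hW.primeIdealOf ⟨w, hw⟩, hw1, hW.fromSpec_primeIdealOf ⟨w, hw⟩⟩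
  have hEc : IsClosed E := by
    rw [← Set.biUnion_of_singleton E]
    exact hEfin.isClosed_biUnion fun w hw ↦ hw.2.2
  obtain ⟨x, ⟨⟨hxW, hxE⟩, hxZ⟩, hxc⟩ := nonempty_inter_closedPoints (X := F)
    (Z := ((W : Set F) ∩ Eᶜ) ∩ Z) ⟨η, ⟨hηW, fun h ↦ hηc h.2.2⟩, hη.mem⟩
    ((W.2.inter hEc.isOpen_compl).isLocallyClosed.inter hZc.isLocallyClosed)
  have hxc' : IsClosed ({x} : Set F) := hxc
  have hmax := hW.primeIdealOf_isMaximal_of_isClosed ⟨x, hxW⟩ hxc'
  have hma : (hW.primeIdealOf ⟨x, hxW⟩).asIdeal ∉ associatedPrimes Γ(F, W) Γ(F, W) := fun h ↦ hxE ⟨hxW, h, hxc'⟩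
  obtain ⟨h, hh, hn⟩ := exists_nonZeroDivisor _ hma
  refine ⟨x, hxZ, hxc', (F.presheaf.germ W x hxW).hom h, ?_, ?_⟩
  · exact (germ_mem_maximalIdeal_iff hW h x hxW).mpr hh
  · let xW : W := ⟨x, hxW⟩
    let _ := F.presheaf.algebra_section_stalk xW
    have hloc := hW.isLocalization_stalk xW
    have hflat : Module.Flat Γ(F, W) (F.presheaf.stalk (xW : F)) :=
      IsLocalization.flat _ (hW.primeIdealOf xW).asIdeal.primeCompl
    exact Groth.Agent.Divis.EffCartier.map_mem_nonZeroDivisors_of_flat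
      (algebraMap Γ(F, W) (F.presheaf.stalk (xW : F))) (RingHom.flat_algebraMap_iff.mpr hflat) hn

/-- A closed point of a fibre whose local ring has a nonzerodivisor in its maximal ideal is good. -/
theorem good_of {C S : Scheme.{u}} (f : C ⟶ S) (s : S) (x : f.fiber s) (hc : IsClosed ({x} : Set (f.fiber s)))
    (h : (f.fiber s).presheaf.stalk x) (hm : h ∈ IsLocalRing.maximalIdeal ((f.fiber s).presheaf.stalk x))
    (hn : h ∈ nonZeroDivisors ((f.fiber s).presheaf.stalk x)) : Good f (f.fiberι s x) := by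
  have key : ∀ (y : C) (hs : f y = s), f.fiberι s x = y → IsClosed ({f.asFiber y} : Set (f.fiber (f y))) := by
    intro y hs hy
    subst hs
    have : x = f.asFiber y := by
      apply (f.fiberι (f y)).isEmbedding.injective
      rw [hy, f.fiberι_asFiber]
    rw [← this]
    exact hc
  have hfs : f (f.fiberι s x) = s := by
    have : f.fiberι s x ∈ f ⁻¹' {s} := by rw [← f.range_fiberι]; exact ⟨x, rfl⟩
    exact this
  obtain ⟨hs, hk⟩ := Groth.Agent.S9501.result f s x
  refine ⟨key _ hfs rfl, ?_⟩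
  obtain ⟨h, rfl⟩ := hs h
  refine ⟨h, ?_, ?_⟩
  · rw [IsLocalRing.mem_maximalIdeal, mem_nonunits_iff] at hm ⊢
    exact fun hu ↦ hm (hu.map _)
  · rw [mem_nonZeroDivisors_iff_right]
    intro b hb
    obtain ⟨b, rfl⟩ := Ideal.Quotient.mk_surjective b
    rw [← map_mul, Ideal.Quotient.eq_zero_iff_mem] at hb
    rw [Ideal.Quotient.eq_zero_iff_mem]
    change b * h ∈ Ideal.map (f.stalkMap ((f.fiberι s).base x)).hom (IsLocalRing.maximalIdeal
      (S.presheaf.stalk (f.base ((f.fiberι s).base x)))) at hb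
    change b ∈ Ideal.map (f.stalkMap ((f.fiberι s).base x)).hom (IsLocalRing.maximalIdeal
      (S.presheaf.stalk (f.base ((f.fiberι s).base x))))
    rw [← hk, RingHom.mem_ker] at hb ⊢
    rw [map_mul] at hb
    exact (mem_nonZeroDivisors_iff_right.mp hn) _ hb

end K330.EtDiv
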