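import Groth.Agent.ProjAut.K654.PnAut
import Groth.Agent.S3589
import Groth.Agent.S3590

/-!
# Endomorphisms of projective space over a field with `g^* O(1) ≅ O(1)` are automorphisms
-/

set_option autoImplicit false
universe u

open CategoryTheory CategoryTheory.Limits AlgebraicGeometry TopologicalSpace Opposite
open Groth.Agent.Fdesc.LocGen K654.AutPn

namespace K330.FibLin

theorem smul_of_eq_zero {X : Scheme.{u}} {M : X.Modules} (r : Γ(X, ⊤)) {m : Γ(M, ⊤)} (h : m = 0) :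
    r • m = 0 := by
  rw [h, smul_zero]

variable {n : ℕ} {k : Type u} [Field k]

/-- The point with given homogeneous coordinates. -/
theorem exists_pt (v : Fin (n + 1) → k) (hv : v ≠ 0) :
    ∃ s : Spec (CommRingCat.of k) ⟶ CohB1.ProjSpace n k, s ≫ CohB1.ProjSpace.toSpec n k = 𝟙 _ ∧
      ∀ c : Fin (n + 1) → k, c ∈ ProjUP.secKernel n k s ↔ c ⬝ᵥ v = 0 := by
  let ℓ : (Fin (n + 1) → k) →ₗ[k] k :=
    { toFun := fun c => c ⬝ᵥ v
      map_add' := fun a b => add_dotProduct _ _ _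
      map_smul' := fun a b => smul_dotProduct _ _ _ }
  have hℓ : Function.Surjective ℓ := by
    obtain ⟨i, hi⟩ : ∃ i, v i ≠ 0 := Function.ne_iff.1 hv
    intro a
    refine ⟨Pi.single i (a / v i), ?_⟩
    change Pi.single i (a / v i) ⬝ᵥ v = a
    rw [single_dotProduct, div_mul_cancel₀ _ hi]
  let e : ((Fin (n + 1) → k) ⧸ LinearMap.ker ℓ) ≃ₗ[k] k := ℓ.quotKerEquivOfSurjective hℓ
  obtain ⟨s, hs, hF⟩ := (Groth.Agent.S3590.result n (LinearMap.ker ℓ)).2 ⟨inferInstance, fun p => by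
    rw [Module.finrank_of_isLocalizedModule_of_free (Localization.AtPrime p.asIdeal)
      p.asIdeal.primeCompl (LocalizedModule.mkLinearMap p.asIdeal.primeCompl _), e.finrank_eq,
      Module.finrank_self]⟩
  exact ⟨s, hs, fun c => by rw [hF, LinearMap.mem_ker]; rfl⟩

/-- The relations among the coordinates at a point are not all of `k^{n+1}`. -/
theorem secKernel_ne_top (s : Spec (CommRingCat.of k) ⟶ CohB1.ProjSpace n k)
    (hs : s ≫ CohB1.ProjSpace.toSpec n k = 𝟙 _) : ProjUP.secKernel n k s ≠ ⊤ := by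
  intro h
  have h1 := ((Groth.Agent.S3590.result n ⊤).1 ⟨s, hs, h⟩).2 ⟨⊥, Ideal.isPrime_bot⟩
  rw [Module.finrank_of_isLocalizedModule_of_free (Localization.AtPrime (⊥ : Ideal k))
      (⊥ : Ideal k).primeCompl (LocalizedModule.mkLinearMap (⊥ : Ideal k).primeCompl _),
      Module.finrank_zero_of_subsingleton] at h1
  omega

/-- A matrix representing an endomorphism of projective space is invertible. -/
theorem isUnit_of_rep {g : CohB1.ProjSpace n k ⟶ CohB1.ProjSpace n k}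
    {M : Matrix (Fin (n + 1)) (Fin (n + 1)) k} (h : Rep g M) : IsUnit M := by
  rw [Matrix.isUnit_iff_isUnit_det, isUnit_iff_ne_zero]
  intro h0
  obtain ⟨v, hv, hMv⟩ := Matrix.exists_mulVec_eq_zero_iff.2 h0
  obtain ⟨s, hs, hF⟩ := exists_pt v hv
  obtain ⟨hg, τ, hτ⟩ := h
  have h1 : ∀ i, (pullSec s (M := O1 n k) (U := ⊤) (lc (M i)) :
      Γ((Scheme.Modules.pullback s).obj (O1 n k), s ⁻¹ᵁ ⊤)) = 0 := by
    intro i
    have h2 : M i ∈ ProjUP.secKernel n k s := (hF _).2 (congrFun hMv i)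
    rw [Groth.Agent.S3589.mem_secKernel_iff] at h2
    exact (pullSec_lcg (CohB1.ProjSpace.toSpec n k) s hs (T n k) (M i)).trans h2
  have h3 : ∀ i, (pullSec s (pullSec g (T n k i)) :
      Γ((Scheme.Modules.pullback s).obj ((Scheme.Modules.pullback g).obj (O1 n k)), s ⁻¹ᵁ (g ⁻¹ᵁ ⊤))) = 0 := by
    intro i
    have h4 := pullback_map_pullSec s τ.hom (U := ⊤) (pullSec g (T n k i))
    have h5 : (τ.hom.app ⊤ (pullSec g (T n k i)) : Γ(O1 n k, ⊤)) = lc (M i) := hτ i
    have h6 : ((Scheme.Modules.pullback s).map τ.hom).app (s ⁻¹ᵁ ⊤) (pullSec s (pullSec g (T n k i))) = 0 :=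
      (h4.trans (congrArg (fun z => pullSec s (M := O1 n k) (U := ⊤) z) h5)).trans (h1 i)
    have h7 : IsIso (((Scheme.Modules.pullback s).map τ.hom).app (s ⁻¹ᵁ ⊤)) := inferInstance
    refine (ConcreteCategory.bijective_of_isIso (((Scheme.Modules.pullback s).map τ.hom).app (s ⁻¹ᵁ ⊤))).1 ?_
    exact h6.trans (map_zero _).symm
  have h4 : ∀ i, (pullSec (s ≫ g) (T n k i) :
      Γ((Scheme.Modules.pullback (s ≫ g)).obj (O1 n k), (s ≫ g) ⁻¹ᵁ ⊤)) = 0 := by
    intro i
    have h5 := pullSec_comp s g (M := O1 n k) (U := ⊤) (T n k i)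
    refine (ConcreteCategory.bijective_of_isIso
      (((Scheme.Modules.pullbackComp s g).inv.app (O1 n k)).app (s ⁻¹ᵁ (g ⁻¹ᵁ ⊤)))).1 ?_
    exact (h5.trans (h3 i)).trans (map_zero _).symm
  refine secKernel_ne_top (s ≫ g) (by rw [Category.assoc, hg, hs]) ?_
  rw [eq_top_iff]
  intro c _
  rw [Groth.Agent.S3589.mem_secKernel_iff]
  refine Finset.sum_eq_zero fun i _ => ?_
  exact smul_of_eq_zero (M := (Scheme.Modules.pullback (s ≫ g)).obj (O1 n k)) _ (h4 i)

theorem isIso_of_rep {g : CohB1.ProjSpace n k ⟶ CohB1.ProjSpace n k}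
    {M : Matrix (Fin (n + 1)) (Fin (n + 1)) k} (h : Rep g M) : IsIso g := by
  obtain ⟨M, rfl⟩ := isUnit_of_rep h
  obtain ⟨r, hr⟩ := exists_rep (M := (M⁻¹ : (Matrix (Fin (n + 1)) (Fin (n + 1)) k)ˣ).1) (N := M.1) M.mul_inv
  have h1 : Rep (r ≫ g) 1 := by
    have := h.comp hr
    rwa [M.mul_inv] at this
  have h2 : Rep (g ≫ r) 1 := by
    have := hr.comp h
    rwa [M.inv_mul] at this
  exact ⟨r, h2.eq_one, h1.eq_one⟩

/-- An endomorphism `g` of `P^n_k` over `k` with `g^* O(1) ≅ O(1)` is an isomorphism. -/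
theorem isIso_of_O1 (g : CohB1.ProjSpace n k ⟶ CohB1.ProjSpace n k)
    (hg : g ≫ CohB1.ProjSpace.toSpec n k = CohB1.ProjSpace.toSpec n k)
    (τ : (Scheme.Modules.pullback g).obj (O1 n k) ≅ O1 n k) : IsIso g := by
  choose M hM using fun i => lc_surjective (n := n) (k := k) (τ.hom.app ⊤ (ProjUP.pullSec g (O1 n k) (T n k i)))
  exact isIso_of_rep (M := M) ⟨hg, τ, fun i => (hM i).symm⟩

/-- A morphism between two projective spaces matching the sheaves `O(1)` is an isomorphism. -/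
theorem isIso_of_charts {C P : Scheme.{u}} {fC : C ⟶ Spec (CommRingCat.of k)} {fP : P ⟶ Spec (CommRingCat.of k)}
    (h : C ⟶ P) (hh : h ≫ fP = fC) {L : C.Modules} {O : P.Modules}
    (e : (Scheme.Modules.pullback h).obj O ≅ L)
    (a : CohB1.ProjSpace n k ≅ C) (ha : a.hom ≫ fC = CohB1.ProjSpace.toSpec n k)
    (ea : (Scheme.Modules.pullback a.hom).obj L ≅ O1 n k)
    (b : CohB1.ProjSpace n k ≅ P) (hb : b.hom ≫ fP = CohB1.ProjSpace.toSpec n k)
    (eb : (Scheme.Modules.pullback b.hom).obj O ≅ O1 n k) : IsIso h := by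
  let g : CohB1.ProjSpace n k ⟶ CohB1.ProjSpace n k := a.hom ≫ h ≫ b.inv
  have hgb : g ≫ b.hom = a.hom ≫ h := by simp [g]
  have hg : g ≫ CohB1.ProjSpace.toSpec n k = CohB1.ProjSpace.toSpec n k := by
    rw [← hb, ← Category.assoc, hgb, Category.assoc, hh, ha, hb]
  have τ : (Scheme.Modules.pullback g).obj (O1 n k) ≅ O1 n k :=
    (Scheme.Modules.pullback g).mapIso eb.symm ≪≫ (Scheme.Modules.pullbackComp g b.hom).app O ≪≫
      (Scheme.Modules.pullbackCongr hgb).app O ≪≫ (Scheme.Modules.pullbackComp a.hom h).symm.app O ≪≫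
      (Scheme.Modules.pullback a.hom).mapIso e ≪≫ ea
  have := isIso_of_O1 g hg τ
  have h1 : h = a.inv ≫ g ≫ b.hom := by simp [hgb]
  rw [h1]
  infer_instance

end K330.FibLin
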