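import Groth.Agent.Krr.H484.PBUnique

/-!
# Transport of a projective bundle along an isomorphism of the total spaces
-/

set_option autoImplicit false
universe u
open CategoryTheory CategoryTheory.Limits AlgebraicGeometry TopologicalSpace Opposite
open Groth.Agent.Fdesc.LocGen

namespace K330.FibPB

open Groth.Agent.Krr.H484.PullExt Groth.Agent.Krr.H484.PBTransport

variable {X P C T : Scheme.{u}}

/-- Compatibility for `t'` and for `t' ≫ h`. -/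
theorem compat_comp {E : X.Modules} {π : P ⟶ X} {O1 : P.Modules}
    {q : (Scheme.Modules.pullback π).obj E ⟶ O1} {f : C ⟶ X} {L : C.Modules}
    {s : (Scheme.Modules.pullback f).obj E ⟶ L} (h : C ⟶ P) (hg : h ≫ π = f)
    (e : (Scheme.Modules.pullback h).obj O1 ≅ L)
    (he : ∀ (V : X.Opens) (m : Γ(E, V)), e.hom.app (h ⁻¹ᵁ (π ⁻¹ᵁ V)) (pullSec h (q.app (π ⁻¹ᵁ V) (pullSec π m))) =
        res L (preimage_le hg V : (h ≫ π) ⁻¹ᵁ V ≤ f ⁻¹ᵁ V) (s.app (f ⁻¹ᵁ V) (pullSec f m)))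
    {g : T ⟶ X} {N : T.Modules} {s' : (Scheme.Modules.pullback g).obj E ⟶ N} (t : T ⟶ C)
    (ht : t ≫ f = g) (ht' : (t ≫ h) ≫ π = g) (e' : (Scheme.Modules.pullback t).obj L ≅ N)
    (he' : ∀ (V : X.Opens) (m : Γ(E, V)), e'.hom.app (t ⁻¹ᵁ (f ⁻¹ᵁ V)) (pullSec t (s.app (f ⁻¹ᵁ V) (pullSec f m))) =
        res N (preimage_le ht V : (t ≫ f) ⁻¹ᵁ V ≤ g ⁻¹ᵁ V) (s'.app (g ⁻¹ᵁ V) (pullSec g m)))
    (V : X.Opens) (m : Γ(E, V)) :
    (((Scheme.Modules.pullbackComp t h).symm.app O1) ≪≫ (Scheme.Modules.pullback t).mapIso e ≪≫ e').hom.app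
      ((t ≫ h) ⁻¹ᵁ (π ⁻¹ᵁ V)) (pullSec (t ≫ h) (q.app (π ⁻¹ᵁ V) (pullSec π m))) =
        res N (preimage_le ht' V : ((t ≫ h) ≫ π) ⁻¹ᵁ V ≤ g ⁻¹ᵁ V) (s'.app (g ⁻¹ᵁ V) (pullSec g m)) := by
  have a1 := comp_inv_pullSec t h (q.app (π ⁻¹ᵁ V) (pullSec π m))
  have a2 := pullback_map_pullSec t e.hom (pullSec h (q.app (π ⁻¹ᵁ V) (pullSec π m)))
  have a3 : e'.hom.app (t ⁻¹ᵁ (h ⁻¹ᵁ (π ⁻¹ᵁ V))) (((Scheme.Modules.pullback t).map e.hom).app
      (t ⁻¹ᵁ (h ⁻¹ᵁ (π ⁻¹ᵁ V))) (((Scheme.Modules.pullbackComp t h).inv.app O1).app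
        (t ⁻¹ᵁ (h ⁻¹ᵁ (π ⁻¹ᵁ V))) (pullSec (t ≫ h) (q.app (π ⁻¹ᵁ V) (pullSec π m))))) =
      e'.hom.app (t ⁻¹ᵁ (h ⁻¹ᵁ (π ⁻¹ᵁ V))) (pullSec t (e.hom.app (h ⁻¹ᵁ (π ⁻¹ᵁ V))
        (pullSec h (q.app (π ⁻¹ᵁ V) (pullSec π m))))) :=
    congrArg (e'.hom.app (t ⁻¹ᵁ (h ⁻¹ᵁ (π ⁻¹ᵁ V)))) ((congrArg _ a1).trans a2)
  refine a3.trans ?_
  refine (congrArg (fun z => e'.hom.app (t ⁻¹ᵁ (h ⁻¹ᵁ (π ⁻¹ᵁ V))) (pullSec t z)) (he V m)).trans ?_
  refine (congrArg (e'.hom.app (t ⁻¹ᵁ (h ⁻¹ᵁ (π ⁻¹ᵁ V)))) (res_pullSec t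
    (preimage_le hg V : (h ≫ π) ⁻¹ᵁ V ≤ f ⁻¹ᵁ V) (s.app (f ⁻¹ᵁ V) (pullSec f m))).symm).trans ?_
  refine (app_res e'.hom (t.preimage_mono (preimage_le hg V : (h ≫ π) ⁻¹ᵁ V ≤ f ⁻¹ᵁ V))
    (pullSec t (s.app (f ⁻¹ᵁ V) (pullSec f m)))).trans ?_
  refine (congrArg (res N _) (he' V m)).trans ?_
  exact res_res N _ _ _

/-- **Transport of a projective bundle** along an isomorphism of the total spaces. -/
theorem transfer {E : X.Modules} {π : P ⟶ X} {O1 : P.Modules}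
    {q : (Scheme.Modules.pullback π).obj E ⟶ O1} (B : KRR.IsProjBundle π E O1 q) {f : C ⟶ X} {L : C.Modules}
    {s : (Scheme.Modules.pullback f).obj E ⟶ L} (hL : FlatMod.IsFinLocFreeOfRank 1 L) (hs : Epi s)
    (h : C ⟶ P) [IsIso h] (hg : h ≫ π = f) (e : (Scheme.Modules.pullback h).obj O1 ≅ L)
    (he : (Scheme.Modules.pullbackCongr hg).inv.app E ≫ (Scheme.Modules.pullbackComp h π).inv.app E ≫
      (Scheme.Modules.pullback h).map q ≫ e.hom = s) :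
    KRR.IsProjBundle f E L s where
  invertible := hL
  epi := hs
  univ := by
    intro T g N hN s' hs'
    rw [compat_iff] at he
    -- the inverse compatibility
    have hig : inv h ≫ f = π := by rw [← hg, IsIso.inv_hom_id_assoc]
    let ei : (Scheme.Modules.pullback (inv h)).obj L ≅ O1 :=
      (Scheme.Modules.pullback (inv h)).mapIso e.symm ≪≫ (Scheme.Modules.pullbackComp (inv h) h).app O1 ≪≫
        (Scheme.Modules.pullbackCongr (IsIso.inv_hom_id h)).app O1 ≪≫ (Scheme.Modules.pullbackId P).app O1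
    have hei : ∀ (V : X.Opens) (m : Γ(E, V)),
        ei.hom.app (inv h ⁻¹ᵁ (f ⁻¹ᵁ V)) (pullSec (inv h) (s.app (f ⁻¹ᵁ V) (pullSec f m))) =
        res O1 (preimage_le hig V : (inv h ≫ f) ⁻¹ᵁ V ≤ π ⁻¹ᵁ V) (q.app (π ⁻¹ᵁ V) (pullSec π m)) := by
      intro V m
      subst hg
      have h1 := he V m
      rw [res_refl] at h1
      have h2 : e.inv.app (h ⁻¹ᵁ (π ⁻¹ᵁ V)) (s.app ((h ≫ π) ⁻¹ᵁ V) (pullSec (h ≫ π) m)) =
          pullSec h (q.app (π ⁻¹ᵁ V) (pullSec π m)) := by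
        refine (congrArg (e.inv.app (h ⁻¹ᵁ (π ⁻¹ᵁ V))) h1.symm).trans ?_
        exact congr(($(e.hom_inv_id)).app (h ⁻¹ᵁ (π ⁻¹ᵁ V)) (pullSec h (q.app (π ⁻¹ᵁ V) (pullSec π m))))
      have h3 := pullback_map_pullSec (inv h) e.inv (s.app ((h ≫ π) ⁻¹ᵁ V) (pullSec (h ≫ π) m))
      have h4 := comp_hom_pullSec (inv h) h (q.app (π ⁻¹ᵁ V) (pullSec π m))
      have h5 := congr_pullSec (IsIso.inv_hom_id h) (q.app (π ⁻¹ᵁ V) (pullSec π m))
      have h6 := Groth.Agent.Krr.H484.PBUnique.id_pullSec (q.app (π ⁻¹ᵁ V) (pullSec π m))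
      change ((Scheme.Modules.pullbackId P).hom.app O1).app _
        (((Scheme.Modules.pullbackCongr (IsIso.inv_hom_id h)).hom.app O1).app _
          (((Scheme.Modules.pullbackComp (inv h) h).hom.app O1).app _
            (((Scheme.Modules.pullback (inv h)).map e.inv).app _
              (pullSec (inv h) (s.app ((h ≫ π) ⁻¹ᵁ V) (pullSec (h ≫ π) m)))))) = _
      have h7 : (((Scheme.Modules.pullbackComp (inv h) h).hom.app O1).app (inv h ⁻¹ᵁ (h ⁻¹ᵁ (π ⁻¹ᵁ V)))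
            (((Scheme.Modules.pullback (inv h)).map e.inv).app (inv h ⁻¹ᵁ (h ⁻¹ᵁ (π ⁻¹ᵁ V)))
              (pullSec (inv h) (s.app ((h ≫ π) ⁻¹ᵁ V) (pullSec (h ≫ π) m))))) =
          pullSec (inv h ≫ h) (q.app (π ⁻¹ᵁ V) (pullSec π m)) := by
        refine (congrArg _ (h3.trans (congrArg (pullSec (inv h)) h2))).trans h4
      refine (congrArg (fun z => ((Scheme.Modules.pullbackId P).hom.app O1).app _
        (((Scheme.Modules.pullbackCongr (IsIso.inv_hom_id h)).hom.app O1).app _ z)) h7).trans ?_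
      refine (congrArg (fun z => ((Scheme.Modules.pullbackId P).hom.app O1).app _ z) h5).trans ?_
      refine (app_res ((Scheme.Modules.pullbackId P).hom.app O1) _ _).trans ?_
      exact congrArg (res O1 _) h6
    -- the key equivalence
    have key : ∀ t : T ⟶ C, (∃ (hg' : t ≫ f = g) (e' : (Scheme.Modules.pullback t).obj L ≅ N),
        (Scheme.Modules.pullbackCongr hg').inv.app E ≫ (Scheme.Modules.pullbackComp t f).inv.app E ≫
          (Scheme.Modules.pullback t).map s ≫ e'.hom = s') ↔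
        (∃ (hg' : (t ≫ h) ≫ π = g) (e' : (Scheme.Modules.pullback (t ≫ h)).obj O1 ≅ N),
        (Scheme.Modules.pullbackCongr hg').inv.app E ≫ (Scheme.Modules.pullbackComp (t ≫ h) π).inv.app E ≫
          (Scheme.Modules.pullback (t ≫ h)).map q ≫ e'.hom = s') := by
      intro t
      constructor
      · rintro ⟨ht, e', he'⟩
        rw [compat_iff] at he'
        have ht2 : (t ≫ h) ≫ π = g := by rw [Category.assoc, hg, ht]
        exact ⟨ht2, _, (compat_iff _ _ _ _ _ _ _).2 (compat_comp h hg e he t ht ht2 e' he')⟩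
      · rintro ⟨ht, e', he'⟩
        rw [compat_iff] at he'
        have ht2 : t = (t ≫ h) ≫ inv h := by simp
        have key2 := compat_comp (inv h) hig ei hei (t ≫ h) ht (by rw [Category.assoc, hig, ht]) e' he'
        have key3 := (compat_iff f s g s' ((t ≫ h) ≫ inv h) (by rw [Category.assoc, hig, ht]) _).2 key2
        rw [ht2]
        exact ⟨_, _, key3⟩
    obtain ⟨t, ht, htu⟩ := B.univ T g N hN s' hs'
    refine ⟨t ≫ inv h, (key _).2 ?_, fun t' ht' => ?_⟩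
    · have h1 : (t ≫ inv h) ≫ h = t := by simp
      rw [h1]
      exact ht
    · have h1 := htu _ ((key t').1 ht')
      rw [← h1]
      simp

end K330.FibPB
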