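import Groth.Agent.Curves.K330.FibPB1
import Groth.Agent.Curves.K330.FibLin
import Groth.Agent.Krr.H484.PBCharts
import Groth.Agent.Krr.H490.PBExist
import Groth.Agent.S10888
import Groth.Agent.Sga5.ProjSmooth
import Groth.Agent.Dix.ProjProper
import Mathlib.AlgebraicGeometry.Morphisms.FlatDescent

/-!
# A fibrewise criterion for projective bundles

* `FibPn r f L b`: some field-valued fibre of `(f, L)` over `b` is `(P^r, O(1))`.
* `isProjBundle_of_fibers`: `f` proper, flat, locally of finite presentation, `E` locally free of rank `r + 1`,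
  `q : f^* E → L` a surjection onto an invertible module, all fibres `(P^r, O(1))`: then `(f, L, q)` is the projective
  bundle of `E`.
-/

set_option autoImplicit false
universe u
open CategoryTheory CategoryTheory.Limits AlgebraicGeometry TopologicalSpace Opposite
open Groth.Agent.Fdesc.LocGen

namespace K330.FibPB

open Groth.Agent.Krr.H484.PullExt Groth.Agent.Krr.H484.PBTransport Groth.Agent.Krr.H484.PBCharts

/-- Some field-valued fibre of `(f, L)` over `b` is `(P^r, O(1))`. -/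
def FibPn (r : ℕ) {C B : Scheme.{u}} (f : C ⟶ B) (L : C.Modules) (b : B) : Prop :=
  ∃ (K : Type u) (_ : Field K) (α : Spec (CommRingCat.of K) ⟶ B) (j : CohB1.ProjSpace r K ⟶ C),
    α (IsLocalRing.closedPoint K) = b ∧ IsPullback j (CohB1.ProjSpace.toSpec r K) f α ∧
      Nonempty ((Scheme.Modules.pullback j).obj L ≅ Twist.twistProjSpace r K 1)

theorem isZariskiLocalAtTarget_lfp : IsZariskiLocalAtTarget (@LocallyOfFinitePresentation.{u}) :=
  HasRingHomProperty.instIsZariskiLocalAtTarget @LocallyOfFinitePresentation (Q := RingHom.FinitePresentation)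

/-- Properties local on the target of the structure morphism of a projective bundle. -/
theorem of_charts {r : ℕ} {X P : Scheme.{u}} {π : P ⟶ X} {E : X.Modules}
    (hE : FlatMod.IsFinLocFreeOfRank (r + 1) E) {O1 : P.Modules}
    {q : (Scheme.Modules.pullback π).obj E ⟶ O1} (B : KRR.IsProjBundle π E O1 q)
    (W : MorphismProperty Scheme.{u}) [IsZariskiLocalAtTarget W]
    (hW : ∀ (A : Type u) [CommRing A], W (CohB1.ProjSpace.toSpec r A)) : W π := by
  refine IsZariskiLocalAtTarget.of_forall_exists_morphismRestrict fun x => ?_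
  obtain ⟨V, hV, hxV, ⟨τ⟩⟩ := exists_triv hE x
  obtain ⟨j, sq, -⟩ := exists_chart B hV.fromSpec τ
  refine ⟨V, hxV, ?_⟩
  have h1 : IsPullback (π ⁻¹ᵁ V).ι (π ∣_ V) π V.ι := (isPullback_morphismRestrict π V).flip
  have h2 : hV.isoSpec.inv ≫ V.ι = hV.fromSpec := hV.isoSpec_inv_ι
  rw [← h2] at sq
  have h3 := IsPullback.of_right' sq h1
  have h4 := h3.isIso_fst_of_isIso
  have h5 : Arrow.mk (CohB1.ProjSpace.toSpec r Γ(X, V)) ≅ Arrow.mk (π ∣_ V) :=
    Arrow.isoMk (asIso (h1.lift j (CohB1.ProjSpace.toSpec r Γ(X, V) ≫ hV.isoSpec.inv) _)) hV.isoSpec.symm h3.w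
  exact (W.arrow_mk_iso_iff h5).1 (hW Γ(X, V))

/-- A locally free module pulled back to a field-valued point is free. -/
theorem nonempty_pullback_iso {X : Scheme.{u}} {n : ℕ} {E : X.Modules} (hE : FlatMod.IsFinLocFreeOfRank n E)
    {K : Type u} [Field K] (α : Spec (CommRingCat.of K) ⟶ X) :
    Nonempty ((Scheme.Modules.pullback α).obj E ≅ FlatMod.freeMod (Spec (CommRingCat.of K)) n) := by
  obtain ⟨V, hV, hxV, ⟨τ⟩⟩ := exists_triv hE (α (IsLocalRing.closedPoint K))
  have hr : Set.range α ⊆ Set.range hV.fromSpec := by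
    rw [hV.range_fromSpec]
    rintro _ ⟨z, rfl⟩
    rw [Subsingleton.elim z (IsLocalRing.closedPoint K)]
    exact hxV
  have h1 : IsOpenImmersion.lift hV.fromSpec α hr ≫ hV.fromSpec = α := IsOpenImmersion.lift_fac _ _ _
  exact ⟨(Scheme.Modules.pullbackCongr h1.symm).app E ≪≫
    (Scheme.Modules.pullbackComp (IsOpenImmersion.lift hV.fromSpec α hr) hV.fromSpec).symm.app E ≪≫
    (Scheme.Modules.pullback _).mapIso τ ≪≫ Groth.Agent.PerfB.FlatPull.pullbackFreeMod _ n⟩

section Fib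

variable {B C P : Scheme.{u}} {f : C ⟶ B} {π : P ⟶ B} (h : C ⟶ P) (hg : h ≫ π = f)

include hg in
/-- Descent of isomorphisms from a field-valued fibre to the fibre. -/
theorem exists_fiber_iso {K : Type u} [Field K] (α : Spec (CommRingCat.of K) ⟶ B) {CK PK : Scheme.{u}}
    {j : CK ⟶ C} {jt : CK ⟶ Spec (CommRingCat.of K)} (_ : IsPullback j jt f α)
    {p : PK ⟶ P} {pt : PK ⟶ Spec (CommRingCat.of K)} (sp : IsPullback p pt π α)
    (hK : CK ⟶ PK) (sK : IsPullback j hK h p) [IsIso hK] :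
    ∃ e : f.fiber (α (IsLocalRing.closedPoint K)) ≅ π.fiber (α (IsLocalRing.closedPoint K)),
      e.hom ≫ π.fiberι (α (IsLocalRing.closedPoint K)) = f.fiberι (α (IsLocalRing.closedPoint K)) ≫ h := by
  let b := α (IsLocalRing.closedPoint K)
  let t0 : Spec (CommRingCat.of K) ⟶ Spec (B.residueField b) :=
    Spec.map (B.descResidueField (Scheme.stalkClosedPointTo α))
  have ht : t0 ≫ B.fromSpecResidueField _ = α :=
    B.descResidueField_stalkClosedPointTo_fromSpecResidueField K α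
  have Hf : IsPullback (f.fiberι b) (f.fiberToSpecResidueField b) f (B.fromSpecResidueField b) :=
    IsPullback.of_hasPullback _ _
  have Hπ : IsPullback (π.fiberι b) (π.fiberToSpecResidueField b) π (B.fromSpecResidueField b) :=
    IsPullback.of_hasPullback _ _
  let φ : f.fiber b ⟶ π.fiber b := Hπ.lift (f.fiberι b ≫ h) (f.fiberToSpecResidueField b)
    (by rw [Category.assoc, hg, Hf.w])
  have hφ1 : φ ≫ π.fiberι b = f.fiberι b ≫ h := Hπ.lift_fst _ _ _
  have hφ2 : φ ≫ π.fiberToSpecResidueField b = f.fiberToSpecResidueField b := Hπ.lift_snd _ _ _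
  have Hφ : IsPullback (f.fiberι b) φ h (π.fiberι b) := by
    refine IsPullback.of_bot ?_ hφ1.symm Hπ
    rw [hφ2, hg]
    exact Hf
  -- the comparison `P_K → P_b`
  have sp' : IsPullback p pt π (t0 ≫ B.fromSpecResidueField b) := by rw [ht]; exact sp
  have Hg := IsPullback.of_right' sp' Hπ
  let g0 : PK ⟶ π.fiber b := Hπ.lift p (pt ≫ t0) (by rw [Category.assoc, sp'.w])
  have hg0 : g0 ≫ π.fiberι b = p := Hπ.lift_fst _ _ _
  have Hg0 : IsPullback g0 pt (π.fiberToSpecResidueField b) t0 := Hg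
  have sK' : IsPullback j hK h (g0 ≫ π.fiberι b) := by rw [hg0]; exact sK
  have Hl := IsPullback.of_right' sK' Hφ
  have ht1 : Flat t0 := inferInstance
  have ht2 : Surjective t0 := ⟨fun s => ⟨IsLocalRing.closedPoint K, Subsingleton.elim _ _⟩⟩
  have hg1 : Flat g0 := MorphismProperty.of_isPullback (P := @Flat) Hg0.flip ht1
  have hg2 : Surjective g0 := MorphismProperty.of_isPullback (P := @Surjective) Hg0.flip ht2
  have hg3 : QuasiCompact g0 := MorphismProperty.of_isPullback (P := @QuasiCompact) Hg0.flip inferInstance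
  have hi : MorphismProperty.isomorphisms Scheme.{u} φ :=
    MorphismProperty.of_isPullback_of_descendsAlong (P := MorphismProperty.isomorphisms Scheme.{u})
      (Q := @Surjective ⊓ @Flat ⊓ @QuasiCompact) Hl.flip ⟨⟨hg2, hg1⟩, hg3⟩ (inferInstanceAs (IsIso hK))
  have hi' : IsIso φ := hi
  exact ⟨asIso φ, hφ1⟩

end Fib

/-- **Fibrewise criterion for projective bundles.** -/
theorem isProjBundle_of_fibers {B C : Scheme.{u}} (f : C ⟶ B) [IsProper f] [Flat f]
    [LocallyOfFinitePresentation f] {r : ℕ} {E : B.Modules} (hE : FlatMod.IsFinLocFreeOfRank (r + 1) E)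
    {L : C.Modules} (hL : FlatMod.IsFinLocFreeOfRank 1 L) (q : (Scheme.Modules.pullback f).obj E ⟶ L) (hq : Epi q)
    (U : Set B) (hU : ∀ b ∈ U, FibPn r f L b) (hU' : ∀ V : B.Opens, U ⊆ V → V = ⊤) :
    KRR.IsProjBundle f E L q := by
  obtain ⟨P, π, O1, q0, B0⟩ := Groth.Agent.Krr.H490.PBExist.exists_isProjBundle hE
  obtain ⟨h, ⟨hg, e, he⟩, -⟩ := B0.univ C f L hL q hq
  have hπp : IsProper π := of_charts hE B0 @IsProper fun A _ => Groth.Agent.Dix.ProjProper.isProper_toSpec r A
  have hloc := isZariskiLocalAtTarget_lfp.{u}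
  have hπf : LocallyOfFinitePresentation π := of_charts hE B0 @LocallyOfFinitePresentation fun A _ => by
    have : Smooth (CohB1.ProjSpace.toSpec r A) := SmoothOfRelativeDimension.smooth r _
    infer_instance
  obtain ⟨V, hV, hV'⟩ := Groth.Agent.S10888.result f π h hg
  have hVt : V = ⊤ := by
    refine hU' V fun b hb => (hV b).2 ?_
    obtain ⟨K, _, α, j, rfl, sq, ⟨ej⟩⟩ := hU b hb
    obtain ⟨τ⟩ := nonempty_pullback_iso hE α
    obtain ⟨j0, sq0, ⟨ej0⟩⟩ := exists_chart B0 α τ
    let hK : CohB1.ProjSpace r K ⟶ CohB1.ProjSpace r K := sq0.lift (j ≫ h) (CohB1.ProjSpace.toSpec r K)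
      (by rw [Category.assoc, hg, sq.w])
    have hK1 : hK ≫ j0 = j ≫ h := sq0.lift_fst _ _ _
    have hK2 : hK ≫ CohB1.ProjSpace.toSpec r K = CohB1.ProjSpace.toSpec r K := sq0.lift_snd _ _ _
    have τ' : (Scheme.Modules.pullback hK).obj (K654.AutPn.O1 r K) ≅ K654.AutPn.O1 r K :=
      (Scheme.Modules.pullback hK).mapIso ej0.symm ≪≫ (Scheme.Modules.pullbackComp hK j0).app O1 ≪≫
        (Scheme.Modules.pullbackCongr hK1).app O1 ≪≫ (Scheme.Modules.pullbackComp j h).symm.app O1 ≪≫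
        (Scheme.Modules.pullback j).mapIso e ≪≫ ej
    have hi := K330.FibLin.isIso_of_O1 hK hK2 τ'
    have sK : IsPullback j hK h j0 := by
      refine IsPullback.of_bot ?_ hK1.symm sq0
      rw [hK2, hg]
      exact sq
    exact exists_fiber_iso h hg α sq sq0 hK sK
  subst hVt
  have hi : IsIso h := by
    have i1 : IsIso (π ⁻¹ᵁ (⊤ : B.Opens)).ι := inferInstanceAs (IsIso P.topIso.hom)
    have i2 : IsIso (h ⁻¹ᵁ (π ⁻¹ᵁ (⊤ : B.Opens))).ι := inferInstanceAs (IsIso C.topIso.hom)
    have h1 : h = inv (h ⁻¹ᵁ (π ⁻¹ᵁ (⊤ : B.Opens))).ι ≫ (h ∣_ (π ⁻¹ᵁ ⊤)) ≫ (π ⁻¹ᵁ (⊤ : B.Opens)).ι := by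
      rw [morphismRestrict_ι, IsIso.inv_hom_id_assoc]
    rw [h1]
    infer_instance
  exact transfer B0 hL hq h hg e he

end K330.FibPB
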