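import Groth.Agent.Curves.K330.FibRank
import Groth.Agent.AbVar.K527.FibreVan
import Groth.Agent.S0844

/-!
# Families of projective spaces with a relative `O(1)` are projective bundles

`main`: `f : C ⟶ B` proper, flat, locally of finite presentation, `L` invertible, every point of `B` below a field-valued
fibre `(P^r, O(1))`: then `f_* L` is locally free of rank `r + 1` and `(f, L, f^* f_* L → L)` is its projective bundle.
-/

set_option autoImplicit false
universe u

open CategoryTheory CategoryTheory.Limits AlgebraicGeometry TopologicalSpace Opposite TensorProduct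

namespace K330.FibPB

open Groth.Agent Groth.Agent.Fdesc.LocGen Groth.Agent.Ega2.Nv
open Groth.Agent.CohqA.PullbackUniv Groth.Agent.CohqA.PullbackAffine
  Groth.Agent.CohqA.PullbackSections Groth.Agent.CohqA.AffineBaseChange Groth.Agent.CohqA.BaseChangeMod
open K654.AutPn (O1 T lc lc_injective lc_surjective)

theorem nv_iso {X : Scheme.{u}} {M N : X.Modules} (φ : M ≅ N) {U : X.Opens} (s : Γ(M, U)) :
    nv M s ≤ nv N (φ.hom.app U s) := by
  rw [le_nv_iff N _ (nv_le _ _), ← app_res]
  exact (isGen_nv M s).app φ.hom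

theorem exists_mem_nv_T {r : ℕ} {K : Type u} [Field K] (x : CohB1.ProjSpace r K) :
    ∃ i, x ∈ nv (O1 r K) (T r K i) := by
  have h0 : x ∈ ⨆ i, Groth.Agent.CurvesC.ProjSpaceBasic.Dp r K i := by
    rw [Groth.Agent.CurvesC.ProjSpaceBasic.iSup_Dp]
    trivial
  obtain ⟨i, hi⟩ := Opens.mem_iSup.1 h0
  exact ⟨i, (le_nv_iff (O1 r K) (T r K i) le_top).2 (Groth.Agent.Ega2.H296.PnGen.isGen_res_coord (R := K) i) hi⟩

theorem exists_preimage {X' Z X Y : Scheme.{u}} {f : X' ⟶ X} {ζ : X' ⟶ Z} {π : X ⟶ Y} {α : Z ⟶ Y}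
    (sq : IsPullback f ζ π α) (x : X) (z : Z) (h : π x = α z) : ∃ x' : X', f x' = x ∧ ζ x' = z := by
  obtain ⟨w, h1, h2⟩ := Scheme.Pullback.exists_preimage_pullback x z h
  refine ⟨sq.isoPullback.inv w, ?_, ?_⟩
  · rw [← h1, ← Scheme.Hom.comp_apply, sq.isoPullback_inv_fst]
  · rw [← h2, ← Scheme.Hom.comp_apply, sq.isoPullback_inv_snd]

variable {B C : Scheme.{u}} {f : C ⟶ B} {L : C.Modules} {r : ℕ}

theorem subsingleton_HH {K : Type u} [Field K] : Subsingleton (Coh.HH (CohB1.ProjSpace r K) (O1 r K) (0 + 1)) :=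
  Groth.Agent.S0844.result K r 1 (0 + 1) (by omega) (by omega)

theorem fiberH_vanish [QuasiCompact f] [IsSeparated f] (hL : PicF.IsInvertible L) {b : B} (H : FibPn r f L b) :
    Subsingleton (CohIII.fiberH f L b 1) := by
  obtain ⟨K, _, α, j, rfl, sq, ⟨e⟩⟩ := H
  exact (K527.FibreVan.fiberH_iff f L (Ega2.QCohLocal.isQCoh_of_isInvertible hL) α j _ sq 0).2
    (Flat2D.LocalGlobalH.subsingleton_HH_of_iso e.symm _ subsingleton_HH)

theorem exists_mem_nv [IsProper f] [LocallyOfFinitePresentation f] [Flat f] (hL : PicF.IsInvertible L)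
    (x : C) (H : FibPn r f L (f x)) : ∃ (V : B.Opens) (s : Γ(L, f ⁻¹ᵁ V)), x ∈ nv L s := by
  have h1 := fiberH_vanish hL H
  obtain ⟨K, _, α, j, hα, sq, ⟨e⟩⟩ := H
  obtain ⟨x', rfl, -⟩ := exists_preimage sq x (IsLocalRing.closedPoint K) hα.symm
  rw [← hα] at h1
  obtain ⟨i, hi⟩ := exists_mem_nv_T x'
  exact PushVan.exists_nv_of_field f hL α j _ sq h1 (e.inv.app ⊤ (T r K i)) (nv_iso e.symm _ hi)

/-- If the counit is surjective over a dense family of fibres then it is surjective. -/
theorem epi_counit [IsProper f] [LocallyOfFinitePresentation f] [Flat f] (hL : PicF.IsInvertible L)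
    (U : Set B) (hU' : ∀ V : B.Opens, U ⊆ V → V = ⊤) (H : ∀ b ∈ U, FibPn r f L b) :
    Epi ((Scheme.Modules.pullbackPushforwardAdjunction f).counit.app L) := by
  let O : C.Opens := sSup {W : C.Opens | ∃ (V : B.Opens) (s : Γ(L, f ⁻¹ᵁ V)), W = nv L s}
  let V : B.Opens := ⟨(f '' (O : Set C)ᶜ)ᶜ, (f.isClosedMap _ O.2.isClosed_compl).isOpen_compl⟩
  have hV : V = ⊤ := hU' V fun b hb => by
    rintro ⟨x, hx, rfl⟩
    obtain ⟨W, s, hs⟩ := exists_mem_nv hL x (H _ hb)
    exact hx ((le_sSup (a := nv L s) ⟨W, s, rfl⟩ : nv L s ≤ O) hs)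
  refine K34.AmpleCrit.epi_counit_of_nv f L fun x => ?_
  have h1 : f x ∈ V := by rw [hV]; trivial
  have h2 : x ∈ O := by
    by_contra hx
    exact h1 ⟨x, hx, rfl⟩
  obtain ⟨_, ⟨W, s, rfl⟩, hs⟩ := TopologicalSpace.Opens.mem_sSup.1 h2
  exact ⟨W, s, hs⟩

/-- **Families of projective spaces with a relative `O(1)` are projective bundles** (fibres over a set `U` not contained
in a proper open subset's complement... i.e. meeting every nonempty closed subset). -/
theorem main_dom [IsProper f] [LocallyOfFinitePresentation f] [Flat f] (hL : FlatMod.IsFinLocFreeOfRank 1 L)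
    (U : Set B) (hU' : ∀ V : B.Opens, U ⊆ V → V = ⊤) (H : ∀ b ∈ U, FibPn r f L b) :
    FlatMod.IsFinLocFreeOfRank (r + 1) ((Scheme.Modules.pushforward f).obj L) ∧
      KRR.IsProjBundle f ((Scheme.Modules.pushforward f).obj L) L
        ((Scheme.Modules.pullbackPushforwardAdjunction f).counit.app L) := by
  have hL' := Ega2.QCohLocal.isFinLocFreeOfRank_one_iff.1 hL
  have h1 := isFinLocFreeOfRank_push f hL' U hU' H fun b hb => fiberH_vanish hL' (H b hb)
  exact ⟨h1, isProjBundle_of_fibers f h1 hL _ (epi_counit hL' U hU' H) U H hU'⟩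

/-- **Families of projective spaces with a relative `O(1)` are projective bundles**. -/
theorem main [IsProper f] [LocallyOfFinitePresentation f] [Flat f] (hL : FlatMod.IsFinLocFreeOfRank 1 L)
    (H : ∀ b, FibPn r f L b) :
    FlatMod.IsFinLocFreeOfRank (r + 1) ((Scheme.Modules.pushforward f).obj L) ∧
      KRR.IsProjBundle f ((Scheme.Modules.pushforward f).obj L) L
        ((Scheme.Modules.pullbackPushforwardAdjunction f).counit.app L) :=
  main_dom hL Set.univ (fun _ hV => TopologicalSpace.Opens.ext (Set.univ_subset_iff.1 hV)) fun b _ => H b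

end K330.FibPB
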