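import Groth.Agent.Curves.K330.PushVan
import Groth.Agent.Curves.K330.FibPB2
import Groth.Agent.CohqA.DualBasisMap
import Groth.Agent.Sga67.LocBasis

/-!
# The rank of the direct image of a relative `O(1)`
-/

set_option autoImplicit false
universe u

open CategoryTheory CategoryTheory.Limits AlgebraicGeometry TopologicalSpace Opposite TensorProduct

namespace K330.FibPB

open Groth.Agent Groth.Agent.Fdesc.LocGen Groth.Agent.Ega2.Nv
open Groth.Agent.CohqA.PullbackUniv Groth.Agent.CohqA.PullbackAffine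
  Groth.Agent.CohqA.PullbackSections Groth.Agent.CohqA.AffineBaseChange Groth.Agent.CohqA.BaseChangeMod
open K654.AutPn (O1 T lc lc_injective lc_surjective)

section Alg

variable {A A' : Type u} [CommRing A] [CommRing A'] [Nontrivial A'] {φ : A →+* A'} {M N : Type u}
    [AddCommGroup M] [AddCommGroup N] [Module A M] [Module A' N] {θ : M →+ N}

theorem finrank_of_isBC (h : IsBC φ θ) {n : ℕ} (b : Module.Basis (Fin n) A M) : Module.finrank A' N = n := by
  have : Nontrivial A := φ.domain_nontrivial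
  obtain ⟨_, _, _, m', -, -, hR⟩ := Groth.Agent.CohqA.DualBasisMap.exists_isBaseChange h
  have : Module.Free A M := Module.Free.of_basis b
  rw [← hR.equiv.finrank_eq, Module.finrank_baseChange, Module.finrank_eq_card_basis b, Fintype.card_fin]

end Alg

section Field

variable {r : ℕ} {K : Type u} [Field K]

theorem bijective_lc : Function.Bijective (lc : (Fin (r + 1) → K) → Γ(O1 r K, ⊤)) :=
  ⟨lc_injective, lc_surjective⟩

instance : Nontrivial Γ(Spec (CommRingCat.of K), ⊤) :=
  (Scheme.ΓSpecIso (CommRingCat.of K)).commRingCatIsoToRingEquiv.symm.injective.nontrivial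

/-- The sections of `O(1)` have rank `r + 1`. -/
theorem finrank_O1 : Module.finrank Γ(Spec (CommRingCat.of K), ⊤)
    Γ((Scheme.Modules.pushforward (CohB1.ProjSpace.toSpec r K)).obj (O1 r K), ⊤) = r + 1 := by
  let A' := Γ(Spec (CommRingCat.of K), ⊤)
  let N := Γ((Scheme.Modules.pushforward (CohB1.ProjSpace.toSpec r K)).obj (O1 r K), ⊤)
  let φ : K →+* A' := (Scheme.ΓSpecIso (CommRingCat.of K)).inv.hom
  have hφ : Function.Bijective φ := ConcreteCategory.bijective_of_isIso (Scheme.ΓSpecIso (CommRingCat.of K)).inv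
  let ℓ : (Fin (r + 1) → A') →ₗ[A'] N := Fintype.linearCombination A' (fun i => (T r K i : N))
  have h1 : ∀ c : Fin (r + 1) → K, ℓ (fun i => φ (c i)) = lc c := fun c => rfl
  have h2 : Function.Bijective (fun (c : Fin (r + 1) → K) (i : Fin (r + 1)) => φ (c i)) :=
    Function.Bijective.comp_left hφ
  have h3 : Function.Bijective ℓ := by
    refine (Function.Bijective.of_comp_iff ℓ h2).1 ?_
    exact bijective_lc
  rw [← (LinearEquiv.ofBijective ℓ h3).finrank_eq, Module.finrank_fin_fun]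

theorem finrank_of_iso {X : Scheme.{u}} {ζ : X ⟶ Spec (CommRingCat.of K)} {M N : X.Modules} (e : M ≅ N) :
    Module.finrank Γ(Spec (CommRingCat.of K), ⊤) Γ((Scheme.Modules.pushforward ζ).obj M, ⊤) =
      Module.finrank Γ(Spec (CommRingCat.of K), ⊤) Γ((Scheme.Modules.pushforward ζ).obj N, ⊤) := by
  let e' := (Scheme.Modules.pushforward ζ).mapIso e
  let l : Γ((Scheme.Modules.pushforward ζ).obj M, ⊤) →ₗ[Γ(Spec (CommRingCat.of K), ⊤)]
      Γ((Scheme.Modules.pushforward ζ).obj N, ⊤) :=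
    { toFun := fun x => e'.hom.app ⊤ x
      map_add' := fun x y => map_add (e'.hom.app ⊤).hom x y
      map_smul' := fun a x => Scheme.Modules.Hom.app_smul e'.hom a x }
  exact (LinearEquiv.ofBijective l (ConcreteCategory.bijective_of_isIso (e'.hom.app ⊤))).finrank_eq

end Field

variable {B C : Scheme.{u}} (f : C ⟶ B) {L : C.Modules} {r : ℕ}

theorem exists_mem_of_dom {X : Scheme.{u}} {U : Set X} (hU' : ∀ V : X.Opens, U ⊆ V → V = ⊤) (p : X.Opens → Prop)
    (h : ∀ b ∈ U, ∃ W : X.Opens, b ∈ W ∧ p W) (c : X) : ∃ W : X.Opens, c ∈ W ∧ p W := by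
  have h1 : sSup {W : X.Opens | p W} = ⊤ := hU' _ fun b hb => by
    obtain ⟨W, hbW, hW⟩ := h b hb
    exact (le_sSup (a := W) hW : W ≤ _) hbW
  have h2 : c ∈ sSup {W : X.Opens | p W} := by rw [h1]; trivial
  obtain ⟨W, hW, hcW⟩ := TopologicalSpace.Opens.mem_sSup.1 h2
  exact ⟨W, hcW, hW⟩

/-- The rank of the direct image. -/
theorem isFinLocFreeOfRank_push [IsProper f] [LocallyOfFinitePresentation f] [Flat f] (hL : PicF.IsInvertible L)
    (U : Set B) (hU' : ∀ V : B.Opens, U ⊆ V → V = ⊤)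
    (H : ∀ b ∈ U, FibPn r f L b) (h1 : ∀ b ∈ U, Subsingleton (CohIII.fiberH f L b 1)) :
    FlatMod.IsFinLocFreeOfRank (r + 1) ((Scheme.Modules.pushforward f).obj L) := by
  have hq := Ega2.QCohLocal.isQCoh_of_isInvertible hL
  have hM : ((Scheme.Modules.pushforward f).obj L).IsQuasicoherent := Ega1.QcqsPush.isQCoh_pushforward f L hq
  have hnhd := fun b hb => PushVan.exists_nhd f L hq (PushVan.isFP_of_isInvertible hL)
    (K456.FlatInv.isFlatOver_of_isInvertible f hL) b (h1 b hb)
  have hloc : FlatMod.IsFinLocFree ((Scheme.Modules.pushforward f).obj L) :=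
    Dcoh.FinLocFree.isFinLocFree_of_local fun b => by
      obtain ⟨U, hyU, hU⟩ := exists_mem_of_dom hU'
        (fun W => FlatMod.IsFinLocFree (((Scheme.Modules.pushforward f).obj L).restrict W.ι)) (fun b hb => by
          obtain ⟨W, h2, h3, -⟩ := hnhd b hb
          exact ⟨W, h2, h3⟩) b
      exact ⟨U.toScheme, U.ι, inferInstance, by simpa using hyU, hU⟩
  refine exists_mem_of_dom hU' _ fun b hbU => ?_
  obtain ⟨W, n, hbW, ⟨e⟩⟩ := hloc b
  obtain ⟨β, hβ⟩ := Sga67.LocBasis.nonempty_restrict_iso_iff.1 ⟨e⟩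
  suffices h : n = r + 1 by
    subst h
    exact ⟨W, hbW, ⟨e⟩⟩
  obtain ⟨K, _, α, j, rfl, sq, ⟨ej⟩⟩ := H b hbU
  obtain ⟨U, hyU, -, hU⟩ := hnhd (α (IsLocalRing.closedPoint K)) hbU
  have hpt : ∀ z : Spec (CommRingCat.of K), α z = α (IsLocalRing.closedPoint K) := fun z =>
    congrArg α (Subsingleton.elim _ _)
  have hu := hU j _ α sq (fun z => by rw [hpt z]; exact hyU)
  obtain ⟨V, hV, hbV, hVW⟩ := exists_isAffineOpen_mem_and_subset hbW
  have e' : (⊤ : (Spec (CommRingCat.of K)).Opens) ≤ α ⁻¹ᵁ V := fun z _ => by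
    change α z ∈ V; rw [hpt z]; exact hbV
  have hb := isBC_secMap α _ hu hV (isAffineOpen_top (Spec (CommRingCat.of K))) e'
  have h2 := finrank_of_isBC hb (hβ.basis hVW)
  rw [← h2, finrank_of_iso ej, finrank_O1]

end K330.FibPB
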