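import Groth.Agent.Curves.K330.FibPush
import Groth.Agent.S0024
import Mathlib.AlgebraicGeometry.AlgClosed.Basic
import Mathlib.RingTheory.Jacobson.Ring

/-!
# Schemes abstractly isomorphic to projective space over an algebraically closed field

An isomorphism of schemes `F ≅ P^r_κ`, `F` of finite type over `κ`, is semilinear for an automorphism of `κ`; so closed
fibres which are projective spaces as schemes are projective spaces in the sense of `FibPn`.
-/

set_option autoImplicit false
universe u

open CategoryTheory CategoryTheory.Limits AlgebraicGeometry TopologicalSpace Opposite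

namespace K330.FibTwist

open Groth.Agent K330.FibPB

section

variable {κ K : Type u} [Field κ] [Field K] {r : ℕ}

/-- A morphism from projective space to an affine scheme `Spec κ` factors through the structure morphism. -/
theorem exists_factor (q : CohB1.ProjSpace r K ⟶ Spec (CommRingCat.of κ)) :
    ∃ σ : CommRingCat.of κ ⟶ CommRingCat.of K, q = CohB1.ProjSpace.toSpec r K ≫ Spec.map σ := by
  have := S0024.result r K
  refine ⟨(Scheme.ΓSpecIso (CommRingCat.of κ)).inv ≫ q.appTop ≫ inv (CohB1.ProjSpace.toSpec r K).appTop ≫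
    (Scheme.ΓSpecIso (CommRingCat.of K)).hom, ?_⟩
  refine ext_of_isAffine ?_
  rw [Scheme.Hom.comp_appTop]
  have h1 := Scheme.ΓSpecIso_naturality ((Scheme.ΓSpecIso (CommRingCat.of κ)).inv ≫ q.appTop ≫
    inv (CohB1.ProjSpace.toSpec r K).appTop ≫ (Scheme.ΓSpecIso (CommRingCat.of K)).hom)
  rw [← Iso.eq_comp_inv] at h1
  rw [h1]
  simp

variable [IsAlgClosed κ]

theorem exists_ringEquiv (q : CohB1.ProjSpace r K ⟶ Spec (CommRingCat.of κ)) [LocallyOfFiniteType q] :
    ∃ σ : CommRingCat.of κ ⟶ CommRingCat.of K, IsIso σ ∧ q = CohB1.ProjSpace.toSpec r K ≫ Spec.map σ := by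
  obtain ⟨σ, hσ⟩ := exists_factor q
  refine ⟨σ, ?_, hσ⟩
  obtain ⟨s0, hs0, -⟩ := FibLin.exists_pt (k := K) (n := r) (fun _ => 1)
    (fun h => one_ne_zero (congrFun h 0))
  have hsep : IsSeparated (CohB1.ProjSpace.toSpec r K) := (Dix.ProjProper.isProper_toSpec r K).toIsSeparated
  have hc : IsClosedImmersion (s0 ≫ CohB1.ProjSpace.toSpec r K) := by rw [hs0]; infer_instance
  have hc' : IsClosedImmersion s0 := IsClosedImmersion.of_comp s0 (CohB1.ProjSpace.toSpec r K)
  have h1 : s0 ≫ q = Spec.map σ := by rw [hσ, ← Category.assoc, hs0, Category.id_comp]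
  have h2 : LocallyOfFiniteType (Spec.map σ) := by rw [← h1]; infer_instance
  have h3 : σ.hom.FiniteType := (HasRingHomProperty.Spec_iff (P := @LocallyOfFiniteType)).1 h2
  have h4 : σ.hom.Finite := RingHom.finite_iff_finiteType_of_isJacobsonRing.2 h3
  exact (ConcreteCategory.isIso_iff_bijective σ).2 (IsAlgClosed.ringHom_bijective_of_isIntegral σ.hom h4.to_isIntegral)

end

/-- A closed fibre which is projective space as a scheme. -/
theorem fibPn {X Y : Scheme.{u}} {π : Y ⟶ X} [LocallyOfFiniteType π] {r : ℕ} (x : X)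
    [IsAlgClosed (X.residueField x)] {L : Y.Modules}
    (e : pullback π (X.fromSpecResidueField x) ≅ CohB1.ProjSpace r (X.residueField x))
    (he : Nonempty ((Scheme.Modules.pullback (pullback.fst π (X.fromSpecResidueField x))).obj L ≅
      (Scheme.Modules.pullback e.hom).obj (Twist.twistProjSpace r (X.residueField x) 1))) : FibPn r π L x := by
  let κ : Type u := X.residueField x
  let q : CohB1.ProjSpace r κ ⟶ Spec (CommRingCat.of κ) := e.inv ≫ pullback.snd π (X.fromSpecResidueField x)
  have hq : LocallyOfFiniteType q := by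
    have : LocallyOfFiniteType (pullback.snd π (X.fromSpecResidueField x)) := inferInstance
    exact MorphismProperty.comp_mem @LocallyOfFiniteType _ _ inferInstance this
  obtain ⟨σ, hσ, hqσ⟩ := exists_ringEquiv q
  have sq0 : IsPullback (e.inv ≫ pullback.fst π (X.fromSpecResidueField x)) q π (X.fromSpecResidueField x) :=
    IsPullback.of_iso (IsPullback.of_hasPullback π (X.fromSpecResidueField x)) e (Iso.refl _) (Iso.refl _)
      (Iso.refl _) (by simp) (by simp [q]) (by simp) (by simp)
  have sq : IsPullback (e.inv ≫ pullback.fst π (X.fromSpecResidueField x)) (CohB1.ProjSpace.toSpec r κ) π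
      (Spec.map σ ≫ X.fromSpecResidueField x) :=
    IsPullback.of_iso sq0 (Iso.refl _) (Iso.refl _) (asIso (Spec.map σ)).symm (Iso.refl _) (by simp)
      (by simp [hqσ]) (by simp) (by simp)
  obtain ⟨θ⟩ := he
  refine ⟨κ, inferInstance, _, _, ?_, sq, ⟨(Scheme.Modules.pullbackComp e.inv _).symm.app L ≪≫
    (Scheme.Modules.pullback e.inv).mapIso θ ≪≫ (Scheme.Modules.pullbackComp e.inv e.hom).app _ ≪≫
    (Scheme.Modules.pullbackCongr e.inv_hom_id).app _ ≪≫ (Scheme.Modules.pullbackId _).app _⟩⟩
  exact X.fromSpecResidueField_apply x _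

end K330.FibTwist
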