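import Groth.Agent.Curves.K322.CurveIso
import Groth.Agent.S0212
import Groth.Agent.S1612
import Groth.Agent.CurvesB.SmoothCurveFacts
import Groth.Agent.CurvesB.OmegaInv
import Groth.Agent.Grpsch.PicGrp
import Groth.Agent.CurvesB.SubEuler
import Groth.Agent.Curves.K330.ConicPoint

/-!
# Sections of genus zero fibrations over a curve

* `isCi_residueField`: the function field of a curve over an algebraically closed field is `C_1`;
* `exists_point_of_smooth`: a smooth proper curve of genus zero with `h⁰(O) = 1` over a `C_1` field has a rational point;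
* `exists_section_of_generic`: a rational point of the generic fibre of a proper morphism to a scheme whose local
  rings are valuation rings extends to a section.
-/

set_option autoImplicit false
universe u
open CategoryTheory CategoryTheory.Limits AlgebraicGeometry TopologicalSpace Opposite

namespace K330.GenSec

open Groth.Agent

theorem isCi_residueField (k : Type u) [Field k] [IsAlgClosed k] {B : Scheme.{u}} [IsIntegral B]
    (f : B ⟶ Spec (CommRingCat.of k)) [LocallyOfFiniteType f] (hdim : topologicalKrullDim B = 1) :
    Curves.IsCi (B.residueField (genericPoint B)) 1 := by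
  let _ := CurvesB.OmegaStalkDict.stAlg f (genericPoint B)
  have h0 : Algebra.trdeg k B.functionField = 1 := CurvesB.SmoothCurveFacts.trdeg_functionField f hdim
  have h1 : Curves.IsCi B.functionField 1 := S0212.result k B.functionField 1 (by rw [h0]; norm_num)
  have hinj : Function.Injective (B.residue (genericPoint B)).hom :=
    RingHom.injective (R := B.functionField) (B.residue (genericPoint B)).hom
  exact S0212.isCi_of_ringEquiv (K := B.functionField) (L := B.residueField (genericPoint B))
    (RingEquiv.ofBijective (B.residue (genericPoint B)).hom ⟨hinj, B.residue_surjective _⟩) h1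

/-- A smooth proper curve of genus zero with `h⁰(O) = 1` over a `C_1` field has a rational point. -/
theorem exists_point_of_smooth {k : Type u} [Field k] (hC : Curves.IsCi k 1) {X : Scheme.{u}}
    [X.Over (Spec (CommRingCat.of k))] (hX : Curve.IsSmoothProperCurve k X (X ↘ Spec (CommRingCat.of k)))
    (h0 : Module.finrank k (Coh.HH X (Coh.structureModule X) 0) = 1) (hg : Curv2.genus k X = 0) :
    ∃ s : Spec (CommRingCat.of k) ⟶ X, s ≫ (X ↘ Spec (CommRingCat.of k)) = 𝟙 _ := by
  have hprop : IsProper (X ↘ Spec (CommRingCat.of k)) := hX.1
  have hsm : Smooth (X ↘ Spec (CommRingCat.of k)) := hX.2.1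
  have hint : IsIntegral X := hX.2.2.1
  have hdim := hX.2.2.2
  have hinv : PicF.IsInvertible (Omega.sheaf (X ↘ Spec (CommRingCat.of k))) :=
    CurvesB.OmegaInv.isInvertible_omega (X ↘ Spec (CommRingCat.of k)) hdim
  obtain ⟨M, hM, ⟨e⟩⟩ := Grpsch.PicGrp.exists_inverse hinv
  have hdeg := (S1612.result k X hX h0).2
  have h1 := Old.H24.LinearSeries.deg_tensor k hdim.le hinv hM
  rw [CurvesB.SubEuler.deg_congr k e, hdeg, hg] at h1
  have h2 : Curv2.deg k X (Coh.structureModule X) 1 = 0 := by simp [Curv2.deg]
  rw [h2] at h1
  exact ConicPoint.exists_point hC hdim h0 hg M hM (by push_cast at h1; linarith)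

/-- A rational point of the generic fibre extends to a section. -/
theorem exists_section_of_generic {X B : Scheme.{u}} [IsIntegral B] (π : X ⟶ B) [IsProper π]
    (hv : ∀ b : B, ValuationRing (B.presheaf.stalk b))
    (s : Spec (B.residueField (genericPoint B)) ⟶ π.fiber (genericPoint B))
    (hs : s ≫ π.fiberToSpecResidueField (genericPoint B) = 𝟙 _) :
    ∃ σ : B ⟶ X, σ ≫ π = 𝟙 B := by
  have hinj : Function.Injective (B.residue (genericPoint B)).hom :=
    RingHom.injective (R := B.functionField) (B.residue (genericPoint B)).hom
  have hiso : IsIso (B.residue (genericPoint B)) :=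
    (ConcreteCategory.isIso_iff_bijective _).mpr ⟨hinj, B.residue_surjective _⟩
  obtain ⟨σ, hσ, -⟩ := K322.CurveIso.exists_hom_of_generic (𝟙 B) π hv
    (Spec.map (inv (B.residue (genericPoint B))) ≫ s ≫ π.fiberι (genericPoint B)) (by
      have h1 : s ≫ π.fiberι (genericPoint B) ≫ π = B.fromSpecResidueField (genericPoint B) := by
        have h2 : π.fiberι (genericPoint B) ≫ π =
          π.fiberToSpecResidueField (genericPoint B) ≫ B.fromSpecResidueField (genericPoint B) := pullback.condition
        rw [h2, reassoc_of% hs]
      rw [Category.assoc, Category.assoc, h1, Category.comp_id, Scheme.fromSpecResidueField,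
        ← Spec.map_comp_assoc, IsIso.hom_inv_id, Spec.map_id, Category.id_comp])
  exact ⟨σ, hσ⟩

end K330.GenSec
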