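import Groth.Agent.Curves.K330.GlueLfp
import Groth.Agent.CurvesB.DimOneTop

/-!
# The glueing of two sections: base change and topology
-/

set_option autoImplicit false
universe u

open CategoryTheory CategoryTheory.Limits AlgebraicGeometry TopologicalSpace

namespace K330.GlueSq

open Groth.Agent K838.Ferr K838.FerrProps K838.FerrBC

theorem exists_of_isPullback {P X Y Z : Scheme.{u}} {fst : P ⟶ X} {snd : P ⟶ Y} {f : X ⟶ Z} {g : Y ⟶ Z}
    (h : IsPullback fst snd f g) (x : X) (y : Y) (e : f x = g y) : ∃ p : P, fst p = x ∧ snd p = y := by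
  obtain ⟨w, h1, h2⟩ := Scheme.Pullback.exists_preimage_pullback x y e
  refine ⟨h.isoPullback.inv w, ?_, ?_⟩
  · rw [← h1, ← Scheme.Hom.comp_apply, h.isoPullback_inv_fst]
  · rw [← h2, ← Scheme.Hom.comp_apply, h.isoPullback_inv_snd]

namespace Glue

variable {C S P : Scheme.{u}} {f : C ⟶ S} {σ τ : S ⟶ C} {f' : P ⟶ S} {g : C ⟶ P} {b : S ⟶ P} (h : Glue f σ τ f' g b)

include h

/-- The points over the glued section. -/
theorem eq_of_apply_eq_sec {c : C} {s : S} (hc : g c = b s) : c = σ s ∨ c = τ s := by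
  have hcl := h.ferr.closed
  have haf := h.ferr.affine_left
  have haf' := h.ferr.affine_right
  obtain ⟨-, hpb, -⟩ := props_of_isPushout (Adapted.of_affine h.push.w) h.push
  obtain ⟨z, hz1, hz2⟩ := exists_of_isPullback hpb c s hc
  rcases exists_pt z with ⟨x, rfl⟩ | ⟨x, rfl⟩
  · rw [← Scheme.Hom.comp_apply, coprod.inl_desc] at hz1 hz2
    have hz2' : x = s := hz2
    subst hz2'
    exact Or.inl hz1.symm
  · rw [← Scheme.Hom.comp_apply, coprod.inr_desc] at hz1 hz2
    have hz2' : x = s := hz2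
    subst hz2'
    exact Or.inr hz1.symm

/-- The glueing is injective off the glued section. -/
theorem injective_off {x x' : C} (hx : g x ∉ Set.range b) (hxx' : g x' = g x) : x' = x := by
  have hcl := h.closed
  let V0 : P.Opens := ⟨(Set.range b)ᶜ, b.isClosedEmbedding.isClosed_range.isOpen_compl⟩
  have h1 : IsIso (g ∣_ V0) := h.isIso_restrict V0 disjoint_compl_left
  have hxm : x ∈ g ⁻¹ᵁ V0 := hx
  have hxm' : x' ∈ g ⁻¹ᵁ V0 := by
    change g x' ∉ Set.range b
    rwa [hxx']
  have h2 : (g ∣_ V0) ⟨x', hxm'⟩ = (g ∣_ V0) ⟨x, hxm⟩ := by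
    have e : ∀ y : (g ⁻¹ᵁ V0).toScheme, V0.ι ((g ∣_ V0) y) = g ((g ⁻¹ᵁ V0).ι y) := fun y => by
      rw [← Scheme.Hom.comp_apply, morphismRestrict_ι, Scheme.Hom.comp_apply]
    exact V0.ι.injective ((e ⟨x', hxm'⟩).trans (hxx'.trans (e ⟨x, hxm⟩).symm))
  exact congrArg Subtype.val ((g ∣_ V0).injective h2)

/-- The irreducible components of the glueing of a pure curve over a point: all of dimension one. -/
theorem pure_of_subsingleton [Subsingleton S] (hdisj : ∀ s, σ s ≠ τ s) (hclσ : ∀ s, IsClosed ({σ s} : Set C))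
    (hclτ : ∀ s, IsClosed ({τ s} : Set C))
    (hpure : ∀ Z ∈ irreducibleComponents (C : Type u), topologicalKrullDim Z = 1) :
    ∀ Z ∈ irreducibleComponents (P : Type u), topologicalKrullDim Z = 1 := by
  have hfin := h.isFinite
  have hclm : IsClosedMap g := g.isClosedMap
  have hspec : ∀ (c : C) (w : P), g c ⤳ w → ∃ x, c ⤳ x ∧ g x = w := fun c w hw => by
    have h1 : w ∈ closure ({g c} : Set P) := specializes_iff_mem_closure.1 hw
    have h2 : closure ({g c} : Set P) ⊆ g '' closure {c} :=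
      closure_minimal (by rintro _ rfl; exact ⟨c, subset_closure rfl, rfl⟩) (hclm _ isClosed_closure)
    obtain ⟨x, hx, rfl⟩ := h2 h1
    exact ⟨x, specializes_iff_mem_closure.2 hx, rfl⟩
  rw [CurvesB.DimOneTop.forall_irreducibleComponents_iff] at hpure ⊢
  intro z hz
  -- `z` is not the glued point
  have hzb : z ∉ Set.range b := by
    rintro ⟨s, rfl⟩
    obtain ⟨y0, hy0, hy0s⟩ := CurvesB.DimOneTop.exists_generic_specializes (σ s)
    have hne : y0 ≠ σ s := by
      rintro rfl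
      obtain ⟨⟨x, hx, hxne⟩, -⟩ := hpure _ hy0
      have h1 : x ∈ closure ({σ s} : Set C) := specializes_iff_mem_closure.1 hx
      rw [(hclσ s).closure_eq] at h1
      exact hxne h1
    have h1 : g y0 = b s := hz _ (by
      have h2 : g y0 ⤳ g (σ s) := hy0s.map g.continuous
      rwa [← Scheme.Hom.comp_apply, h.comp₁] at h2)
    rcases h.eq_of_apply_eq_sec h1 with h3 | h3
    · exact hne h3
    · rw [h3] at hy0s
      have h4 : σ s ∈ closure ({τ s} : Set C) := specializes_iff_mem_closure.1 hy0s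
      rw [(hclτ s).closure_eq] at h4
      exact hdisj s h4
  obtain ⟨c, rfl⟩ := h.surj z
  have hc : ∀ y, y ⤳ c → y = c := fun y hy => h.injective_off hzb (hz _ (hy.map g.continuous))
  obtain ⟨⟨x, hx, hxne⟩, h2⟩ := hpure c hc
  refine ⟨⟨g x, hx.map g.continuous, fun h3 => hxne (h.injective_off hzb h3)⟩, fun w hw hwne y hy => ?_⟩
  obtain ⟨x1, hx1, rfl⟩ := hspec c w hw
  obtain ⟨x2, hx2, rfl⟩ := hspec x1 y hy
  rw [h2 x1 hx1 (fun h3 => hwne (by rw [h3])) x2 hx2]

/-- Base change of the glueing. -/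
theorem baseChange {S' C' P' : Scheme.{u}} {t : S' ⟶ S} {c : C' ⟶ C} {p : P' ⟶ P} {fC : C' ⟶ S'} {fP : P' ⟶ S'}
    (hC : IsPullback c fC f t) (hP : IsPullback p fP f' t) {σ' τ' : S' ⟶ C'} (hσ : σ' ≫ c = t ≫ σ)
    (hσ' : σ' ≫ fC = 𝟙 S') (hτ : τ' ≫ c = t ≫ τ) (hτ' : τ' ≫ fC = 𝟙 S') {g' : C' ⟶ P'} (hg : g' ≫ p = c ≫ g)
    (hg' : g' ≫ fP = fC) {b' : S' ⟶ P'} (hb : b' ≫ p = t ≫ b) (hb' : b' ≫ fP = 𝟙 S') :
    Glue fC σ' τ' fP g' b' := by
  have hcl := h.ferr.closed
  have haf := h.ferr.affine_left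
  have haf' := h.ferr.affine_right
  have hclb := h.closed
  have hX : IsPullback c g' g p := by
    refine IsPullback.of_bot ?_ hg.symm hP
    rw [hg', h.fac]
    exact hC
  have hY : IsPullback t b' b p := by
    refine IsPullback.of_bot ?_ hb.symm hP
    rw [hb', h.sec]
    exact IsPullback.of_vert_isIso ⟨by simp⟩
  have h1 : IsPullback t σ' σ c := by
    refine IsPullback.of_bot ?_ hσ.symm hC
    rw [hσ', h.sec₁]
    exact IsPullback.of_vert_isIso ⟨by simp⟩
  have h2 : IsPullback t τ' τ c := by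
    refine IsPullback.of_bot ?_ hτ.symm hC
    rw [hτ', h.sec₂]
    exact IsPullback.of_vert_isIso ⟨by simp⟩
  have hZ : IsPullback (coprod.map t t) (coprod.desc σ' τ') (coprod.desc σ τ) c := isPullback_coprod h1 h2
  have hj : coprod.desc (𝟙 S') (𝟙 S') ≫ t = coprod.map t t ≫ coprod.desc (𝟙 S) (𝟙 S) := by
    apply coprod.hom_ext
    · rw [coprod.inl_desc_assoc, coprod.inl_map_assoc, coprod.inl_desc, Category.id_comp, Category.comp_id]
    · rw [coprod.inr_desc_assoc, coprod.inr_map_assoc, coprod.inr_desc, Category.id_comp, Category.comp_id]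
  have hσg : σ' ≫ g' = b' := by
    apply hP.hom_ext
    · rw [Category.assoc, hg, ← Category.assoc, hσ, Category.assoc, h.comp₁, hb]
    · rw [Category.assoc, hg', hσ', hb']
  have hτg : τ' ≫ g' = b' := by
    apply hP.hom_ext
    · rw [Category.assoc, hg, ← Category.assoc, hτ, Category.assoc, h.comp₂, hb]
    · rw [Category.assoc, hg', hτ', hb']
  have hw : coprod.desc σ' τ' ≫ g' = coprod.desc (𝟙 S') (𝟙 S') ≫ b' := by
    apply coprod.hom_ext
    · rw [coprod.inl_desc_assoc, coprod.inl_desc_assoc, hσg, Category.id_comp]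
    · rw [coprod.inr_desc_assoc, coprod.inr_desc_assoc, hτg, Category.id_comp]
  have i3 : Flat (coprod.desc σ τ ≫ g ≫ f') := by
    rw [h.fac]
    have h1 : coprod.desc σ τ ≫ f = coprod.desc (𝟙 S) (𝟙 S) := by
      apply coprod.hom_ext
      · rw [coprod.inl_desc_assoc, h.sec₁, coprod.inl_desc]
      · rw [coprod.inr_desc_assoc, h.sec₂, coprod.inr_desc]
    rw [h1]
    exact flat_desc _ _
  have hpush : IsPushout (coprod.desc σ' τ') (coprod.desc (𝟙 S') (𝟙 S')) g' b' :=
    isPushout_baseChange_of_flat h.ferr hP hX hY hZ hj hw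
  have j1 : IsAffineHom g' := MorphismProperty.of_isPullback (P := @IsAffineHom) hX inferInstance
  have j2 : IsClosedImmersion b' := MorphismProperty.of_isPullback (P := @IsClosedImmersion) hY inferInstance
  have j3 : IsClosedImmersion (coprod.desc σ' τ') :=
    MorphismProperty.of_isPullback (P := @IsClosedImmersion) hZ inferInstance
  refine ⟨isFerr_of_isPushout hpush, hpush, fun w => ?_, hg', hb', hσ', hτ', j2⟩
  obtain ⟨x, hx⟩ := h.surj (p w)
  obtain ⟨x', -, hx'⟩ := exists_of_isPullback hX x w hx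
  exact ⟨x', hx'⟩

end Glue

end K330.GlueSq
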