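import Groth.Agent.Curves.K330.GlueNode

/-!
# The glueing of two smooth sections of a nodal family is a nodal family
-/

set_option autoImplicit false
universe u

open CategoryTheory CategoryTheory.Limits AlgebraicGeometry TopologicalSpace IsLocalRing

namespace K330.GlueSq.Glue

open Groth.Agent K896.Trans K330.GlueNode

theorem smAt_of_isPullback {K : Type u} [Field K] {C S Z : Scheme.{u}} {f : C ⟶ S} {t : Spec (CommRingCat.of K) ⟶ S}
    {c : Z ⟶ C} {q : Z ⟶ Spec (CommRingCat.of K)} (hC : IsPullback c q f t) {z : Z} {U : C.Opens} (hz : c z ∈ U)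
    (hU : Smooth (U.ι ≫ f)) : SmAt q z := by
  refine ⟨c ⁻¹ᵁ U, hz, ?_⟩
  have h1 : IsPullback (c ∣_ U) (c ⁻¹ᵁ U).ι U.ι c := isPullback_morphismRestrict c U
  exact MorphismProperty.of_isPullback (P := @Smooth) (h1.paste_vert hC) hU

variable {C S P : Scheme.{u}} {f : C ⟶ S} {σ τ : S ⟶ C} {f' : P ⟶ S} {g : C ⟶ P} {b : S ⟶ P} (h : Glue f σ τ f' g b)

include h

/-- The fibres of the glueing. -/
theorem fiber (s : S) : ∃ (σ' τ' : Spec (S.residueField s) ⟶ f.fiber s) (g' : f.fiber s ⟶ f'.fiber s)
    (b' : Spec (S.residueField s) ⟶ f'.fiber s),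
    Glue (f.fiberToSpecResidueField s) σ' τ' (f'.fiberToSpecResidueField s) g' b' ∧
    (∀ x, f.fiberι s (σ' x) = σ s) ∧ (∀ x, f.fiberι s (τ' x) = τ s) ∧ (∀ x, f'.fiberι s (b' x) = b s) := by
  let t := S.fromSpecResidueField s
  have hC : IsPullback (f.fiberι s) (f.fiberToSpecResidueField s) f t := IsPullback.of_hasPullback f t
  have hP : IsPullback (f'.fiberι s) (f'.fiberToSpecResidueField s) f' t := IsPullback.of_hasPullback f' t
  have ht : ∀ x, t x = s := fun x => S.fromSpecResidueField_apply s x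
  refine ⟨hC.lift (t ≫ σ) (𝟙 _) (by rw [Category.assoc, h.sec₁, Category.comp_id, Category.id_comp]),
    hC.lift (t ≫ τ) (𝟙 _) (by rw [Category.assoc, h.sec₂, Category.comp_id, Category.id_comp]),
    hP.lift (f.fiberι s ≫ g) (f.fiberToSpecResidueField s) (by rw [Category.assoc, h.fac, hC.w]),
    hP.lift (t ≫ b) (𝟙 _) (by rw [Category.assoc, h.sec, Category.comp_id, Category.id_comp]), ?_, fun x => ?_,
    fun x => ?_, fun x => ?_⟩
  · exact h.baseChange hC hP (hC.lift_fst _ _ _) (hC.lift_snd _ _ _) (hC.lift_fst _ _ _) (hC.lift_snd _ _ _)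
      (hP.lift_fst _ _ _) (hP.lift_snd _ _ _) (hP.lift_fst _ _ _) (hP.lift_snd _ _ _)
  · rw [← Scheme.Hom.comp_apply, hC.lift_fst, Scheme.Hom.comp_apply, ht]
  · rw [← Scheme.Hom.comp_apply, hC.lift_fst, Scheme.Hom.comp_apply, ht]
  · rw [← Scheme.Hom.comp_apply, hP.lift_fst, Scheme.Hom.comp_apply, ht]

theorem section_ne [IsSeparated f] (hne : ∀ s, σ s ≠ τ s) (s : S) {σ' τ' : Spec (S.residueField s) ⟶ f.fiber s}
    (h1 : ∀ x, f.fiberι s (σ' x) = σ s) (h2 : ∀ x, f.fiberι s (τ' x) = τ s) (x) : σ' x ≠ τ' x := fun h3 => by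
  have h4 := congrArg (f.fiberι s) h3
  rw [h1, h2] at h4
  exact hne s h4

section

variable [IsSeparated f] (hf : Curv2.IsNodalFamily f) (hne : ∀ s, σ s ≠ τ s)
  (hσs : ∀ s : S, ∃ U : C.Opens, σ.base s ∈ U ∧ Smooth (U.ι ≫ f))
  (hτs : ∀ s : S, ∃ U : C.Opens, τ.base s ∈ U ∧ Smooth (U.ι ≫ f))

include hf hne hσs hτs

/-- **The glueing of a nodal family is a nodal family.** -/
theorem isNodalFamily : Curv2.IsNodalFamily f' := by
  have hfl : Flat f := hf.1
  have hfp : LocallyOfFinitePresentation f := hf.2.1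
  have hfp' := h.locallyOfFinitePresentation
  refine ⟨h.flat, hfp', fun s => ?_⟩
  obtain ⟨hpure, hnod⟩ := hf.2.2 s
  obtain ⟨σ', τ', g', b', hg, e1, e2, -⟩ := h.fiber s
  have i1 : LocallyOfFiniteType (f.fiberToSpecResidueField s) :=
    inferInstanceAs (LocallyOfFiniteType (pullback.snd f (S.fromSpecResidueField s)))
  have i2 : LocallyOfFiniteType (f'.fiberToSpecResidueField s) :=
    inferInstanceAs (LocallyOfFiniteType (pullback.snd f' (S.fromSpecResidueField s)))
  have i3 : IsSeparated (f.fiberToSpecResidueField s) :=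
    inferInstanceAs (IsSeparated (pullback.snd f (S.fromSpecResidueField s)))
  have hC : IsPullback (f.fiberι s) (f.fiberToSpecResidueField s) f (S.fromSpecResidueField s) :=
    IsPullback.of_hasPullback f _
  have hσs' : ∀ x, SmAt (k := S.residueField s) (f.fiberToSpecResidueField s) (σ' x) := fun x => by
    obtain ⟨U, hU, hUs⟩ := hσs s
    exact smAt_of_isPullback hC (by rw [e1]; exact hU) hUs
  have hτs' : ∀ x, SmAt (k := S.residueField s) (f.fiberToSpecResidueField s) (τ' x) := fun x => by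
    obtain ⟨U, hU, hUs⟩ := hτs s
    exact smAt_of_isPullback hC (by rw [e2]; exact hU) hUs
  refine ⟨?_, atWorstNodal (K := S.residueField s) hg hpure hσs' hτs' hnod⟩
  have : Subsingleton (Spec (S.residueField s)) := inferInstanceAs (Subsingleton (PrimeSpectrum (S.residueField s)))
  exact hg.pure_of_subsingleton (section_ne h hne s e1 e2)
    (fun x => isClosed_section (k := S.residueField s) (f.fiberToSpecResidueField s) σ' hg.sec₁ x)
    (fun x => isClosed_section (k := S.residueField s) (f.fiberToSpecResidueField s) τ' hg.sec₂ x) hpure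

/-- The glued section consists of singular points of the fibres. -/
theorem not_smooth (s : S) : ¬ ∃ U : P.Opens, b s ∈ U ∧ Smooth (U.ι ≫ f') := by
  rintro ⟨U, hU, hUs⟩
  have hfp : LocallyOfFinitePresentation f := hf.2.1
  have hfp' := h.locallyOfFinitePresentation
  obtain ⟨hpureP, -⟩ := (h.isNodalFamily hf hne hσs hτs).2.2 s
  obtain ⟨hpure, -⟩ := hf.2.2 s
  obtain ⟨σ', τ', g', b', hg, e1, e2, e3⟩ := h.fiber s
  have i1 : LocallyOfFiniteType (f.fiberToSpecResidueField s) :=
    inferInstanceAs (LocallyOfFiniteType (pullback.snd f (S.fromSpecResidueField s)))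
  have i2 : LocallyOfFiniteType (f'.fiberToSpecResidueField s) :=
    inferInstanceAs (LocallyOfFiniteType (pullback.snd f' (S.fromSpecResidueField s)))
  have i3 : IsSeparated (f.fiberToSpecResidueField s) :=
    inferInstanceAs (IsSeparated (pullback.snd f (S.fromSpecResidueField s)))
  have hC : IsPullback (f.fiberι s) (f.fiberToSpecResidueField s) f (S.fromSpecResidueField s) :=
    IsPullback.of_hasPullback f _
  have hP : IsPullback (f'.fiberι s) (f'.fiberToSpecResidueField s) f' (S.fromSpecResidueField s) :=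
    IsPullback.of_hasPullback f' _
  have hσs' : ∀ x, SmAt (k := S.residueField s) (f.fiberToSpecResidueField s) (σ' x) := fun x => by
    obtain ⟨U, hU, hUs⟩ := hσs s
    exact smAt_of_isPullback hC (by rw [e1]; exact hU) hUs
  have hτs' : ∀ x, SmAt (k := S.residueField s) (f.fiberToSpecResidueField s) (τ' x) := fun x => by
    obtain ⟨U, hU, hUs⟩ := hτs s
    exact smAt_of_isPullback hC (by rw [e2]; exact hU) hUs
  let x : Spec (S.residueField s) := IsLocalRing.closedPoint (S.residueField s)
  exact not_smAt_pt (K := S.residueField s) hg hpure hσs' hτs' hpureP x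
    (smAt_of_isPullback (K := S.residueField s) hP (by rw [e3]; exact hU) hUs)

end

end K330.GlueSq.Glue
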