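import Mathlib.RingTheory.Extension.Presentation.Core
import Mathlib.RingTheory.Adjoin.Tower
import Mathlib.RingTheory.TensorProduct.IsBaseChangePi
import Mathlib.RingTheory.FinitePresentation
import Mathlib.RingTheory.FiniteStability

/-!
# The equalizer of two sections of a finitely presented algebra is finitely presented

`A` a finitely presented `R`-algebra, `σ τ : A →ₐ[R] R`, `e : A` with `σ e = 1`, `τ e = 0`; the `R`-algebra
`E = {a | σ a = τ a}` is finitely presented.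
-/

set_option autoImplicit false
universe u

open TensorProduct

namespace K330.GlueFp

section Noeth

variable {R₀ A₀ : Type u} [CommRing R₀] [CommRing A₀] [Algebra R₀ A₀] (σ τ : A₀ →ₐ[R₀] R₀) (e : A₀)

/-- The retraction of `A` onto the equalizer. -/
noncomputable def retr (he : σ e = 1) (he' : τ e = 0) : A₀ →ₗ[R₀] AlgHom.equalizer σ τ where
  toFun a := ⟨a - (σ a - τ a) • e, by
    rw [AlgHom.mem_equalizer, map_sub, map_sub, map_smul, map_smul, he, he']
    simp⟩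
  map_add' a b := by
    apply Subtype.ext
    simp only [map_add, Subalgebra.coe_add]
    module
  map_smul' r a := by
    apply Subtype.ext
    simp only [map_smul, smul_eq_mul, RingHom.id_apply, Subalgebra.coe_smul]
    rw [smul_sub, smul_smul, ← mul_sub]

theorem retr_coe (he : σ e = 1) (he' : τ e = 0) (a : A₀) :
    (retr σ τ e he he' a : A₀) = a - (σ a - τ a) • e := rfl

theorem retr_incl (he : σ e = 1) (he' : τ e = 0) (a : AlgHom.equalizer σ τ) : retr σ τ e he he' (a : A₀) = a := by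
  apply Subtype.ext
  rw [retr_coe, (AlgHom.mem_equalizer _ _ _).1 a.2]
  simp

theorem fg_top (he : σ e = 1) (he' : τ e = 0) : (⊤ : Submodule (AlgHom.equalizer σ τ) A₀).FG := by
  classical
  refine ⟨{1, e}, top_le_iff.1 fun a _ => ?_⟩
  have h1 : a = retr σ τ e he he' a • (1 : A₀) + (algebraMap R₀ (AlgHom.equalizer σ τ) (σ a - τ a)) • e := by
    rw [Algebra.smul_def, mul_one]
    change a = (retr σ τ e he he' a : A₀) + (algebraMap R₀ A₀ (σ a - τ a)) * e
    rw [retr_coe, ← Algebra.smul_def]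
    abel
  rw [h1]
  refine Submodule.add_mem _ (Submodule.smul_mem _ _ (Submodule.subset_span ?_)) (Submodule.smul_mem _ _ (Submodule.subset_span ?_))
  · simp
  · simp

theorem finiteType [IsNoetherianRing R₀] [Algebra.FiniteType R₀ A₀] (he : σ e = 1) (he' : τ e = 0) :
    Algebra.FiniteType R₀ (AlgHom.equalizer σ τ) :=
  ⟨fg_of_fg_of_fg R₀ (AlgHom.equalizer σ τ) A₀ Algebra.FiniteType.out (fg_top σ τ e he he') Subtype.val_injective⟩

end Noeth

section BC

variable {R₀ A₀ R A E : Type u} [CommRing R₀] [CommRing A₀] [Algebra R₀ A₀] [CommRing R] [CommRing A] [CommRing E]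
  [Algebra R₀ R] [Algebra R A] [Algebra R E]

/-- The equalizer of two sections commutes with base change. -/
theorem nonempty_equiv (σ₀ τ₀ : A₀ →ₐ[R₀] R₀) (e₀ : A₀) (he : σ₀ e₀ = 1) (he' : τ₀ e₀ = 0)
    (Φ : R ⊗[R₀] A₀ ≃ₐ[R] A) (σ τ : A →ₐ[R] R) (hσ : ∀ a, σ (Φ (1 ⊗ₜ a)) = algebraMap R₀ R (σ₀ a))
    (hτ : ∀ a, τ (Φ (1 ⊗ₜ a)) = algebraMap R₀ R (τ₀ a)) (φ : E →ₐ[R] A) (hφ : Function.Injective φ)
    (hE : ∀ a, a ∈ φ.range ↔ σ a = τ a) : Nonempty (R ⊗[R₀] AlgHom.equalizer σ₀ τ₀ ≃ₐ[R] E) := by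
  let ι : AlgHom.equalizer σ₀ τ₀ →ₐ[R₀] A₀ := (AlgHom.equalizer σ₀ τ₀).val
  let Ψ : R ⊗[R₀] AlgHom.equalizer σ₀ τ₀ →ₐ[R] A := Φ.toAlgHom.comp (Algebra.TensorProduct.map (AlgHom.id R R) ι)
  have hΨ : ∀ r a, Ψ (r ⊗ₜ a) = Φ (r ⊗ₜ (a : A₀)) := fun r a => rfl
  have hs : ∀ r a, σ (Φ (r ⊗ₜ a)) = r * algebraMap R₀ R (σ₀ a) := fun r a => by
    have h1 : (r ⊗ₜ[R₀] a : R ⊗[R₀] A₀) = r • ((1 : R) ⊗ₜ a) := by
      rw [TensorProduct.smul_tmul', smul_eq_mul, mul_one]
    rw [h1, map_smul, map_smul, hσ, smul_eq_mul]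
  have ht : ∀ r a, τ (Φ (r ⊗ₜ a)) = r * algebraMap R₀ R (τ₀ a) := fun r a => by
    have h1 : (r ⊗ₜ[R₀] a : R ⊗[R₀] A₀) = r • ((1 : R) ⊗ₜ a) := by
      rw [TensorProduct.smul_tmul', smul_eq_mul, mul_one]
    rw [h1, map_smul, map_smul, hτ, smul_eq_mul]
  have hinj : Function.Injective Ψ := by
    have h1 : Function.Injective (Algebra.TensorProduct.map (AlgHom.id R R) ι) := by
      have h2 : Function.LeftInverse (LinearMap.lTensor R (retr σ₀ τ₀ e₀ he he'))
          (LinearMap.lTensor R ι.toLinearMap) := fun x => by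
        rw [← LinearMap.comp_apply, ← LinearMap.lTensor_comp]
        have h3 : retr σ₀ τ₀ e₀ he he' ∘ₗ ι.toLinearMap = LinearMap.id := by
          ext a
          exact congrArg _ (retr_incl σ₀ τ₀ e₀ he he' a)
        rw [h3, LinearMap.lTensor_id]
        rfl
      exact h2.injective
    exact Φ.injective.comp h1
  have key : ∀ x : R ⊗[R₀] A₀, ∃ y : R ⊗[R₀] AlgHom.equalizer σ₀ τ₀,
      Φ x = Ψ y + (σ (Φ x) - τ (Φ x)) • Φ (1 ⊗ₜ e₀) := by
    intro x
    induction x using TensorProduct.induction_on with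
    | zero => exact ⟨0, by simp⟩
    | tmul r a =>
      refine ⟨r ⊗ₜ retr σ₀ τ₀ e₀ he he' a, ?_⟩
      rw [hs, ht, hΨ, retr_coe, TensorProduct.tmul_sub, ← mul_sub, ← map_sub]
      have h1 : (r ⊗ₜ[R₀] ((σ₀ a - τ₀ a) • e₀) : R ⊗[R₀] A₀) =
          (r * algebraMap R₀ R (σ₀ a - τ₀ a)) • ((1 : R) ⊗ₜ e₀) := by
        rw [TensorProduct.smul_tmul', smul_eq_mul, mul_one, TensorProduct.tmul_smul, TensorProduct.smul_tmul',
          Algebra.smul_def, mul_comm]
      rw [h1, map_sub, map_smul]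
      abel
    | add x y hx hy =>
      obtain ⟨x', hx'⟩ := hx
      obtain ⟨y', hy'⟩ := hy
      refine ⟨x' + y', ?_⟩
      rw [map_add, map_add, map_add, map_add]
      calc Φ x + Φ y = (Ψ x' + (σ (Φ x) - τ (Φ x)) • Φ (1 ⊗ₜ e₀)) +
            (Ψ y' + (σ (Φ y) - τ (Φ y)) • Φ (1 ⊗ₜ e₀)) := by rw [← hx', ← hy']
        _ = _ := by module
  have hrange : Ψ.range = φ.range := by
    ext a
    rw [hE]
    constructor
    · rintro ⟨x, rfl⟩
      change σ (Ψ x) = τ (Ψ x)
      induction x using TensorProduct.induction_on with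
      | zero => simp
      | tmul r a => rw [hΨ, hs, ht, (AlgHom.mem_equalizer _ _ _).1 a.2]
      | add x y hx hy => rw [map_add, map_add, map_add, hx, hy]
    · intro ha
      obtain ⟨x, rfl⟩ := Φ.surjective a
      obtain ⟨y, hy⟩ := key x
      rw [ha, sub_self, zero_smul, add_zero] at hy
      exact ⟨y, hy.symm⟩
  exact ⟨(AlgEquiv.ofInjective Ψ hinj).trans ((Subalgebra.equivOfEq _ _ hrange).trans (AlgEquiv.ofInjective φ hφ).symm)⟩

end BC

/-- **The equalizer of two disjoint sections of a finitely presented algebra is finitely presented.** -/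
theorem finitePresentation {R A E : Type u} [CommRing R] [CommRing A] [CommRing E] [Algebra R A] [Algebra R E]
    [Algebra.FinitePresentation R A] (φ : E →ₐ[R] A) (hφ : Function.Injective φ) (σ τ : A →ₐ[R] R)
    (hE : ∀ a, a ∈ φ.range ↔ σ a = τ a) (e : A) (he : σ e = 1) (he' : τ e = 0) : Algebra.FinitePresentation R E := by
  classical
  let P := Algebra.Presentation.ofFinitePresentation R A
  obtain ⟨q, hq⟩ : ∃ q : MvPolynomial _ R, MvPolynomial.aeval P.val q = e := ⟨P.σ e, P.aeval_val_σ e⟩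
  let s : Set R := (P.coeffs ∪ (Set.range fun i => σ (P.val i))) ∪ ((Set.range fun i => τ (P.val i)) ∪ (q.coeffs : Set R))
  have hs : s.Finite := ((P.finite_coeffs).union (Set.finite_range _)).union
    ((Set.finite_range _).union q.coeffs.finite_toSet)
  let R₀ : Subalgebra ℤ R := Algebra.adjoin ℤ s
  have hR₀ : IsNoetherianRing R₀ := isNoetherianRing_of_fg (Subalgebra.fg_def.2 ⟨s, hs, rfl⟩)
  have hrange : Set.range (algebraMap R₀ R) = (R₀ : Set R) := by
    ext x; simp [Subalgebra.algebraMap_eq]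
  have hsub : s ⊆ Set.range (algebraMap R₀ R) := by rw [hrange]; exact Algebra.subset_adjoin
  have hco : P.HasCoeffs R₀ := ⟨fun x hx => hsub (Or.inl (Or.inl hx))⟩
  have hσm : ∀ i, ∃ r : R₀, algebraMap R₀ R r = σ (P.val i) := fun i => hsub (Or.inl (Or.inr ⟨i, rfl⟩))
  have hτm : ∀ i, ∃ r : R₀, algebraMap R₀ R r = τ (P.val i) := fun i => hsub (Or.inr (Or.inl ⟨i, rfl⟩))
  obtain ⟨q₀, hq₀⟩ : q ∈ Set.range (MvPolynomial.map (algebraMap R₀ R)) := by
    rw [MvPolynomial.mem_range_map_iff_coeffs_subset]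
    exact fun x hx => hsub (Or.inr (Or.inr hx))
  choose s₀ hs₀ using hσm
  choose t₀ ht₀ using hτm
  have hinj : Function.Injective (algebraMap R₀ R) := Subtype.val_injective
  have lift : ∀ (ρ : A →ₐ[R] R) (r₀ : Fin _ → R₀) (_ : ∀ i, algebraMap R₀ R (r₀ i) = ρ (P.val i)),
      ∃ ρ₀ : P.ModelOfHasCoeffs R₀ →ₐ[R₀] R₀, ∀ y : MvPolynomial _ R₀,
        algebraMap R₀ R (ρ₀ (Ideal.Quotient.mk _ y)) = ρ (MvPolynomial.aeval P.val y) := by
    intro ρ r₀ hr₀
    have h1 : ∀ y : MvPolynomial _ R₀, algebraMap R₀ R (MvPolynomial.aeval r₀ y) = ρ (MvPolynomial.aeval P.val y) := by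
      intro y
      have h2 : (Algebra.ofId R₀ R).comp (MvPolynomial.aeval r₀) =
          (ρ.restrictScalars R₀).comp (MvPolynomial.aeval P.val : MvPolynomial _ R₀ →ₐ[R₀] A) := by
        apply MvPolynomial.algHom_ext
        intro i
        simp only [AlgHom.comp_apply, MvPolynomial.aeval_X]
        exact hr₀ i
      exact congrArg (fun f => f y) h2
    refine ⟨Ideal.Quotient.liftₐ _ (MvPolynomial.aeval r₀) ?_, fun y => h1 y⟩
    simp_rw [← RingHom.mem_ker, ← SetLike.le_def, Ideal.span_le]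
    rintro _ ⟨i, rfl⟩
    apply hinj
    rw [map_zero]
    exact (h1 _).trans (by rw [Algebra.Presentation.aeval_val_relationOfHasCoeffs, map_zero])
  obtain ⟨σ₀, hσ₀⟩ := lift σ s₀ hs₀
  obtain ⟨τ₀, hτ₀⟩ := lift τ t₀ ht₀
  have hqe : (MvPolynomial.aeval P.val q₀ : A) = e := by
    rw [← hq, ← hq₀, MvPolynomial.aeval_map_algebraMap]
  have he₀ : σ₀ (Ideal.Quotient.mk _ q₀) = 1 := hinj (by rw [hσ₀, hqe, he, map_one])
  have he₀' : τ₀ (Ideal.Quotient.mk _ q₀) = 0 := hinj (by rw [hτ₀, hqe, he', map_zero])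
  have hft : Algebra.FiniteType R₀ (AlgHom.equalizer σ₀ τ₀) := finiteType σ₀ τ₀ _ he₀ he₀'
  have hfp : Algebra.FinitePresentation R₀ (AlgHom.equalizer σ₀ τ₀) := Algebra.FinitePresentation.of_finiteType.1 hft
  obtain ⟨Θ⟩ := nonempty_equiv σ₀ τ₀ _ he₀ he₀' (P.tensorModelOfHasCoeffsEquiv R₀) σ τ (fun a => by
      obtain ⟨y, rfl⟩ := Ideal.Quotient.mk_surjective a
      rw [hσ₀]
      exact congrArg σ (by rw [Algebra.Presentation.tensorModelOfHasCoeffsEquiv_tmul, map_one, one_mul])) (fun a => by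
      obtain ⟨y, rfl⟩ := Ideal.Quotient.mk_surjective a
      rw [hτ₀]
      exact congrArg τ (by rw [Algebra.Presentation.tensorModelOfHasCoeffsEquiv_tmul, map_one, one_mul])) φ hφ hE
  exact Algebra.FinitePresentation.equiv (A := R ⊗[R₀] AlgHom.equalizer σ₀ τ₀) Θ

end K330.GlueFp
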