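import Groth.Agent.Curves.K330.GlueSq

/-!
# The glueing of two sections is locally of finite presentation
-/

set_option autoImplicit false
universe u

open CategoryTheory CategoryTheory.Limits AlgebraicGeometry TopologicalSpace

namespace K330.GlueSq.Glue

open Groth.Agent K838.Ferr K838.FerrProps K838.FerrBC

variable {C S P : Scheme.{u}} {f : C ⟶ S} {σ τ : S ⟶ C} {f' : P ⟶ S} {g : C ⟶ P} {b : S ⟶ P} (h : Glue f σ τ f' g b)

theorem id_appLE {X : Scheme.{u}} (U : X.Opens) (e : U ≤ (𝟙 X) ⁻¹ᵁ U) (x : Γ(X, U)) : (𝟙 X : X ⟶ X).appLE U U e x = x := by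
  have h1 : (𝟙 X : X ⟶ X).appLE U U e = 𝟙 _ := by
    rw [Scheme.Hom.appLE, Scheme.Hom.id_app]
    exact (Category.id_comp _).trans (X.presheaf.map_id _)
  rw [h1]
  rfl

include h

/-- The sections over an affine open of the glueing compatible with the section. -/
theorem finitePresentation_appLE [LocallyOfFinitePresentation f] (O : P.Opens) (hO : IsAffineOpen O)
    (hbO : IsAffineOpen (b ⁻¹ᵁ O)) (hle : O ≤ f' ⁻¹ᵁ (b ⁻¹ᵁ O)) :
    (f'.appLE (b ⁻¹ᵁ O) O hle).hom.FinitePresentation := by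
  have haf := h.ferr.affine_left
  have hσO : b ⁻¹ᵁ O ≤ σ ⁻¹ᵁ g ⁻¹ᵁ O := by rw [← Scheme.Hom.comp_preimage, h.comp₁]
  have hτO : b ⁻¹ᵁ O ≤ τ ⁻¹ᵁ g ⁻¹ᵁ O := by rw [← Scheme.Hom.comp_preimage, h.comp₂]
  have hle' : g ⁻¹ᵁ O ≤ f ⁻¹ᵁ (b ⁻¹ᵁ O) := by
    rw [← h.fac, Scheme.Hom.comp_preimage]
    exact g.preimage_mono hle
  obtain ⟨hinj, hsec⟩ := h.sections O hσO hτO
  obtain ⟨e, he1, he2⟩ := h.exists_sep O hO hσO hτO
  let R := Γ(S, b ⁻¹ᵁ O)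
  let E := Γ(P, O)
  let A := Γ(C, g ⁻¹ᵁ O)
  let _ : Algebra R E := (f'.appLE (b ⁻¹ᵁ O) O hle).hom.toAlgebra
  let _ : Algebra R A := (f.appLE (b ⁻¹ᵁ O) (g ⁻¹ᵁ O) hle').hom.toAlgebra
  have hfp : Algebra.FinitePresentation R A :=
    HasRingHomProperty.appLE (P := @LocallyOfFinitePresentation) f inferInstance ⟨_, hbO⟩ ⟨_, hO.preimage g⟩ hle'
  let φ : E →ₐ[R] A := { (g.app O).hom with
    commutes' := fun r => by
      have q : f'.appLE (b ⁻¹ᵁ O) O hle ≫ g.app O = f.appLE (b ⁻¹ᵁ O) (g ⁻¹ᵁ O) hle' := by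
        rw [Scheme.Hom.app_eq_appLE, Scheme.Hom.appLE_comp_appLE]
        simp only [h.fac]
      exact congrArg (fun t => t.hom r) q }
  let σ' : A →ₐ[R] R := { (σ.appLE (g ⁻¹ᵁ O) (b ⁻¹ᵁ O) hσO).hom with
    commutes' := fun r => by
      have q : f.appLE (b ⁻¹ᵁ O) (g ⁻¹ᵁ O) hle' ≫ σ.appLE (g ⁻¹ᵁ O) (b ⁻¹ᵁ O) hσO =
          (𝟙 S : S ⟶ S).appLE (b ⁻¹ᵁ O) (b ⁻¹ᵁ O) le_rfl := by
        rw [Scheme.Hom.appLE_comp_appLE]
        simp only [h.sec₁]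
      exact (congrArg (fun t => t.hom r) q).trans (id_appLE _ _ r) }
  let τ' : A →ₐ[R] R := { (τ.appLE (g ⁻¹ᵁ O) (b ⁻¹ᵁ O) hτO).hom with
    commutes' := fun r => by
      have q : f.appLE (b ⁻¹ᵁ O) (g ⁻¹ᵁ O) hle' ≫ τ.appLE (g ⁻¹ᵁ O) (b ⁻¹ᵁ O) hτO =
          (𝟙 S : S ⟶ S).appLE (b ⁻¹ᵁ O) (b ⁻¹ᵁ O) le_rfl := by
        rw [Scheme.Hom.appLE_comp_appLE]
        simp only [h.sec₂]
      exact (congrArg (fun t => t.hom r) q).trans (id_appLE _ _ r) }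
  exact GlueFp.finitePresentation φ hinj σ' τ' (fun a => hsec a) e he1 he2

theorem locallyOfFinitePresentation [LocallyOfFinitePresentation f] : LocallyOfFinitePresentation f' := by
  have haf := h.ferr.affine_left
  have hcl := h.closed
  rw [HasRingHomProperty.iff_exists_appLE (P := @LocallyOfFinitePresentation)
    (RingHom.finitePresentation_stableUnderComposition.stableUnderCompositionWithLocalizationAway
      RingHom.finitePresentation_holdsForLocalizationAway).1]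
  intro x
  by_cases hx : x ∈ Set.range b
  · obtain ⟨s, rfl⟩ := hx
    have hs : f' (b s) = s := by rw [← Scheme.Hom.comp_apply, h.sec]; rfl
    obtain ⟨U, hU, hsU, -⟩ := exists_isAffineOpen_mem_and_subset (U := ⊤) (x := s) trivial
    obtain ⟨O₀, hO₀, hsO₀, hO₀U⟩ := exists_isAffineOpen_mem_and_subset (U := f' ⁻¹ᵁ U) (x := b s)
      (by change f' (b s) ∈ U; rw [hs]; exact hsU)
    obtain ⟨r, hr, hsr⟩ := hU.exists_basicOpen_le (V := U ⊓ b ⁻¹ᵁ O₀) ⟨s, hsU, hsO₀⟩ hsU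
    let O : P.Opens := O₀ ⊓ f' ⁻¹ᵁ (S.basicOpen r)
    have hO : IsAffineOpen O := by
      have h1 : O = P.basicOpen (f'.appLE U O₀ hO₀U r) := (Scheme.basicOpen_appLE f' O₀ U hO₀U r).symm
      rw [h1]
      exact hO₀.basicOpen _
    have hbO : b ⁻¹ᵁ O = S.basicOpen r := by
      have h1 : b ⁻¹ᵁ (f' ⁻¹ᵁ (S.basicOpen r)) = S.basicOpen r := by
        rw [← Scheme.Hom.comp_preimage, h.sec, Scheme.Hom.id_preimage]
      change b ⁻¹ᵁ O₀ ⊓ b ⁻¹ᵁ (f' ⁻¹ᵁ (S.basicOpen r)) = _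
      rw [h1]
      exact inf_eq_right.2 (hr.trans inf_le_right)
    have hle : O ≤ f' ⁻¹ᵁ (b ⁻¹ᵁ O) := by rw [hbO]; exact inf_le_right
    have hbO' : IsAffineOpen (b ⁻¹ᵁ O) := by rw [hbO]; exact hU.basicOpen r
    exact ⟨⟨_, hbO'⟩, ⟨O, hO⟩, ⟨hsO₀, by change f' (b s) ∈ S.basicOpen r; rw [hs]; exact hsr⟩, hle,
      h.finitePresentation_appLE O hO hbO' hle⟩
  · obtain ⟨U, hU, hsU, -⟩ := exists_isAffineOpen_mem_and_subset (U := ⊤) (x := f' x) trivial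
    let V0 : P.Opens := ⟨(Set.range b)ᶜ, b.isClosedEmbedding.isClosed_range.isOpen_compl⟩
    obtain ⟨O, hO, hsO, hOU⟩ := exists_isAffineOpen_mem_and_subset (U := f' ⁻¹ᵁ U ⊓ V0) (x := x) ⟨hsU, hx⟩
    have hOU1 : O ≤ f' ⁻¹ᵁ U := hOU.trans inf_le_left
    have hle' : g ⁻¹ᵁ O ≤ f ⁻¹ᵁ U := by
      rw [← h.fac, Scheme.Hom.comp_preimage]
      exact g.preimage_mono hOU1
    refine ⟨⟨U, hU⟩, ⟨O, hO⟩, hsO, hOU1, ?_⟩
    have hiso : IsIso (g.app O) := by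
      refine K896.Ferr.isIso_app_left h.ferr O ?_
      ext s
      simp only [Opens.coe_bot, Set.mem_empty_iff_false, iff_false]
      exact fun hs => (hOU hs).2 ⟨s, rfl⟩
    have h1 : (f.appLE U (g ⁻¹ᵁ O) hle').hom.FinitePresentation :=
      HasRingHomProperty.appLE (P := @LocallyOfFinitePresentation) f inferInstance ⟨_, hU⟩ ⟨_, hO.preimage g⟩ hle'
    have h2 : f'.appLE U O hOU1 = f.appLE U (g ⁻¹ᵁ O) hle' ≫ inv (g.app O) := by
      rw [IsIso.eq_comp_inv, Scheme.Hom.app_eq_appLE, Scheme.Hom.appLE_comp_appLE]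
      simp only [h.fac]
    rw [h2, CommRingCat.hom_comp]
    exact RingHom.finitePresentation_respectsIso.1 _ (asIso (g.app O)).symm.commRingCatIsoToRingEquiv h1

end K330.GlueSq.Glue
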