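import Groth.Agent.Curves.K330.GlueBC
import Groth.Agent.CurvSt.K896.PinchNode
import Groth.Agent.CurvSt.K896.Trans
import Groth.Agent.CurvesB.NodeSch2
import Groth.Agent.VarietyA.ResMap
import Groth.Agent.VarietyA.RegSmoothSch
import Groth.Agent.VarietyA.SmoothLocusSch
import Groth.Agent.Surf.K456.FlatCurve
import Groth.Agent.S7892

/-!
# The glueing of two rational smooth points of a nodal curve is a nodal curve
-/

set_option autoImplicit false
universe u

open CategoryTheory CategoryTheory.Limits AlgebraicGeometry TopologicalSpace IsLocalRing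

namespace K330.GlueNode

open Groth.Agent K838.Ferr Groth.Agent.CurvesB.Node K896.PinchNode K896.Trans K330.GlueSq

section Pt

/-- The local ring at a closed point of a scheme all of whose components are curves has dimension one. -/
theorem ringKrullDim_stalk {X : Scheme.{u}}
    (hpure : ∀ Z ∈ irreducibleComponents (X : Type u), topologicalKrullDim Z = 1) (x : X)
    (hx : IsClosed ({x} : Set X)) : ringKrullDim (X.presheaf.stalk x) = 1 := by
  have hdim := CurvesB.NodeSch2.topologicalKrullDim_le_one_of_components hpure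
  refine le_antisymm ((CurvesB.DimPts.ringKrullDim_stalk_le x).trans hdim) ?_
  rw [ringKrullDim_stalk_eq_coheight]
  rw [CurvesB.DimOneTop.forall_irreducibleComponents_iff] at hpure
  obtain ⟨η, hη, h1⟩ := CurvesB.DimOneTop.exists_generic_specializes x
  have hne : η ≠ x := by
    rintro rfl
    obtain ⟨⟨y, hy, hyne⟩, -⟩ := hpure _ hη
    have h2 : y ∈ closure ({η} : Set X) := specializes_iff_mem_closure.1 hy
    rw [hx.closure_eq] at h2
    exact hyne h2
  have hlt : x < η := lt_of_le_not_ge h1 fun h2 : x ⤳ η => hne (h1.antisymm h2).eq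
  have h5 := Order.coheight_add_one_le hlt
  have h6 : (1 : ℕ∞) ≤ Order.coheight x := le_trans (by simp) h5
  exact_mod_cast h6

variable {k : Type u} [Field k]

theorem mem_smoothLocus_of_smAt {X : Scheme.{u}} {q : X ⟶ Spec (CommRingCat.of k)} [LocallyOfFiniteType q] {x : X}
    (h : SmAt q x) : x ∈ q.smoothLocus := by
  obtain ⟨U, hxU, hU⟩ := h
  exact VarietyA.SmoothLocusSch.le_smoothLocus _ U hxU

theorem pr_stalk {X : Scheme.{u}} {q : X ⟶ Spec (CommRingCat.of k)} [LocallyOfFiniteType q]
    (hpure : ∀ Z ∈ irreducibleComponents (X : Type u), topologicalKrullDim Z = 1) {x : X}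
    (hx : IsClosed ({x} : Set X)) (h : SmAt q x) : PR (X.presheaf.stalk x) := by
  have hlfp : LocallyOfFinitePresentation q := CurvesB.NodeSch2.locallyOfFinitePresentation_of_field q
  have hreg := VarietyA.RegSmoothSch.isRegularLocalRing_stalk_of_mem_smoothLocus q x (mem_smoothLocus_of_smAt h)
  have hd := ringKrullDim_stalk hpure x hx
  have h1 : IsDomain (X.presheaf.stalk x) := S0558.result _
  have h2 := K456.FlatCurve.isPrincipalIdealRing_of_regular (X.presheaf.stalk x) hd.le
  refine ⟨h1, IsPrincipalIdealRing.principal _, fun h3 => ?_⟩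
  have h4 : IsField (X.presheaf.stalk x) := IsLocalRing.isField_iff_maximalIdeal_eq.2 h3
  rw [ringKrullDim_eq_zero_of_isField h4] at hd
  exact zero_ne_one hd

theorem resMap_surjective {X : Scheme.{u}} (q : X ⟶ Spec (CommRingCat.of k)) (O : Spec (CommRingCat.of k) ⟶ X)
    (hO : O ≫ q = 𝟙 _) (s : Spec (CommRingCat.of k)) : Function.Surjective (@Curv2.resMap k _ X ⟨q⟩ (O s)) := by
  have hs : s = IsLocalRing.closedPoint k := Subsingleton.elim _ _
  subst hs
  let _ : X.Over (Spec (CommRingCat.of k)) := ⟨q⟩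
  obtain ⟨ψ, h1⟩ : ∃ ψ : X.residueField (O (IsLocalRing.closedPoint k)) ⟶ CommRingCat.of k,
      Spec.map ψ ≫ X.fromSpecResidueField (O (IsLocalRing.closedPoint k)) = O :=
    ⟨(Scheme.SpecToEquivOfField k X O).2, (Scheme.SpecToEquivOfField k X).left_inv O⟩
  have h2 : CommRingCat.ofHom (Curv2.resMap k X (O (IsLocalRing.closedPoint k))) ≫ ψ = 𝟙 _ := by
    apply Spec.map_injective
    rw [Spec.map_comp, VarietyA.ResMap.specMap_resMap, ← Category.assoc, h1, Spec.map_id]
    exact hO
  have h3 : ∀ c : k, ψ.hom (Curv2.resMap k X (O (IsLocalRing.closedPoint k)) c) = c := fun c => congr($h2 c)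
  intro a
  refine ⟨ψ.hom a, ?_⟩
  apply ψ.hom.injective
  rw [h3]

theorem resFS_section {X : Scheme.{u}} (q : X ⟶ Spec (CommRingCat.of k)) [LocallyOfFiniteType q]
    (O : Spec (CommRingCat.of k) ⟶ X) (hO : O ≫ q = 𝟙 _) (s : Spec (CommRingCat.of k)) : ResFS q (O s) := by
  rw [resFS_iff]
  let _ := @Curv2.resAlgebra k _ X ⟨q⟩ (O s)
  exact Algebra.FormallyUnramified.of_surjective (Algebra.ofId k _) (resMap_surjective q O hO s)

theorem isClosed_section {X : Scheme.{u}} (q : X ⟶ Spec (CommRingCat.of k)) [IsSeparated q]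
    (O : Spec (CommRingCat.of k) ⟶ X) (hO : O ≫ q = 𝟙 _) (s : Spec (CommRingCat.of k)) :
    IsClosed ({O s} : Set X) := by
  have h1 : IsClosedImmersion (O ≫ q) := by rw [hO]; infer_instance
  have h2 : IsClosedImmersion O := IsClosedImmersion.of_comp O q
  have h3 : ({O s} : Set X) = Set.range O := by
    ext y
    constructor
    · rintro rfl
      exact ⟨_, rfl⟩
    · rintro ⟨z, rfl⟩
      rw [Set.mem_singleton_iff]
      congr 1
      exact Subsingleton.elim _ _
  rw [h3]
  exact O.isClosedEmbedding.isClosed_range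

end Pt

section Two

variable {k : Type u} [Field k]

theorem isField_glob : IsField Γ(Spec (CommRingCat.of k), ⊤) :=
  (Scheme.ΓSpecIso (CommRingCat.of k)).commRingCatIsoToRingEquiv.toMulEquiv.isField (Field.toIsField k)

theorem isReduced_two : IsReduced (Spec (CommRingCat.of k) ⨿ Spec (CommRingCat.of k) : Scheme.{u}) := by
  have h1 : _root_.IsReduced (k × k) := inferInstance
  have h2 : IsReduced (Spec (CommRingCat.of (k × k))) := inferInstance
  exact isReduced_of_isOpenImmersion (coprodSpec k k)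

theorem unramified_two (S : Scheme.{u}) : FormallyUnramified (coprod.desc (𝟙 S) (𝟙 S)) := by
  have : IsZariskiLocalAtSource (@FormallyUnramified.{u}) := HasRingHomProperty.instIsZariskiLocalAtSource
  rw [IsZariskiLocalAtSource.iff_of_openCover (P := @FormallyUnramified.{u}) (coprodOpenCover.{u, u} S S)]
  rintro (_ | _)
  · change FormallyUnramified (coprod.inl ≫ coprod.desc (𝟙 S) (𝟙 S))
    rw [coprod.inl_desc]
    infer_instance
  · change FormallyUnramified (coprod.inr ≫ coprod.desc (𝟙 S) (𝟙 S))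
    rw [coprod.inr_desc]
    infer_instance

theorem finrank_two : @Module.finrank Γ(Spec (CommRingCat.of k), ⊤)
    Γ((Spec (CommRingCat.of k) ⨿ Spec (CommRingCat.of k) : Scheme.{u}), ⊤) _ _
    (coprod.desc (𝟙 (Spec (CommRingCat.of k))) (𝟙 (Spec (CommRingCat.of k)))).appTop.hom.toAlgebra.toModule = 2 := by
  let S : Scheme.{u} := Spec (CommRingCat.of k)
  let j : (S ⨿ S : Scheme.{u}) ⟶ S := coprod.desc (𝟙 S) (𝟙 S)
  let _ : Algebra Γ(S, ⊤) Γ((S ⨿ S : Scheme.{u}), ⊤) := j.appTop.hom.toAlgebra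
  let l : Γ((S ⨿ S : Scheme.{u}), ⊤) →ₗ[Γ(S, ⊤)] (Γ(S, ⊤) × Γ(S, ⊤)) :=
    { toFun := fun s => ((coprod.inl : S ⟶ S ⨿ S).appTop s, (coprod.inr : S ⟶ S ⨿ S).appTop s)
      map_add' := fun a b => by simp
      map_smul' := fun r a => by
        have e1 : (coprod.inl : S ⟶ S ⨿ S).appTop (j.appTop r) = r := by
          rw [← CommRingCat.comp_apply, ← Scheme.Hom.comp_appTop, coprod.inl_desc]
          simp
        have e2 : (coprod.inr : S ⟶ S ⨿ S).appTop (j.appTop r) = r := by
          rw [← CommRingCat.comp_apply, ← Scheme.Hom.comp_appTop, coprod.inr_desc]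
          simp
        refine Prod.ext ?_ ?_
        · change (coprod.inl : S ⟶ S ⨿ S).appTop (j.appTop r * a) = r * (coprod.inl : S ⟶ S ⨿ S).appTop a
          rw [map_mul, e1]
        · change (coprod.inr : S ⟶ S ⨿ S).appTop (j.appTop r * a) = r * (coprod.inr : S ⟶ S ⨿ S).appTop a
          rw [map_mul, e2] }
  have hl : Function.Bijective l := bijective_sections (X := S) (Y := S) ⊤
  have hnt : Nontrivial Γ(S, ⊤) := (isField_glob (k := k)).nontrivial
  have h1 := (LinearEquiv.ofBijective l hl).finrank_eq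
  rw [Module.finrank_prod, Module.finrank_self] at h1
  exact h1

end Two

section Field

variable {K : Type u} [Field K] {X P : Scheme.{u}} {q : X ⟶ Spec (CommRingCat.of K)}
  {σ τ : Spec (CommRingCat.of K) ⟶ X} {p : P ⟶ Spec (CommRingCat.of K)} {g : X ⟶ P} {b : Spec (CommRingCat.of K) ⟶ P}
  (h : Glue q σ τ p g b) [LocallyOfFiniteType q] [IsSeparated q]
  (hpure : ∀ Z ∈ irreducibleComponents (X : Type u), topologicalKrullDim Z = 1)
  (hσs : ∀ s, SmAt q (σ s)) (hτs : ∀ s, SmAt q (τ s))

include h hpure hσs hτs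

theorem nodeLike_pt (s : Spec (CommRingCat.of K)) : NodeLike (P.presheaf.stalk (b s)) := by
  have hcl := h.closed
  have hN : IsLocallyNoetherian X := LocallyOfFiniteType.isLocallyNoetherian q
  have hred := isReduced_two (k := K)
  have hur := unramified_two (Spec (CommRingCat.of K))
  refine nodeLike h.ferr isField_glob (HasRingHomProperty.appTop (@FormallyUnramified.{u}) _ hur) finrank_two ?_ s
  intro t
  rcases exists_pt t with ⟨x, rfl⟩ | ⟨x, rfl⟩
  · rw [← Scheme.Hom.comp_apply, coprod.inl_desc]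
    exact pr_stalk hpure (isClosed_section q σ h.sec₁ x) (hσs x)
  · rw [← Scheme.Hom.comp_apply, coprod.inr_desc]
    exact pr_stalk hpure (isClosed_section q τ h.sec₂ x) (hτs x)

theorem isNode_pt [LocallyOfFiniteType p] (s : Spec (CommRingCat.of K)) : @Curv2.IsNode K _ P ⟨p⟩ (b s) := by
  let _ : P.Over (Spec (CommRingCat.of K)) := ⟨p⟩
  have : LocallyOfFiniteType (P ↘ (Spec (CommRingCat.of K))) := ‹LocallyOfFiniteType p›
  rw [isNode_iff_resFS K P (b s)]
  exact ⟨resFS_section p b h.sec s, nodeLike_pt h hpure hσs hτs s⟩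

theorem not_smAt_pt [LocallyOfFiniteType p] (hpureP : ∀ Z ∈ irreducibleComponents (P : Type u), topologicalKrullDim Z = 1)
    (s : Spec (CommRingCat.of K)) : ¬ SmAt p (b s) := by
  intro hs
  have hlfp : LocallyOfFinitePresentation p := CurvesB.NodeSch2.locallyOfFinitePresentation_of_field p
  have hreg := VarietyA.RegSmoothSch.isRegularLocalRing_stalk_of_mem_smoothLocus p (b s) (mem_smoothLocus_of_smAt hs)
  exact S7892.not_nodeLike (CurvesB.NodeSch2.krullDimLE_one_stalk
    (CurvesB.NodeSch2.topologicalKrullDim_le_one_of_components hpureP) (b s)) (nodeLike_pt h hpure hσs hτs s)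

omit hpure hσs hτs [IsSeparated q] in
theorem good_off [LocallyOfFiniteType p] (x : X) (hx : g x ∉ Set.range b) :
    (SmAt q x ↔ SmAt p (g x)) ∧ (@Curv2.IsNode K _ X ⟨q⟩ x ↔ @Curv2.IsNode K _ P ⟨p⟩ (g x)) := by
  have hcl := h.closed
  let V0 : P.Opens := ⟨(Set.range b)ᶜ, b.isClosedEmbedding.isClosed_range.isOpen_compl⟩
  have h1 : IsIso (g ∣_ V0) := h.isIso_restrict V0 disjoint_compl_left
  let _ : P.Over (Spec (CommRingCat.of K)) := ⟨p⟩
  let _ : X.Over (Spec (CommRingCat.of K)) := ⟨q⟩
  have : LocallyOfFiniteType (P ↘ (Spec (CommRingCat.of K))) := ‹LocallyOfFiniteType p›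
  have : LocallyOfFiniteType (X ↘ (Spec (CommRingCat.of K))) := ‹LocallyOfFiniteType q›
  let W := g ⁻¹ᵁ V0
  let w : W := ⟨x, hx⟩
  let u : W.toScheme ⟶ P := (g ∣_ V0) ≫ V0.ι
  have hu : u = W.ι ≫ g := morphismRestrict_ι _ _
  have hu' : IsOpenImmersion u := inferInstance
  have hw1 : W.ι w = x := rfl
  have hw2 : u w = g x := by rw [hu]; rfl
  have hqq : u ≫ p = W.ι ≫ q := by rw [hu, Category.assoc, h.fac]
  constructor
  · have h2 := smAt_iff W.ι q w
    have h3 := smAt_iff u p w
    rw [hqq, hw2] at h3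
    exact h2.symm.trans h3
  · have h2 := K315.NodeEtale.isNode_iff_of_etale K X W.ι w
    have h3 := K315.NodeEtale.isNode_iff_of_etale K P u w
    have h4 : u ≫ (P ↘ (Spec (CommRingCat.of K))) = W.ι ≫ (X ↘ (Spec (CommRingCat.of K))) := hqq
    rw [h4, hw2] at h3
    exact h2.trans h3.symm

theorem atWorstNodal [LocallyOfFiniteType p] (hX : @Curv2.AtWorstNodal K _ X ⟨q⟩) : @Curv2.AtWorstNodal K _ P ⟨p⟩ := by
  intro y hy
  by_cases hyb : y ∈ Set.range b
  · obtain ⟨s, rfl⟩ := hyb
    exact Or.inr (isNode_pt h hpure hσs hτs s)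
  · obtain ⟨x, rfl⟩ := h.surj y
    obtain ⟨h1, h2⟩ := good_off h x hyb
    have hxc : IsClosed ({x} : Set X) := by
      have h3 : ({x} : Set X) = g ⁻¹' {g x} := by
        ext x'
        constructor
        · rintro rfl; rfl
        · intro hx'
          exact h.injective_off hyb hx'
      rw [h3]
      exact hy.preimage g.continuous
    rcases hX x hxc with h3 | h3
    · exact Or.inl (h1.mp h3)
    · exact Or.inr (h2.mp h3)

end Field

end K330.GlueNode
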