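import Groth.Agent.Curves.K330.GlueFp
import Groth.Agent.Pinch.K838.FerrProps
import Groth.Agent.Pinch.K838.FerrBC
import Groth.Agent.HilbZeta.K842.CoprodRank
import Groth.Agent.Variety.K429.LinEmb
import Groth.Agent.CurvSt.K896.Ferr
import Groth.Agent.S0430

/-!
# Glueing two disjoint sections of a morphism: the Ferrand square

`f : C ⟶ S`, `σ`, `τ` disjoint sections, `i = [σ, τ] : S ⨿ S ⟶ C`, `j = [1, 1] : S ⨿ S ⟶ S`.
-/

set_option autoImplicit false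
universe u

open CategoryTheory CategoryTheory.Limits AlgebraicGeometry TopologicalSpace

namespace K330.GlueSq

open Groth.Agent K838.Ferr K838.FerrProps K838.FerrBC

section Coprod

variable {X Y : Scheme.{u}}

/-- Sections over a coproduct. -/
theorem bijective_sections (U : (X ⨿ Y : Scheme.{u}).Opens) :
    Function.Bijective (fun s : Γ(X ⨿ Y, U) => ((coprod.inl : X ⟶ X ⨿ Y).app U s, (coprod.inr : Y ⟶ X ⨿ Y).app U s)) := by
  let A := Γ(X, (coprod.inl : X ⟶ X ⨿ Y) ⁻¹ᵁ U)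
  let B := Γ(Y, (coprod.inr : Y ⟶ X ⨿ Y) ⁻¹ᵁ U)
  let e2 : (A ⨯ B) ≅ CommRingCat.of (A × B) := (prodIsProd A B).conePointUniqueUpToIso (CommRingCat.prodFanIsLimit A B)
  have h1 : e2.hom ≫ CommRingCat.ofHom (RingHom.fst A B) = prod.fst :=
    (prodIsProd A B).conePointUniqueUpToIso_hom_comp (CommRingCat.prodFanIsLimit A B) ⟨WalkingPair.left⟩
  have h2 : e2.hom ≫ CommRingCat.ofHom (RingHom.snd A B) = prod.snd :=
    (prodIsProd A B).conePointUniqueUpToIso_hom_comp (CommRingCat.prodFanIsLimit A B) ⟨WalkingPair.right⟩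
  let e := Scheme.coprodPresheafObjIso U ≪≫ e2
  have h3 : e.hom ≫ CommRingCat.ofHom (RingHom.fst A B) = (coprod.inl : X ⟶ X ⨿ Y).app U := by
    rw [Iso.trans_hom, Category.assoc, h1, Scheme.coprodPresheafObjIso_hom_fst]
  have h4 : e.hom ≫ CommRingCat.ofHom (RingHom.snd A B) = (coprod.inr : Y ⟶ X ⨿ Y).app U := by
    rw [Iso.trans_hom, Category.assoc, h2, Scheme.coprodPresheafObjIso_hom_snd]
  have h5 : (fun s : Γ(X ⨿ Y, U) => ((coprod.inl : X ⟶ X ⨿ Y).app U s, (coprod.inr : Y ⟶ X ⨿ Y).app U s)) =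
      fun s => (e.hom s : A × B) := by
    funext s
    rw [← h3, ← h4]
    rfl
  rw [h5]
  exact ConcreteCategory.bijective_of_isIso e.hom

theorem exists_pt (z : (X ⨿ Y : Scheme.{u})) : (∃ x, (coprod.inl : X ⟶ X ⨿ Y) x = z) ∨
    (∃ y, (coprod.inr : Y ⟶ X ⨿ Y) y = z) := by
  obtain ⟨x | y, rfl⟩ := (coprodMk X Y).surjective z
  · exact Or.inl ⟨x, (coprodMk_inl X Y x).symm⟩
  · exact Or.inr ⟨y, (coprodMk_inr X Y y).symm⟩

theorem flat_desc {T : Scheme.{u}} (p : X ⟶ T) (q : Y ⟶ T) [Flat p] [Flat q] : Flat (coprod.desc p q) := by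
  have : IsZariskiLocalAtSource (@Flat.{u}) := HasRingHomProperty.instIsZariskiLocalAtSource
  rw [IsZariskiLocalAtSource.iff_of_openCover (P := @Flat.{u}) (coprodOpenCover.{u, u} X Y)]
  rintro (_ | _)
  · change Flat (coprod.inl ≫ coprod.desc p q)
    rw [coprod.inl_desc]
    infer_instance
  · change Flat (coprod.inr ≫ coprod.desc p q)
    rw [coprod.inr_desc]
    infer_instance

theorem isPullback_coprod {T T' X' Y' : Scheme.{u}} {p : X ⟶ T} {q : Y ⟶ T} {g : T' ⟶ T}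
    {p' : X' ⟶ T'} {q' : Y' ⟶ T'} {m : X' ⟶ X} {n : Y' ⟶ Y} (h1 : IsPullback m p' p g)
    (h2 : IsPullback n q' q g) :
    IsPullback (coprod.map m n) (coprod.desc p' q') (coprod.desc p q) g := by
  obtain ⟨e, he1, he2⟩ := K842.CoprodRank.exists_iso_pullback_coprod p q g
  refine IsPullback.of_iso_pullback ⟨?_⟩
    ((coprod.mapIso h1.isoPullback h2.isoPullback) ≪≫ e) ?_ ?_
  · apply coprod.hom_ext
    · rw [coprod.inl_map_assoc, coprod.inl_desc, coprod.inl_desc_assoc, h1.w]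
    · rw [coprod.inr_map_assoc, coprod.inr_desc, coprod.inr_desc_assoc, h2.w]
  · rw [Iso.trans_hom, Category.assoc, he2]
    apply coprod.hom_ext
    · simp
    · simp
  · rw [Iso.trans_hom, Category.assoc, he1]
    apply coprod.hom_ext
    · simp
    · simp

end Coprod

/-- The glueing of two sections. -/
structure Glue {C S P : Scheme.{u}} (f : C ⟶ S) (σ τ : S ⟶ C) (f' : P ⟶ S) (g : C ⟶ P) (b : S ⟶ P) : Prop where
  ferr : IsFerr (coprod.desc σ τ) (coprod.desc (𝟙 S) (𝟙 S)) g b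
  push : IsPushout (coprod.desc σ τ) (coprod.desc (𝟙 S) (𝟙 S)) g b
  surj : Function.Surjective g
  fac : g ≫ f' = f
  sec : b ≫ f' = 𝟙 S
  sec₁ : σ ≫ f = 𝟙 S
  sec₂ : τ ≫ f = 𝟙 S
  closed : IsClosedImmersion b

theorem exists_glue {C S : Scheme.{u}} (f : C ⟶ S) [IsSeparated f]
    (haff : ∀ x y : C, f.base x = f.base y → ∃ U : C.Opens, IsAffineOpen U ∧ x ∈ U ∧ y ∈ U)
    (σ τ : S ⟶ C) (hσ : σ ≫ f = 𝟙 S) (hτ : τ ≫ f = 𝟙 S) (hne : ∀ s : S, σ.base s ≠ τ.base s) :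
    ∃ (P : Scheme.{u}) (f' : P ⟶ S) (g : C ⟶ P) (b : S ⟶ P), Glue f σ τ f' g b := by
  have h1 : ∀ s, f (σ s) = s := fun s => by
    rw [← Scheme.Hom.comp_apply, hσ]; rfl
  have h2 : ∀ s, f (τ s) = s := fun s => by
    rw [← Scheme.Hom.comp_apply, hτ]; rfl
  have hcσ : IsClosedImmersion σ := by
    have : IsClosedImmersion (σ ≫ f) := by rw [hσ]; infer_instance
    exact IsClosedImmersion.of_comp σ f
  have hcτ : IsClosedImmersion τ := by
    have : IsClosedImmersion (τ ≫ f) := by rw [hτ]; infer_instance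
    exact IsClosedImmersion.of_comp τ f
  have hdisj : Disjoint (Set.range σ) (Set.range τ) := by
    rw [Set.disjoint_left]
    rintro _ ⟨s, rfl⟩ ⟨t, ht⟩
    have h3 : t = s := by rw [← h2 t, ht, h1 s]
    subst h3
    exact hne t ht.symm
  have hi : IsClosedImmersion (coprod.desc σ τ) := K429.LinEmb.isClosedImmersion_coprodDesc σ τ hdisj
  obtain ⟨P, g, b, hP, -, hg, hb⟩ := S0430.result (coprod.desc σ τ) (coprod.desc (𝟙 S) (𝟙 S)) (fun s => by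
    obtain ⟨U, hU, hx, hy⟩ := haff (σ s) (τ s) ((h1 s).trans (h2 s).symm)
    refine ⟨U, hU, ?_⟩
    intro z hz
    rcases exists_pt z with ⟨x, rfl⟩ | ⟨x, rfl⟩
    · have h3 : x = s := by
        have h4 : (coprod.desc (𝟙 S) (𝟙 S)) ((coprod.inl : S ⟶ S ⨿ S) x) = s := hz
        rw [← Scheme.Hom.comp_apply, coprod.inl_desc] at h4
        exact h4
      subst h3
      change (coprod.desc σ τ) ((coprod.inl : S ⟶ S ⨿ S) x) ∈ U
      rw [← Scheme.Hom.comp_apply, coprod.inl_desc]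
      exact hx
    · have h3 : x = s := by
        have h4 : (coprod.desc (𝟙 S) (𝟙 S)) ((coprod.inr : S ⟶ S ⨿ S) x) = s := hz
        rw [← Scheme.Hom.comp_apply, coprod.inr_desc] at h4
        exact h4
      subst h3
      change (coprod.desc σ τ) ((coprod.inr : S ⟶ S ⨿ S) x) ∈ U
      rw [← Scheme.Hom.comp_apply, coprod.inr_desc]
      exact hy)
  have hF : IsFerr (coprod.desc σ τ) (coprod.desc (𝟙 S) (𝟙 S)) g b := isFerr_of_isPushout hP
  obtain ⟨-, -, -, -, hsurj, -⟩ := props_of_isPushout (Adapted.of_affine hP.w) hP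
  have hw : coprod.desc σ τ ≫ f = coprod.desc (𝟙 S) (𝟙 S) ≫ 𝟙 S := by
    apply coprod.hom_ext
    · rw [coprod.inl_desc_assoc, coprod.inl_desc_assoc, hσ, Category.comp_id]
    · rw [coprod.inr_desc_assoc, coprod.inr_desc_assoc, hτ, Category.comp_id]
  have hσg : σ ≫ g = b := by
    have h3 := congrArg (fun t => coprod.inl ≫ t) hP.w
    simp only [coprod.inl_desc_assoc, Category.id_comp] at h3
    exact h3
  refine ⟨P, hP.desc f (𝟙 S) hw, g, b, hF, hP, fun w => ?_, hP.inl_desc _ _ _, hP.inr_desc _ _ _, hσ, hτ, hb⟩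
  rcases hsurj w with h | ⟨y, rfl⟩
  · exact h
  · exact ⟨σ y, by rw [← Scheme.Hom.comp_apply, hσg]⟩

namespace Glue

variable {C S P : Scheme.{u}} {f : C ⟶ S} {σ τ : S ⟶ C} {f' : P ⟶ S} {g : C ⟶ P} {b : S ⟶ P} (h : Glue f σ τ f' g b)

include h

theorem comp₁ : σ ≫ g = b := by
  have h3 := congrArg (fun t => coprod.inl ≫ t) h.push.w
  simp only [coprod.inl_desc_assoc, Category.id_comp] at h3
  exact h3

theorem comp₂ : τ ≫ g = b := by
  have h3 := congrArg (fun t => coprod.inr ≫ t) h.push.w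
  simp only [coprod.inr_desc_assoc, Category.id_comp] at h3
  exact h3

theorem isFinite : IsFinite g := isFinite_left h.ferr

theorem jsurj (w : P) : (∃ x, g x = w) ∨ ∃ y, b y = w := Or.inl (h.surj w)

theorem existsUnique (Z : Scheme.{u}) (t : C ⟶ Z) (ht : σ ≫ t = τ ≫ t) : ∃! v : P ⟶ Z, g ≫ v = t := by
  have hw : coprod.desc σ τ ≫ t = coprod.desc (𝟙 S) (𝟙 S) ≫ σ ≫ t := by
    apply coprod.hom_ext
    · simp only [coprod.inl_desc_assoc, Category.id_comp]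
    · simp only [coprod.inr_desc_assoc, Category.id_comp, ht]
  refine ⟨h.push.desc t (σ ≫ t) hw, h.push.inl_desc _ _ _, fun v hv => ?_⟩
  apply h.push.hom_ext
  · rw [hv, h.push.inl_desc]
  · rw [h.push.inr_desc, ← hv, ← Category.assoc, h.comp₁]

theorem isProper [IsProper f] (hlft : LocallyOfFiniteType f') : IsProper f' := by
  have := h.isFinite
  have := h.closed
  have i1 : IsProper (g ≫ f') := by rw [h.fac]; infer_instance
  have i2 : IsProper (b ≫ f') := by rw [h.sec]; infer_instance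
  have h1 : IsSeparated f' := isSeparated_of (a := g) (b := b) f' h.jsurj
  have h2 : UniversallyClosed f' := universallyClosed_of (a := g) (b := b) f' h.jsurj
  exact { toIsSeparated := h1, toUniversallyClosed := h2, toLocallyOfFiniteType := hlft }

theorem flat [Flat f] : Flat f' := by
  have i1 : Flat (g ≫ f') := by rw [h.fac]; infer_instance
  have i2 : Flat (b ≫ f') := by rw [h.sec]; infer_instance
  have i3 : Flat (coprod.desc σ τ ≫ g ≫ f') := by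
    rw [h.fac]
    have h1 : coprod.desc σ τ ≫ f = coprod.desc (𝟙 S) (𝟙 S) := by
      apply coprod.hom_ext
      · rw [coprod.inl_desc_assoc, h.sec₁, coprod.inl_desc]
      · rw [coprod.inr_desc_assoc, h.sec₂, coprod.inr_desc]
    rw [h1]
    exact flat_desc _ _
  exact flat_corner h.ferr

/-- The glueing is an isomorphism away from the glued section. -/
theorem isIso_restrict (U : P.Opens) (hU : Disjoint (U : Set P) (Set.range b)) : IsIso (g ∣_ U) := by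
  refine K896.Ferr.isIso_restrict h.ferr U ?_
  ext s
  simp only [Opens.coe_bot, Set.mem_empty_iff_false, iff_false]
  exact fun hs => Set.disjoint_left.1 hU hs ⟨s, rfl⟩

/-- The section square in terms of the two sections. -/
theorem sections (O : P.Opens) (hσO : b ⁻¹ᵁ O ≤ σ ⁻¹ᵁ g ⁻¹ᵁ O) (hτO : b ⁻¹ᵁ O ≤ τ ⁻¹ᵁ g ⁻¹ᵁ O) :
    Function.Injective (g.app O) ∧ (∀ a : Γ(C, g ⁻¹ᵁ O),
      (∃ r, g.app O r = a) ↔ σ.appLE (g ⁻¹ᵁ O) (b ⁻¹ᵁ O) hσO a = τ.appLE (g ⁻¹ᵁ O) (b ⁻¹ᵁ O) hτO a) := by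
  obtain ⟨h1, h2⟩ := (secSq_iff h.ferr.w O).1 (h.ferr.sec O)
  have eσ : ∀ r : Γ(P, O), σ.appLE (g ⁻¹ᵁ O) (b ⁻¹ᵁ O) hσO (g.app O r) = b.app O r := fun r => by
    have h3 : g.app O ≫ σ.appLE (g ⁻¹ᵁ O) (b ⁻¹ᵁ O) hσO = b.app O := by
      rw [Scheme.Hom.app_eq_appLE, Scheme.Hom.appLE_comp_appLE, Scheme.Hom.app_eq_appLE]
      simp only [h.comp₁]
    rw [← h3]; rfl
  have eτ : ∀ r : Γ(P, O), τ.appLE (g ⁻¹ᵁ O) (b ⁻¹ᵁ O) hτO (g.app O r) = b.app O r := fun r => by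
    have h3 : g.app O ≫ τ.appLE (g ⁻¹ᵁ O) (b ⁻¹ᵁ O) hτO = b.app O := by
      rw [Scheme.Hom.app_eq_appLE, Scheme.Hom.appLE_comp_appLE, Scheme.Hom.app_eq_appLE]
      simp only [h.comp₂]
    rw [← h3]; rfl
  refine ⟨fun r r' hr => h2 r r' hr ?_, fun a => ⟨?_, fun ha => ?_⟩⟩
  · rw [← eσ, ← eσ, hr]
  · rintro ⟨r, rfl⟩
    rw [eσ, eτ]
  · obtain ⟨r, hr, -⟩ := h1 a (σ.appLE (g ⁻¹ᵁ O) (b ⁻¹ᵁ O) hσO a) (by
      apply (bijective_sections _).1
      refine Prod.ext ?_ ?_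
      · have q1 : (coprod.desc σ τ).app (g ⁻¹ᵁ O) ≫ (coprod.inl : S ⟶ S ⨿ S).app _ =
            σ.appLE (g ⁻¹ᵁ O) ((coprod.inl : S ⟶ S ⨿ S) ⁻¹ᵁ (coprod.desc σ τ) ⁻¹ᵁ g ⁻¹ᵁ O)
              (by rw [← Scheme.Hom.comp_preimage, coprod.inl_desc]) := by
          rw [Scheme.Hom.app_eq_appLE, Scheme.Hom.app_eq_appLE, Scheme.Hom.appLE_comp_appLE]
          simp only [coprod.inl_desc]
        have q2 : σ.appLE (g ⁻¹ᵁ O) (b ⁻¹ᵁ O) hσO ≫ (coprod.desc (𝟙 S) (𝟙 S)).appLE (b ⁻¹ᵁ O)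
            ((coprod.desc σ τ) ⁻¹ᵁ g ⁻¹ᵁ O) (preimage_eq h.ferr.w O).le ≫ (coprod.inl : S ⟶ S ⨿ S).app _ =
            σ.appLE (g ⁻¹ᵁ O) ((coprod.inl : S ⟶ S ⨿ S) ⁻¹ᵁ (coprod.desc σ τ) ⁻¹ᵁ g ⁻¹ᵁ O)
              (by rw [← Scheme.Hom.comp_preimage, coprod.inl_desc]) := by
          rw [Scheme.Hom.app_eq_appLE (coprod.inl), Scheme.Hom.appLE_comp_appLE, Scheme.Hom.appLE_comp_appLE]
          simp only [coprod.inl_desc, Category.id_comp]
        have q3 := q1.trans q2.symm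
        exact congrArg (fun t => t.hom a) q3
      · have q1 : (coprod.desc σ τ).app (g ⁻¹ᵁ O) ≫ (coprod.inr : S ⟶ S ⨿ S).app _ =
            τ.appLE (g ⁻¹ᵁ O) ((coprod.inr : S ⟶ S ⨿ S) ⁻¹ᵁ (coprod.desc σ τ) ⁻¹ᵁ g ⁻¹ᵁ O)
              (by rw [← Scheme.Hom.comp_preimage, coprod.inr_desc]) := by
          rw [Scheme.Hom.app_eq_appLE, Scheme.Hom.app_eq_appLE, Scheme.Hom.appLE_comp_appLE]
          simp only [coprod.inr_desc]
        have q2 : τ.appLE (g ⁻¹ᵁ O) (b ⁻¹ᵁ O) hτO ≫ (coprod.desc (𝟙 S) (𝟙 S)).appLE (b ⁻¹ᵁ O)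
            ((coprod.desc σ τ) ⁻¹ᵁ g ⁻¹ᵁ O) (preimage_eq h.ferr.w O).le ≫ (coprod.inr : S ⟶ S ⨿ S).app _ =
            τ.appLE (g ⁻¹ᵁ O) ((coprod.inr : S ⟶ S ⨿ S) ⁻¹ᵁ (coprod.desc σ τ) ⁻¹ᵁ g ⁻¹ᵁ O)
              (by rw [← Scheme.Hom.comp_preimage, coprod.inr_desc]) := by
          rw [Scheme.Hom.app_eq_appLE (coprod.inr), Scheme.Hom.appLE_comp_appLE, Scheme.Hom.appLE_comp_appLE]
          simp only [coprod.inr_desc, Category.id_comp]
        have q3 := q1.trans q2.symm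
        rw [ha]
        exact congrArg (fun t => t.hom a) q3)
    exact ⟨r, hr⟩

theorem exists_sep (O : P.Opens) (hO : IsAffineOpen O) (hσO : b ⁻¹ᵁ O ≤ σ ⁻¹ᵁ g ⁻¹ᵁ O) (hτO : b ⁻¹ᵁ O ≤ τ ⁻¹ᵁ g ⁻¹ᵁ O) :
    ∃ e : Γ(C, g ⁻¹ᵁ O), σ.appLE (g ⁻¹ᵁ O) (b ⁻¹ᵁ O) hσO e = 1 ∧ τ.appLE (g ⁻¹ᵁ O) (b ⁻¹ᵁ O) hτO e = 0 := by
  have hcl := h.ferr.closed
  have haf := h.ferr.affine_left
  obtain ⟨z, hz⟩ := (bijective_sections ((coprod.desc σ τ) ⁻¹ᵁ g ⁻¹ᵁ O)).2 (1, 0)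
  obtain ⟨e, rfl⟩ := (coprod.desc σ τ).app_surjective (g ⁻¹ᵁ O) (hO.preimage g) z
  have hz1 := congrArg Prod.fst hz
  have hz2 := congrArg Prod.snd hz
  have l1 : b ⁻¹ᵁ O ≤ (coprod.inl : S ⟶ S ⨿ S) ⁻¹ᵁ (coprod.desc σ τ) ⁻¹ᵁ g ⁻¹ᵁ O := by
    rw [← Scheme.Hom.comp_preimage, coprod.inl_desc]; exact hσO
  have l2 : b ⁻¹ᵁ O ≤ (coprod.inr : S ⟶ S ⨿ S) ⁻¹ᵁ (coprod.desc σ τ) ⁻¹ᵁ g ⁻¹ᵁ O := by
    rw [← Scheme.Hom.comp_preimage, coprod.inr_desc]; exact hτO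
  refine ⟨e, ?_, ?_⟩
  · have q1 : (coprod.desc σ τ).app (g ⁻¹ᵁ O) ≫ (coprod.inl : S ⟶ S ⨿ S).app _ ≫ S.presheaf.map (homOfLE l1).op =
        σ.appLE (g ⁻¹ᵁ O) (b ⁻¹ᵁ O) hσO := by
      rw [← Scheme.Hom.appLE, Scheme.Hom.app_eq_appLE, Scheme.Hom.appLE_comp_appLE]
      simp only [coprod.inl_desc]
    have q2 := congrArg (fun t => t.hom e) q1
    refine q2.symm.trans ?_
    change S.presheaf.map (homOfLE l1).op ((coprod.inl : S ⟶ S ⨿ S).app _ ((coprod.desc σ τ).app (g ⁻¹ᵁ O) e)) = 1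
    exact (congrArg (S.presheaf.map (homOfLE l1).op) hz1).trans (map_one _)
  · have q1 : (coprod.desc σ τ).app (g ⁻¹ᵁ O) ≫ (coprod.inr : S ⟶ S ⨿ S).app _ ≫ S.presheaf.map (homOfLE l2).op =
        τ.appLE (g ⁻¹ᵁ O) (b ⁻¹ᵁ O) hτO := by
      rw [← Scheme.Hom.appLE, Scheme.Hom.app_eq_appLE, Scheme.Hom.appLE_comp_appLE]
      simp only [coprod.inr_desc]
    have q2 := congrArg (fun t => t.hom e) q1
    refine q2.symm.trans ?_
    change S.presheaf.map (homOfLE l2).op ((coprod.inr : S ⟶ S ⨿ S).app _ ((coprod.desc σ τ).app (g ⁻¹ᵁ O) e)) = 0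
    exact (congrArg (S.presheaf.map (homOfLE l2).op) hz2).trans (map_zero _)

end Glue

end K330.GlueSq
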