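import Groth.Agent.Curves.K330.FormSec
import Groth.Agent.Curves.K330.CurveDim
import Groth.Agent.LefPen.K568.GenericForms

/-!
# A quintic of genus two in `P^4` lies in a hyperplane and on a quadric
-/

set_option autoImplicit false

universe u

open CategoryTheory AlgebraicGeometry Limits TopologicalSpace Opposite

namespace K330.QuinticG2

open K330.FormSec K330.CurveDim LefPen

/-- Multiplication by a form. -/
noncomputable def mulForm {N a b : ℕ} {k : Type u} [Field k] (l : Form N k a) : Form N k b →ₗ[k] Form N k (a + b) where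
  toFun p := ⟨l.1 * p.1, SetLike.mul_mem_graded l.2 p.2⟩
  map_add' p q := Subtype.ext (mul_add _ _ _)
  map_smul' c p := Subtype.ext (mul_smul_comm _ _ _)

theorem homogeneousComponent_mul {σ : Type*} (k : Type*) [Field k] (i j : ℕ) (F : MvPolynomial σ k)
    {Q : MvPolynomial σ k} (hQ : Q.IsHomogeneous j) :
    MvPolynomial.homogeneousComponent (i + j) (F * Q) = MvPolynomial.homogeneousComponent i F * Q := by
  classical
  let : GradedAlgebra (MvPolynomial.homogeneousSubmodule σ k) := MvPolynomial.gradedAlgebra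
  have h1 := DirectSum.coe_decompose_mul_add_of_right_mem (MvPolynomial.homogeneousSubmodule σ k) (i := i) (a := F)
    (b := Q) ((MvPolynomial.mem_homogeneousSubmodule j Q).2 hQ)
  have h2 : ∀ (G : MvPolynomial σ k) (s : ℕ),
      (DirectSum.decompose (MvPolynomial.homogeneousSubmodule σ k) G s : MvPolynomial σ k) =
        MvPolynomial.homogeneousComponent s G := by
    intro G s
    exact MvPolynomial.decomposition.decompose'_apply G s
  rw [h2, h2] at h1
  exact h1

theorem mem_range_mulForm {N a b : ℕ} {k : Type u} [Field k] (l : Form N k a) (q : Form N k (a + b))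
    (h : q.1 ∈ Ideal.span {l.1}) : q ∈ LinearMap.range (mulForm (b := b) l) := by
  obtain ⟨p, hp⟩ := Ideal.mem_span_singleton'.1 h
  refine ⟨⟨MvPolynomial.homogeneousComponent b p, MvPolynomial.homogeneousComponent_isHomogeneous b p⟩, ?_⟩
  apply Subtype.ext
  change l.1 * MvPolynomial.homogeneousComponent b p = q.1
  have h1 : MvPolynomial.homogeneousComponent (b + a) (p * l.1) = q.1 := by
    rw [hp, MvPolynomial.homogeneousComponent_of_mem (n := a + b) q.2, if_pos (add_comm _ _)]
  rw [homogeneousComponent_mul k b a p l.2] at h1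
  rw [← h1, mul_comm]

theorem exists_forms {N : ℕ} {k : Type u} [Field k] {V₁ V₂ : Type*} [AddCommGroup V₁] [Module k V₁]
    [AddCommGroup V₂] [Module k V₂] [Module.Finite k V₁] [Module.Finite k V₂] (f₁ : Form N k 1 →ₗ[k] V₁)
    (f₂ : Form N k 2 →ₗ[k] V₂)
    (h₁ : Module.finrank k V₁ < N + 1) (h₂ : Module.finrank k V₂ + (N + 1) < (N + 2).choose 2) :
    ∃ (l : Form N k 1) (q : Form N k 2), l ≠ 0 ∧ q.1 ∉ Ideal.span {l.1} ∧ f₁ l = 0 ∧ f₂ q = 0 := by
  have e₁ := K568.GenericForms.finrank_form (k := k) N 1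
  have e₂ := K568.GenericForms.finrank_form (k := k) N 2
  rw [Nat.choose_one_right] at e₁
  have hk : LinearMap.ker f₁ ≠ ⊥ := LinearMap.ker_ne_bot_of_finrank_lt (by rw [e₁]; exact h₁)
  obtain ⟨l, hl, hl0⟩ := (Submodule.ne_bot_iff _).1 hk
  let m : Form N k 1 →ₗ[k] Form N k 2 := mulForm (b := 1) l
  have hr : Module.finrank k (LinearMap.range m) ≤ N + 1 := (LinearMap.finrank_range_le m).trans e₁.le
  have hk2 : N + 1 < Module.finrank k (LinearMap.ker f₂) := by
    have h3 := f₂.finrank_range_add_finrank_ker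
    have h4 : Module.finrank k (LinearMap.range f₂) ≤ Module.finrank k V₂ := Submodule.finrank_le _
    rw [e₂] at h3
    omega
  have hn : ¬ (LinearMap.ker f₂ ≤ LinearMap.range m) := by
    intro hle
    have := Submodule.finrank_mono hle
    omega
  obtain ⟨q, hq, hq'⟩ := Set.not_subset.1 hn
  refine ⟨l, q, hl0, fun hmem => hq' ?_, hl, hq⟩
  exact mem_range_mulForm (b := 1) l q hmem

theorem main (k : Type u) [Field k] [IsAlgClosed k]
    (C : Scheme.{u}) [C.Over (Spec (CommRingCat.of k))] [IsProper (C ↘ Spec (CommRingCat.of k))]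
    [IsIntegral C] (hC : topologicalKrullDim C = 1) (hg : Curv2.genus k C = 2)
    (i : C ⟶ CohB1.ProjSpace 4 k) (hi : i ≫ CohB1.ProjSpace.toSpec 4 k = C ↘ Spec (CommRingCat.of k))
    (hdeg : Curv2.deg k C ((Scheme.Modules.pullback i).obj (Twist.twistProjSpace 4 k 1)) 1 = 5) :
    ∃ (l : LefPen.Form 4 k 1) (q : LefPen.Form 4 k 2), l ≠ 0 ∧ q.1 ∉ Ideal.span {l.1} ∧
      ∃ j : C ⟶ (LefPen.hypIdeal l ⊔ LefPen.hypIdeal q).subscheme,
        j ≫ (LefPen.hypIdeal l ⊔ LefPen.hypIdeal q).subschemeι = i := by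
  have hd2 : Curv2.deg k C ((Scheme.Modules.pullback i).obj (Twist.twistProjSpace 4 k ((2 : ℕ) : ℤ))) 1 = 10 := by
    have h := deg_pull_twist_add i hC.le 1 1
    rw [hdeg] at h
    exact h
  have hd1 : Curv2.deg k C ((Scheme.Modules.pullback i).obj (Twist.twistProjSpace 4 k ((1 : ℕ) : ℤ))) 1 = 5 := hdeg
  have h1 := finrank_h0_of_deg k C hC (isInvertible_pull_twist i ((1 : ℕ) : ℤ)) (by rw [hd1, hg]; norm_num)
  have h2 := finrank_h0_of_deg k C hC (isInvertible_pull_twist i ((2 : ℕ) : ℤ)) (by rw [hd2, hg]; norm_num)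
  rw [hd1, hg] at h1
  rw [hd2, hg] at h2
  have h1' := Nat.cast_injective (R := ℤ) (h1.trans (show _ = ((4 : ℕ) : ℤ) by norm_num))
  have h2' := Nat.cast_injective (R := ℤ) (h2.trans (show _ = ((9 : ℕ) : ℤ) by norm_num))
  have := Groth.Agent.VarietyA.CurveFin.finite_HH k C (isInvertible_pull_twist i ((1 : ℕ) : ℤ)) 0
  have := Groth.Agent.VarietyA.CurveFin.finite_HH k C (isInvertible_pull_twist i ((2 : ℕ) : ℤ)) 0
  obtain ⟨l, q, hl0, hlq, hl, hq⟩ := exists_forms (formSec (d := 1) C i hi) (formSec (d := 2) C i hi)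
    (by rw [h1']; norm_num) (by
      have : (4 + 2).choose 2 = 15 := by decide
      rw [this, h2']
      norm_num)
  refine ⟨l, q, hl0, hlq, ?_⟩
  have hl' : sec' i l = 0 := (map_eq_zero_iff _ (Groth.Agent.CurvesB.HZero.equivAdd _).symm.injective).1 hl
  have hq' : sec' i q = 0 := (map_eq_zero_iff _ (Groth.Agent.CurvesB.HZero.equivAdd _).symm.injective).1 hq
  exact exists_lift i l q hl' hq'

end K330.QuinticG2
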