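import Groth.Agent.Curves.K330.SecPB
import Groth.Agent.Smoothlim.SmoothLocusBC
import Groth.Agent.S0023
import Groth.Agent.S0024
import Groth.Agent.CurvesB.UnitCoh
import Groth.Agent.Models.H59.ConicEnd

/-!
# Proper flat morphisms a dense set of whose fibres are projective lines

Smoothness, and the invariants `h⁰(O) = 1`, `h¹(O) = 0` of all the fibres.
-/

set_option autoImplicit false
universe u

open CategoryTheory CategoryTheory.Limits AlgebraicGeometry TopologicalSpace Opposite TensorProduct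

namespace K330.RulGen

open Groth.Agent K330 K330.FibPB
open Groth.Agent.CohqA.PullbackUniv Groth.Agent.CohqA.PullbackAffine
  Groth.Agent.CohqA.PullbackSections Groth.Agent.CohqA.AffineBaseChange Groth.Agent.CohqA.BaseChangeMod

/-- The fibre at `b` is a projective line. -/
def IsPt {C B : Scheme.{u}} (f : C ⟶ B) (b : B) : Prop :=
  ∃ (K : Type u) (_ : Field K) (α : Spec (CommRingCat.of K) ⟶ B) (j : CohB1.ProjSpace 1 K ⟶ C),
    α (IsLocalRing.closedPoint K) = b ∧ IsPullback j (CohB1.ProjSpace.toSpec 1 K) f α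

variable {C B : Scheme.{u}} {f : C ⟶ B}

section Smooth

variable [IsProper f] [Flat f] [LocallyOfFinitePresentation f]

theorem smooth_of_dom {U : Set B} (hU' : ∀ V : B.Opens, U ⊆ V → V = ⊤) (H : ∀ b ∈ U, IsPt f b) :
    Smooth f := by
  rw [← Scheme.Hom.smoothLocus_eq_top_iff]
  let V : B.Opens := ⟨(f '' (f.smoothLocus : Set C)ᶜ)ᶜ, (f.isClosedMap _ f.smoothLocus.2.isClosed_compl).isOpen_compl⟩
  have hV : V = ⊤ := hU' V fun b hb => by
    rintro ⟨x, hx, rfl⟩
    obtain ⟨K, _, α, j, hα, sq⟩ := H _ hb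
    obtain ⟨x', rfl, -⟩ := exists_preimage sq x (IsLocalRing.closedPoint K) hα.symm
    have hsm : Smooth (CohB1.ProjSpace.toSpec 1 K) := SmoothOfRelativeDimension.smooth 1 _
    refine hx ((Smoothlim.SmoothLocusBC.mem_smoothLocus_iff_of_isPullback sq x' (Or.inl (Flat.stalkMap f _))).1 ?_)
    rw [Scheme.Hom.smoothLocus_eq_top]
    trivial
  refine top_le_iff.1 fun x _ => ?_
  by_contra hx
  have h1 : f x ∈ V := by rw [hV]; trivial
  exact h1 ⟨x, hx, rfl⟩

end Smooth

section Rank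

section Alg

variable {A A' : Type u} [CommRing A] [CommRing A'] {φ : A →+* A'} {M N : Type u}
    [AddCommGroup M] [AddCommGroup N] [Module A M] [Module A' N] {θ : M →+ N}

theorem nonempty_basis (h : IsBC φ θ) {n : ℕ} (b : Module.Basis (Fin n) A M) :
    Nonempty (Module.Basis (Fin n) A' N) := by
  obtain ⟨_, _, _, m', -, -, hR⟩ := Groth.Agent.CohqA.DualBasisMap.exists_isBaseChange h
  exact ⟨(b.baseChange A').map hR.equiv⟩

end Alg

variable [IsProper f] [Flat f] [LocallyOfFinitePresentation f]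

/-- The direct image near a point of a dense set over which `H¹` vanishes: its base change to field-valued points. -/
theorem exists_basis {L : C.Modules} (hL : PicF.IsInvertible L) {U : Set B}
    (hU' : ∀ V : B.Opens, U ⊆ V → V = ⊤) (h1 : ∀ b ∈ U, Subsingleton (CohIII.fiberH f L b 1)) {b : B} (hb : b ∈ U) :
    ∃ (n : ℕ) (W : B.Opens), b ∈ W ∧ ∀ (K : Type u) [Field K] (α : Spec (CommRingCat.of K) ⟶ B) {Z : Scheme.{u}}
      (j : Z ⟶ C) (ζ : Z ⟶ Spec (CommRingCat.of K)), IsPullback j ζ f α → α (IsLocalRing.closedPoint K) ∈ W →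
      Nonempty (Module.Basis (Fin n) Γ(Spec (CommRingCat.of K), ⊤)
        Γ((Scheme.Modules.pushforward ζ).obj ((Scheme.Modules.pullback j).obj L), ⊤)) := by
  have hq := Ega2.QCohLocal.isQCoh_of_isInvertible hL
  have hM : ((Scheme.Modules.pushforward f).obj L).IsQuasicoherent := Ega1.QcqsPush.isQCoh_pushforward f L hq
  have hnhd := fun b hb => PushVan.exists_nhd f L hq (PushVan.isFP_of_isInvertible hL)
    (K456.FlatInv.isFlatOver_of_isInvertible f hL) b (h1 b hb)
  have hloc : FlatMod.IsFinLocFree ((Scheme.Modules.pushforward f).obj L) :=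
    Dcoh.FinLocFree.isFinLocFree_of_local fun b => by
      obtain ⟨U, hyU, hU⟩ := exists_mem_of_dom hU'
        (fun W => FlatMod.IsFinLocFree (((Scheme.Modules.pushforward f).obj L).restrict W.ι)) (fun b hb => by
          obtain ⟨W, h2, h3, -⟩ := hnhd b hb
          exact ⟨W, h2, h3⟩) b
      exact ⟨U.toScheme, U.ι, inferInstance, by simpa using hyU, hU⟩
  obtain ⟨W, n, hbW, ⟨e⟩⟩ := hloc b
  obtain ⟨β, hβ⟩ := Sga67.LocBasis.nonempty_restrict_iso_iff.1 ⟨e⟩
  obtain ⟨U, hyU, -, hU⟩ := hnhd b hb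
  refine ⟨n, U ⊓ W, ⟨hyU, hbW⟩, fun K _ α Z j ζ sq hα => ?_⟩
  have hpt : ∀ z : Spec (CommRingCat.of K), α z = α (IsLocalRing.closedPoint K) := fun z =>
    congrArg α (Subsingleton.elim _ _)
  have hu := hU j _ α sq (fun z => by rw [hpt z]; exact hα.1)
  obtain ⟨V, hV, hbV, hVW⟩ := exists_isAffineOpen_mem_and_subset hα.2
  have e' : (⊤ : (Spec (CommRingCat.of K)).Opens) ≤ α ⁻¹ᵁ V := fun z _ => by
    change α z ∈ V; rw [hpt z]; exact hbV
  have hb := isBC_secMap α _ hu hV (isAffineOpen_top (Spec (CommRingCat.of K))) e'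
  exact nonempty_basis hb (hβ.basis hVW)

end Rank

section Struct

variable {K : Type u} [Field K] {X : Scheme.{u}}

/-- Transport of a basis of global sections along an isomorphism of modules. -/
theorem basis_of_iso {ζ : X ⟶ Spec (CommRingCat.of K)} {M N : X.Modules} (e : M ≅ N) {n : ℕ}
    (h : Nonempty (Module.Basis (Fin n) Γ(Spec (CommRingCat.of K), ⊤) Γ((Scheme.Modules.pushforward ζ).obj M, ⊤))) :
    Nonempty (Module.Basis (Fin n) Γ(Spec (CommRingCat.of K), ⊤) Γ((Scheme.Modules.pushforward ζ).obj N, ⊤)) := by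
  obtain ⟨b⟩ := h
  let e' := (Scheme.Modules.pushforward ζ).mapIso e
  let l : Γ((Scheme.Modules.pushforward ζ).obj M, ⊤) →ₗ[Γ(Spec (CommRingCat.of K), ⊤)]
      Γ((Scheme.Modules.pushforward ζ).obj N, ⊤) :=
    { toFun := fun x => e'.hom.app ⊤ x
      map_add' := fun x y => map_add (e'.hom.app ⊤).hom x y
      map_smul' := fun a x => Scheme.Modules.Hom.app_smul e'.hom a x }
  exact ⟨b.map (LinearEquiv.ofBijective l (ConcreteCategory.bijective_of_isIso (e'.hom.app ⊤)))⟩

/-- The direct image of the structure sheaf is free of rank one iff the global functions are the constants. -/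
theorem isIso_appTop_of_basis (ζ : X ⟶ Spec (CommRingCat.of K))
    (h : Nonempty (Module.Basis (Fin 1) Γ(Spec (CommRingCat.of K), ⊤)
      Γ((Scheme.Modules.pushforward ζ).obj (Coh.structureModule X), ⊤))) : IsIso ζ.appTop := by
  obtain ⟨b⟩ := h
  let _ : Algebra Γ(Spec (CommRingCat.of K), ⊤) Γ(X, ⊤) := ζ.appTop.hom.toAlgebra
  let b' : Module.Basis (Fin 1) Γ(Spec (CommRingCat.of K), ⊤) Γ(X, ⊤) := b
  have h1 : Module.Free Γ(Spec (CommRingCat.of K), ⊤) Γ(X, ⊤) := Module.Free.of_basis b'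
  have h2 : Module.finrank Γ(Spec (CommRingCat.of K), ⊤) Γ(X, ⊤) = 1 := by
    rw [Module.finrank_eq_card_basis b', Fintype.card_fin]
  exact (ConcreteCategory.isIso_iff_bijective ζ.appTop).2
    (Module.Free.bijective_algebraMap_of_finrank_eq_one h2)

theorem eq_one_of_basis {n : ℕ} (ζ : X ⟶ Spec (CommRingCat.of K)) (hζ : IsIso ζ.appTop)
    (h : Nonempty (Module.Basis (Fin n) Γ(Spec (CommRingCat.of K), ⊤)
      Γ((Scheme.Modules.pushforward ζ).obj (Coh.structureModule X), ⊤))) : n = 1 := by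
  obtain ⟨b⟩ := h
  let _ : Algebra Γ(Spec (CommRingCat.of K), ⊤) Γ(X, ⊤) := ζ.appTop.hom.toAlgebra
  let b' : Module.Basis (Fin n) Γ(Spec (CommRingCat.of K), ⊤) Γ(X, ⊤) := b
  have h2 : Module.finrank Γ(Spec (CommRingCat.of K), ⊤) Γ(X, ⊤) = n := by
    rw [Module.finrank_eq_card_basis b', Fintype.card_fin]
  have h3 : Function.Bijective (algebraMap Γ(Spec (CommRingCat.of K), ⊤) Γ(X, ⊤)) :=
    ConcreteCategory.bijective_of_isIso ζ.appTop
  rw [← h2, ← (LinearEquiv.ofBijective (Algebra.linearMap Γ(Spec (CommRingCat.of K), ⊤) Γ(X, ⊤)) h3).finrank_eq,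
    Module.finrank_self]

end Struct

section Main

theorem fiberH_vanish_struct [QuasiCompact f] [IsSeparated f] {b : B} (H : IsPt f b) :
    Subsingleton (CohIII.fiberH f (Coh.structureModule C) b 1) := by
  obtain ⟨K, _, α, j, rfl, sq⟩ := H
  exact (K527.FibreVan.fiberH_iff f _ (Ega2.QCohLocal.isQCoh_of_isInvertible (SecO1.isInvertible_structure)) α j _ sq 0).2
    (Flat2D.LocalGlobalH.subsingleton_HH_of_iso (PerfB.TensUnit.pullbackUnit j).symm _ (S0023.result 1 K 1 one_pos))

variable [IsProper f] [Flat f] [LocallyOfFinitePresentation f]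

/-- The invariants of the field-valued fibres near a point over which the fibre is a projective line. -/
theorem exists_nhd_isIso {U : Set B} (hU' : ∀ V : B.Opens, U ⊆ V → V = ⊤) (H : ∀ b ∈ U, IsPt f b) {b : B} (hb : b ∈ U) :
    ∃ W : B.Opens, b ∈ W ∧ ∀ (K : Type u) [Field K] (α : Spec (CommRingCat.of K) ⟶ B) {Z : Scheme.{u}}
      (j : Z ⟶ C) (ζ : Z ⟶ Spec (CommRingCat.of K)), IsPullback j ζ f α → α (IsLocalRing.closedPoint K) ∈ W →
      IsIso ζ.appTop := by
  obtain ⟨n, W, hbW, hW⟩ := exists_basis (f := f) (L := Coh.structureModule C) (SecO1.isInvertible_structure) hU'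
    (fun b hb => fiberH_vanish_struct (H b hb)) hb
  obtain ⟨K, _, α, j, hα, sq⟩ := H b hb
  have h0 := S0024.result 1 K
  have hn : n = 1 := eq_one_of_basis _ h0 (basis_of_iso (PerfB.TensUnit.pullbackUnit j) (hW K α j _ sq (by rw [hα]; exact hbW)))
  subst hn
  exact ⟨W, hbW, fun K' _ α' Z j' ζ' sq' hα' => isIso_appTop_of_basis ζ'
    (basis_of_iso (PerfB.TensUnit.pullbackUnit j') (hW K' α' j' ζ' sq' hα'))⟩

end Main

end K330.RulGen
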