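import Groth.Agent.Curves.K330.RulGen
import Groth.Agent.Curves.K330.FibTwist
import Groth.Agent.Curves.K330.GenSec
import Groth.Agent.Curves.K251.GenFib
import Groth.Agent.Pic13.H557.GeoInt
import Groth.Agent.Surf.K456.FlatCurve
import Groth.Agent.Lefpen.H370.SmoothRel
import Groth.Agent.Picfga.CurvePts

/-!
# Surfaces fibred over a curve in projective lines
-/

set_option autoImplicit false
universe u

open CategoryTheory CategoryTheory.Limits AlgebraicGeometry TopologicalSpace Opposite

namespace K330.RulMain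

open Groth.Agent K330 K330.FibPB K330.RulGen

section Gen

variable {C B : Scheme.{u}} {f : C ⟶ B} [IsProper f] [Flat f] [LocallyOfFinitePresentation f]

theorem nonempty_P1 (K : Type u) [Field K] (n : ℕ) : Nonempty (CohB1.ProjSpace n K) := by
  obtain ⟨s0, -, -⟩ := FibLin.exists_pt (k := K) (n := n) (fun _ => 1) (fun h => one_ne_zero (congrFun h 0))
  exact ⟨s0 (IsLocalRing.closedPoint K)⟩

theorem relDim_of_dom [IrreducibleSpace C] {U : Set B} (hU' : ∀ V : B.Opens, U ⊆ V → V = ⊤)
    (H : ∀ b ∈ U, IsPt f b) (hne : U.Nonempty) : SmoothOfRelativeDimension 1 f := by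
  have hsm := smooth_of_dom hU' H
  obtain ⟨b, hb⟩ := hne
  obtain ⟨K, _, α, j, hα, sq⟩ := H b hb
  obtain ⟨z⟩ := nonempty_P1 K 1
  have h0 : f.smoothLocus = ⊤ := Scheme.Hom.smoothLocus_eq_top f
  have h := Groth.Agent.Lefpen.H370.SmoothRel.smoothOfRelativeDimension_smoothLocus f sq 1
    (Sga5.ProjSmooth.smooth_toSpec 1 K) z (by rw [h0]; trivial)
  rw [h0] at h
  have h2 : f = C.topIso.inv ≫ (⊤ : C.Opens).ι ≫ f := by
    rw [← Scheme.topIso_hom, Iso.inv_hom_id_assoc]
  rw [h2]
  exact Groth.Agent.Lefpen.H370.SmoothRel.comp_left _ _ _ h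

end Gen

/-- A closed fibre which is a projective line as a scheme. -/
theorem isPt_of_closed {k : Type u} [Field k] [IsAlgClosed k] {X B : Scheme.{u}} (g : B ⟶ Spec (CommRingCat.of k))
    [LocallyOfFiniteType g] (π : X ⟶ B) [LocallyOfFiniteType π] {b : B} (hb : IsClosed ({b} : Set B))
    (e : π.fiber b ≅ CohB1.ProjSpace 1 k) : IsPt π b := by
  have h1 : IsAlgClosed (B.residueField b) := IsAlgClosed.of_ringEquiv k _
    (residueFieldIsoBase g b hb).symm.commRingCatIsoToRingEquiv
  let κ : Type u := B.residueField b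
  let q : CohB1.ProjSpace 1 k ⟶ Spec (CommRingCat.of κ) := e.inv ≫ π.fiberToSpecResidueField b
  have hq : LocallyOfFiniteType q := by
    have : LocallyOfFiniteType (pullback.snd π (B.fromSpecResidueField b)) := inferInstance
    exact MorphismProperty.comp_mem @LocallyOfFiniteType _ _ inferInstance this
  obtain ⟨σ, hσ, hqσ⟩ := FibTwist.exists_ringEquiv q
  have sq0 : IsPullback (e.inv ≫ π.fiberι b) q π (B.fromSpecResidueField b) :=
    IsPullback.of_iso (IsPullback.of_hasPullback π (B.fromSpecResidueField b)) e (Iso.refl _) (Iso.refl _)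
      (Iso.refl _) ((Category.comp_id _).trans (e.hom_inv_id_assoc _).symm)
      ((Category.comp_id _).trans (e.hom_inv_id_assoc _).symm) (by simp) (by simp)
  have sq : IsPullback (e.inv ≫ π.fiberι b) (CohB1.ProjSpace.toSpec 1 k) π
      (Spec.map σ ≫ B.fromSpecResidueField b) :=
    IsPullback.of_iso sq0 (Iso.refl _) (Iso.refl _) (asIso (Spec.map σ)).symm (Iso.refl _) (by simp)
      (by simp [hqσ]) (by simp) (by simp)
  exact ⟨k, inferInstance, _, _, B.fromSpecResidueField_apply b _, sq⟩

/-- **Surfaces fibred over a smooth proper curve in projective lines are projective bundles.** -/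
theorem main (k : Type u) [Field k] [IsAlgClosed k] {X : Scheme.{u}} [IsIntegral X]
    (hX2 : topologicalKrullDim X = 2) {B : Scheme.{u}} [B.Over (Spec (CommRingCat.of k))]
    (hB : Curve.IsSmoothProperCurve k B (B ↘ Spec (CommRingCat.of k))) (π : X ⟶ B) [IsProper π]
    (hsurj : Function.Surjective π.base)
    (hfib : ∀ b : B, IsClosed ({b} : Set B) → Nonempty (π.fiber b ≅ CohB1.ProjSpace 1 k)) :
    ∃ L : X.Modules, FlatMod.IsFinLocFreeOfRank 2 ((Scheme.Modules.pushforward π).obj L) ∧
      KRR.IsProjBundle π ((Scheme.Modules.pushforward π).obj L) L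
        ((Scheme.Modules.pullbackPushforwardAdjunction π).counit.app L) := by
  have hBp : IsProper (B ↘ Spec (CommRingCat.of k)) := hB.1
  have hBs : Smooth (B ↘ Spec (CommRingCat.of k)) := hB.2.1
  have hBi : IsIntegral B := hB.2.2.1
  have hBn : IsLocallyNoetherian B := LocallyOfFiniteType.isLocallyNoetherian (B ↘ Spec (CommRingCat.of k))
  have hBc : CompactSpace B := (quasiCompact_iff_compactSpace (B ↘ Spec (CommRingCat.of k))).mp inferInstance
  have hdom : IsDominant π := ⟨hsurj.denseRange⟩
  have hflat : Flat π := K456.FlatCurve.flat_of_dominant π (fun y => Groth.Agent.S1535.result k B y) hB.2.2.2.le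
  have hlfp : LocallyOfFinitePresentation π := inferInstance
  let U : Set B := {b : B | IsClosed ({b} : Set B)}
  have hU' : ∀ V : B.Opens, U ⊆ V → V = ⊤ := fun V hV => by
    by_contra h
    have h1 : ((V : Set B)ᶜ).Nonempty := by
      rw [Set.nonempty_compl]
      exact fun h2 => h (TopologicalSpace.Opens.ext h2)
    obtain ⟨y, hy, hyc⟩ := V.2.isClosed_compl.exists_closed_singleton h1
    exact hy (hV hyc)
  have hUne : U.Nonempty := by
    obtain ⟨y, -, hyc⟩ := (isClosed_univ (X := B)).exists_closed_singleton Set.univ_nonempty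
    exact ⟨y, hyc⟩
  have H : ∀ b ∈ U, IsPt π b := fun b hb => by
    obtain ⟨e⟩ := hfib b hb
    exact isPt_of_closed (B ↘ Spec (CommRingCat.of k)) π hb e
  have hrel : SmoothOfRelativeDimension 1 π := relDim_of_dom hU' H hUne
  have hsm : Smooth π := SmoothOfRelativeDimension.smooth 1 π
  -- the generic fibre
  let η := genericPoint B
  let _ : (π.fiber η).Over (Spec (CommRingCat.of (B.residueField η))) := ⟨π.fiberToSpecResidueField η⟩
  have hcp : (B.fromSpecResidueField η) (IsLocalRing.closedPoint (B.residueField η)) = η :=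
    B.fromSpecResidueField_apply η _
  have sqη : IsPullback (π.fiberι η) (π.fiberToSpecResidueField η) π (B.fromSpecResidueField η) :=
    IsPullback.of_hasPullback π (B.fromSpecResidueField η)
  -- vanishing of `H¹`
  have hH1 : Subsingleton (Coh.HH (π.fiber η) (Coh.structureModule (π.fiber η)) 1) := by
    let V : B.Opens := ⟨_, K527.FibreVan.isOpen_van π (Coh.structureModule X)
      (CurvesB.UnitCoh.isCoh_structureModule X)
      (K456.FlatInv.isFlatOver_of_isInvertible π SecO1.isInvertible_structure) 1⟩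
    have hV : V = ⊤ := hU' V fun b hb => fiberH_vanish_struct (H b hb)
    have h2 : η ∈ V := by rw [hV]; trivial
    have h3 : Subsingleton (CohIII.fiberH π (Coh.structureModule X)
        ((B.fromSpecResidueField η) (IsLocalRing.closedPoint (B.residueField η))) 1) := by
      rw [hcp]; exact h2
    exact Flat2D.LocalGlobalH.subsingleton_HH_of_iso (PerfB.TensUnit.pullbackUnit (π.fiberι η)) _
      ((K527.FibreVan.fiberH_iff π _ (Ega2.QCohLocal.isQCoh_of_isInvertible SecO1.isInvertible_structure)
        (K := B.residueField η) (B.fromSpecResidueField η) (π.fiberι η) _ sqη 0).1 h3)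
  have hgen : Curv2.genus (B.residueField η) (π.fiber η) = 0 := Module.finrank_zero_of_subsingleton
  have hH0 : Module.finrank (B.residueField η) (Coh.HH (π.fiber η) (Coh.structureModule (π.fiber η)) 0) = 1 := by
    obtain ⟨b, hb⟩ := hUne
    obtain ⟨W, hbW, hW⟩ := exists_nhd_isIso hU' H hb
    have hηW : η ∈ W := (genericPoint_specializes b).mem_open W.2 hbW
    exact Models.H59.ConicEnd.finrank_H0 (B.residueField η) (π.fiber η)
      (hW (B.residueField η) (B.fromSpecResidueField η) (π.fiberι η) _ sqη (by rw [hcp]; exact hηW))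
  have hXη : IsIntegral (π.fiber η) := by
    refine Pic13.H557.GeoInt.isIntegral_genericFiber π (Pic13.H557.GeoInt.map_genericPoint π ?_)
    obtain ⟨x, hx⟩ := hsurj (genericPoint B)
    have h : ∀ b : B, π x = b → Nonempty (π.fiber b) := fun b hb => by
      subst hb
      exact ⟨π.asFiber x⟩
    exact h _ hx
  have hcurve : Curve.IsSmoothProperCurve (B.residueField η) (π.fiber η) (π.fiberToSpecResidueField η) :=
    ⟨K251.GenFib.isProper_fiber π η, inferInstanceAs (Smooth (pullback.snd π (B.fromSpecResidueField η))), hXη,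
      K251.GenFib.dim_fiber_one (B ↘ Spec (CommRingCat.of k)) π hB.2.2.2 hX2 hsurj⟩
  obtain ⟨s0, hs0⟩ := K330.GenSec.exists_point_of_smooth
    (K330.GenSec.isCi_residueField k (B ↘ Spec (CommRingCat.of k)) hB.2.2.2)
    (X := π.fiber η) hcurve hH0 hgen
  obtain ⟨s, hs⟩ := K330.GenSec.exists_section_of_generic π
    (fun b => Groth.Agent.Picfga.CurvePts.valuationRing_stalk (B ↘ Spec (CommRingCat.of k)) hB.2.2.2.le b) s0 hs0
  obtain ⟨L, -, -, h1, h2⟩ := SecPB.exists_isProjBundle π hs U hU' H
  exact ⟨L, h1, h2⟩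

end K330.RulMain
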