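import Groth.Agent.Ribbon.K932.P1Deg
import Groth.Agent.S1697
import Groth.Agent.S1604
import Groth.Agent.S10829
import Groth.Agent.S10962
import Groth.Agent.S15990
import Groth.Agent.Models.H55.PtDeg
import Groth.Agent.Sga5.ProjSmooth
import Groth.Agent.Dix.ProjProper
import Groth.Agent.Dix.IdealModCartier
import Groth.Agent.Fga.HilbClosed
import Groth.Agent.Grpsch.PicGrp

/-!
# The divisor of a section of a family of projective lines

`nonempty_iso_O1`: on `P^1_k` the inverse of the ideal of a `k`-rational point is `O(1)`.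
-/

set_option autoImplicit false
universe u

open CategoryTheory CategoryTheory.Limits AlgebraicGeometry TopologicalSpace Opposite

namespace K330.SecO1

open Groth.Agent Groth.Agent.Dix.InterNum

variable {k : Type u} [Field k]

theorem h0_id : h0 (𝟙 (Spec (CommRingCat.of k))) = 1 := by
  apply Models.H55.PtDeg.h0_eq_one
  intro x
  obtain ⟨c, rfl⟩ := (ConcreteCategory.bijective_of_isIso (Scheme.ΓSpecIso (CommRingCat.of k)).inv).2 x
  exact ⟨c, rfl⟩

/-- The ideal of a rational point has `h^0(O/I) = 1`. -/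
theorem finrank_quotMod {X : Scheme.{u}} [X.Over (Spec (CommRingCat.of k))]
    [IsSeparated (X ↘ (Spec (CommRingCat.of k)))] (p : Spec (CommRingCat.of k) ⟶ X)
    (hp : p ≫ (X ↘ (Spec (CommRingCat.of k))) = 𝟙 _) :
    Module.finrank k (Coh.HH X (ClSub.quotMod p.ker) 0) = 1 := by
  have hc : IsClosedImmersion (p ≫ (X ↘ (Spec (CommRingCat.of k)))) := by rw [hp]; infer_instance
  have : IsClosedImmersion p := IsClosedImmersion.of_comp p (X ↘ (Spec (CommRingCat.of k)))
  rw [Dix.InterNum.finrank_quotMod]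
  have h1 : h0 (p.ker.subschemeι ≫ (X ↘ Spec (CommRingCat.of k))) = h0 (p ≫ (X ↘ Spec (CommRingCat.of k))) := by
    refine h0_congr _ _ (asIso p.toImage).symm ?_
    rw [Iso.symm_hom, asIso_inv, IsIso.inv_comp_eq, ← Category.assoc]
    congr 1
    exact p.toImage_imageι.symm
  rw [h1, hp]
  exact h0_id

theorem isInvertible_structure {X : Scheme.{u}} : PicF.IsInvertible (Coh.structureModule X) :=
  (Fdesc.LocGen.isInvertible_iff _).2 fun _ => ⟨⊤, Fdesc.LocGen.one ⊤, trivial, Fdesc.LocGen.isGen_one ⊤⟩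

/-- On `P^1_k` the inverse of the ideal of a rational point is `O(1)`. -/
theorem nonempty_iso_O1 (p : Spec (CommRingCat.of k) ⟶ CohB1.ProjSpace 1 k)
    (hp : p ≫ CohB1.ProjSpace.toSpec 1 k = 𝟙 _) (M : (CohB1.ProjSpace 1 k).Modules) (hM : PicF.IsInvertible M)
    (hMp : ClSub.IsInverseOf M (ClSub.idealMod p.ker)) : Nonempty (M ≅ Twist.twistProjSpace 1 k 1) := by
  have hpr : IsProper (CohB1.ProjSpace 1 k ↘ (Spec (CommRingCat.of k))) := Dix.ProjProper.isProper_toSpec 1 k
  have hsep : IsSeparated (CohB1.ProjSpace.toSpec 1 k) := (Dix.ProjProper.isProper_toSpec 1 k).toIsSeparated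
  have hD := (S15990.result (CohB1.ProjSpace.toSpec 1 k) p hp).1
  have hdim : topologicalKrullDim (CohB1.ProjSpace 1 k) ≤ 1 := (S10829.result k 1).le
  have h1 := (S1604.result k (CohB1.ProjSpace 1 k) hdim p.ker hD M hM hMp 1 (Coh.structureModule _)
    (Ega2.QCohLocal.isFinLocFreeOfRank_one_iff.2 isInvertible_structure)).2
  obtain ⟨d, ⟨e⟩⟩ := S1697.result k 1 M hM
  obtain ⟨e0⟩ := S10962.nonempty_twist_zero k 1
  rw [finrank_quotMod p hp] at h1
  unfold Curv2.deg at h1
  rw [VarietyB.DegPhi.euler_congr k (Ega2.Tens.lunit M), VarietyB.DegPhi.euler_congr k e,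
    ← VarietyB.DegPhi.euler_congr k e0, K932.P1Deg.euler_twist, K932.P1Deg.euler_twist] at h1
  obtain rfl : d = 1 := by push_cast at h1; linarith
  exact ⟨e⟩

end K330.SecO1
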