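import Groth.Agent.Curves.K330.SecO1
import Groth.Agent.Curves.K330.FibPush

/-!
# Families of projective lines with a section are projective bundles
-/

set_option autoImplicit false
universe u

open CategoryTheory CategoryTheory.Limits AlgebraicGeometry TopologicalSpace Opposite

namespace K330.SecPB

open Groth.Agent K330.FibPB

variable {C B : Scheme.{u}} {f : C ⟶ B}

/-- The field-valued fibres of `(f, O(σ))` which are projective lines are `(P^1, O(1))`. -/
theorem fibPn [IsSeparated f] [SmoothOfRelativeDimension 1 f] {s : B ⟶ C} (hs : s ≫ f = 𝟙 B) {L : C.Modules}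
    (hL : PicF.IsInvertible L) (hLs : ClSub.IsInverseOf L (ClSub.idealMod s.ker)) {K : Type u} [Field K]
    (α : Spec (CommRingCat.of K) ⟶ B) (j : CohB1.ProjSpace 1 K ⟶ C)
    (sq : IsPullback j (CohB1.ProjSpace.toSpec 1 K) f α) :
    FibPn 1 f L (α (IsLocalRing.closedPoint K)) := by
  refine ⟨K, inferInstance, α, j, rfl, sq, ?_⟩
  have hsep : IsSeparated (CohB1.ProjSpace.toSpec 1 K) := (Dix.ProjProper.isProper_toSpec 1 K).toIsSeparated
  have hc : IsClosedImmersion (s ≫ f) := by rw [hs]; infer_instance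
  have : IsClosedImmersion s := IsClosedImmersion.of_comp s f
  -- the point of the fibre
  let p : Spec (CommRingCat.of K) ⟶ CohB1.ProjSpace 1 K := sq.lift (α ≫ s) (𝟙 _) (by simp [hs])
  have hp1 : p ≫ j = α ≫ s := sq.lift_fst _ _ _
  have hp2 : p ≫ CohB1.ProjSpace.toSpec 1 K = 𝟙 _ := sq.lift_snd _ _ _
  have sq2 : IsPullback p α j s := by
    refine IsPullback.of_right ?_ hp1 sq.flip
    rw [hp2, hs]
    exact IsPullback.of_horiz_isIso ⟨by simp⟩
  have hker : p.ker = s.ker.comap j := Fga.HilbClosed.ker_of_isPullback sq2.flip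
  have hD := (S15990.result f s hs).1
  have hDp := (S15990.result (CohB1.ProjSpace.toSpec 1 K) p hp2).1
  obtain ⟨θ⟩ := Dix.IdealModCartier.pullback_idealMod j hD (by rw [← hker]; exact hDp)
  rw [← hker] at θ
  obtain ⟨τ⟩ := Dix.IdealModCartier.pullback_tensorMod j hL (Dix.IdealModCartier.isInvertible_idealMod hD)
  obtain ⟨e⟩ := hLs
  refine SecO1.nonempty_iso_O1 p hp2 _ (Fdesc.LocGen.isInvertible_pullback j hL)
    ⟨Ega2.Tens.mapTIso (Iso.refl _) θ.symm ≪≫ τ.symm ≪≫ (Scheme.Modules.pullback j).mapIso e ≪≫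
      PerfB.TensUnit.pullbackUnit j⟩

/-- **Families of projective lines with a section are projective bundles.** -/
theorem exists_isProjBundle (f : C ⟶ B) [IsProper f] [SmoothOfRelativeDimension 1 f] {s : B ⟶ C}
    (hs : s ≫ f = 𝟙 B) (U : Set B) (hU' : ∀ V : B.Opens, U ⊆ V → V = ⊤)
    (H : ∀ b ∈ U, ∃ (K : Type u) (_ : Field K) (α : Spec (CommRingCat.of K) ⟶ B) (j : CohB1.ProjSpace 1 K ⟶ C),
      α (IsLocalRing.closedPoint K) = b ∧ IsPullback j (CohB1.ProjSpace.toSpec 1 K) f α) :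
    ∃ L : C.Modules, PicF.IsInvertible L ∧ ClSub.IsInverseOf L (ClSub.idealMod s.ker) ∧
      FlatMod.IsFinLocFreeOfRank 2 ((Scheme.Modules.pushforward f).obj L) ∧
      KRR.IsProjBundle f ((Scheme.Modules.pushforward f).obj L) L
        ((Scheme.Modules.pullbackPushforwardAdjunction f).counit.app L) := by
  have hsm : Smooth f := SmoothOfRelativeDimension.smooth 1 f
  have hD := (S15990.result f s hs).1
  obtain ⟨L, hL, ⟨e⟩⟩ := Grpsch.PicGrp.exists_inverse (Dix.IdealModCartier.isInvertible_idealMod hD)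
  have hLs : ClSub.IsInverseOf L (ClSub.idealMod s.ker) := ⟨Ega2.Tens.swap L _ ≪≫ e⟩
  have key := main_dom (r := 1) (f := f) (Ega2.QCohLocal.isFinLocFreeOfRank_one_iff.2 hL) U hU' fun b hb => by
    obtain ⟨K, _, α, j, rfl, sq⟩ := H b hb
    exact fibPn hs hL hLs α j sq
  exact ⟨L, hL, hLs, key.1, key.2⟩

end K330.SecPB
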