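import Mathlib.RingTheory.Unramified.LocalRing
import Mathlib.RingTheory.Etale.Kaehler
import Mathlib.RingTheory.Smooth.StandardSmoothCotangent
import Mathlib.RingTheory.Filtration

/-!
# Unramifiedness at inseparable points of smooth curves (algebra)

If `A` is a local `k`-algebra with `Ω[A⁄k]` generated by one element, `κ(A)/k` is not unramified, and
`B → A` is a local homomorphism with unramified residue extension, then `Ω[A⁄B] = 0`.
-/

set_option autoImplicit false

universe u

open KaehlerDifferential IsLocalRing

namespace K330.TameResAlg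

/-- If `κ/κ₀` is formally unramified and `κ/k` is not, some element of `κ₀` has nonzero differential. -/
theorem exists_D_ne_zero {k κ₀ κ : Type*} [CommRing k] [CommRing κ₀] [CommRing κ] [Algebra k κ₀] [Algebra k κ]
    [Algebra κ₀ κ] [IsScalarTower k κ₀ κ] [Algebra.FormallyUnramified κ₀ κ]
    (h : ¬ Algebra.FormallyUnramified k κ) : ∃ b : κ₀, D k κ (algebraMap κ₀ κ b) ≠ 0 := by
  by_contra hcon
  push Not at hcon
  apply h
  rw [Algebra.formallyUnramified_iff]
  have hs : Subsingleton Ω[κ⁄κ₀] := (Algebra.formallyUnramified_iff κ₀ κ).1 inferInstance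
  refine ⟨fun x y => ?_⟩
  have key : ∀ x : Ω[κ⁄k], x = 0 := by
    intro x
    obtain ⟨y, rfl⟩ := (KaehlerDifferential.exact_mapBaseChange_map k κ₀ κ x).mp (Subsingleton.elim _ _)
    induction y using TensorProduct.induction_on with
    | zero => rw [map_zero]
    | add a b ha hb => rw [map_add, ha, hb, add_zero]
    | tmul a w =>
      rw [mapBaseChange_tmul]
      have h0 : KaehlerDifferential.map k k κ₀ κ w = 0 := by
        have hw : w ∈ Submodule.span κ₀ (Set.range (D k κ₀)) := by
          rw [KaehlerDifferential.span_range_derivation]; trivial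
        induction hw using Submodule.span_induction with
        | mem z hz =>
          obtain ⟨b, rfl⟩ := hz
          rw [map_D]
          exact hcon b
        | zero => rw [map_zero]
        | add _ _ _ _ ha hb => rw [map_add, ha, hb, add_zero]
        | smul c _ _ h1 => rw [map_smul, h1, smul_zero]
      rw [h0, smul_zero]
  rw [key x, key y]

/-- The key lemma. -/
theorem formallyUnramified {k A B : Type*} [CommRing k] [CommRing A] [CommRing B] [IsLocalRing A] [IsLocalRing B]
    [Algebra k A] [Algebra k B] [Algebra B A] [IsScalarTower k B A] [IsLocalHom (algebraMap B A)]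
    (ω : Ω[A⁄k]) (hω : ∀ x : Ω[A⁄k], ∃ a : A, x = a • ω)
    (hres : Algebra.FormallyUnramified (ResidueField B) (ResidueField A))
    (h : ¬ Algebra.FormallyUnramified k (ResidueField A)) : Algebra.FormallyUnramified B A := by
  obtain ⟨b, hb⟩ := exists_D_ne_zero (k := k) (κ₀ := ResidueField B) (κ := ResidueField A) h
  obtain ⟨b, rfl⟩ := residue_surjective b
  obtain ⟨a, ha⟩ := hω (D k A (algebraMap B A b))
  have h1 : KaehlerDifferential.map k k A (ResidueField A) (D k A (algebraMap B A b)) ≠ 0 := by
    rw [map_D]
    exact hb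
  have ha' : IsUnit a := by
    by_contra hna
    have h2 : algebraMap A (ResidueField A) a = 0 := by
      rw [ResidueField.algebraMap_eq, residue_eq_zero_iff]
      exact (mem_maximalIdeal a).2 hna
    rw [ha, map_smul, algebra_compatible_smul (ResidueField A) a, h2, zero_smul] at h1
    exact h1 rfl
  obtain ⟨u, rfl⟩ := ha'
  have hgen : ∀ x : Ω[A⁄k], ∃ a : A, x = a • D k A (algebraMap B A b) := by
    intro x
    obtain ⟨c, rfl⟩ := hω x
    refine ⟨c * ↑u⁻¹, ?_⟩
    rw [ha, smul_smul, mul_assoc, Units.inv_mul, mul_one]
  rw [Algebra.formallyUnramified_iff]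
  refine ⟨fun x y => ?_⟩
  have key : ∀ x : Ω[A⁄B], x = 0 := by
    intro x
    obtain ⟨y, rfl⟩ := KaehlerDifferential.map_surjective k B A x
    obtain ⟨c, rfl⟩ := hgen y
    rw [map_smul, map_D]
    have : D B A (algebraMap A A (algebraMap B A b)) = 0 := (D B A).map_algebraMap b
    rw [this, smul_zero]
  rw [key x, key y]

end K330.TameResAlg
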