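import Groth.Agent.Curves.K330.TameResAlg
import Groth.Agent.CurvesB.NodeCriterion
import Groth.Agent.CurvesB.SmoothCurveFacts
import Mathlib.AlgebraicGeometry.Morphisms.Smooth

/-!
# Differentials of local rings of smooth curves over a field, without integrality

* `exists_equiv_kaehler_stalk`: for `f : X ⟶ Spec k` smooth of relative dimension one, `Ω[O_x⁄k]` is free of
  rank one;
* `not_isField_stalk`: the local ring at a closed point is not a field.
-/

set_option autoImplicit false
set_option linter.style.haveILetI false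

universe u

open CategoryTheory CategoryTheory.Limits AlgebraicGeometry Opposite TopologicalSpace Module
open IsLocalRing

namespace K330.TameResGeo

open Groth.Agent.CurvesB.OmegaStalkDict Groth.Agent.CurvesB.SmoothCurveFacts

variable {k : Type u} [Field k] {X : Scheme.{u}} (f : X ⟶ Spec (CommRingCat.of k))

theorem exists_chart [SmoothOfRelativeDimension 1 f] (x : X) :
    ∃ (U : X.Opens) (_ : IsAffineOpen U) (_ : x ∈ U), (secHom f U).IsStandardSmoothOfRelativeDimension 1 := by
  obtain ⟨U, hU, V, hV, hxV, e, h⟩ :=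
    SmoothOfRelativeDimension.exists_isStandardSmoothOfRelativeDimension (n := 1) (f := f) x
  have hUt : U = ⊤ := by
    ext y
    refine ⟨fun _ => trivial, fun _ => ?_⟩
    have h1 : f x ∈ U := e hxV
    have h2 : y = f x := Subsingleton.elim (α := PrimeSpectrum k) _ _
    rw [h2]
    exact h1
  subst hUt
  refine ⟨V, hV, hxV, ?_⟩
  rw [secHom_eq_comp]
  exact (RingHom.isStandardSmoothOfRelativeDimension_respectsIso (n := 1)).2 _
    (Scheme.ΓSpecIso (CommRingCat.of k)).symm.commRingCatIsoToRingEquiv h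

theorem exists_equiv_kaehler_stalk_aux {U : X.Opens} (hU : IsAffineOpen U)
    (h : (secHom f U).IsStandardSmoothOfRelativeDimension 1) (x : U) :
    letI := stAlg f x.1
    Nonempty (Ω[X.presheaf.stalk x.1⁄k] ≃ₗ[X.presheaf.stalk x.1] X.presheaf.stalk x.1) := by
  letI := secAlg f U
  letI := stAlg f x.1
  haveI : IsScalarTower k Γ(X, U) (X.presheaf.stalk x.1) := tower_sec_st f x
  haveI : Algebra.IsStandardSmoothOfRelativeDimension 1 k Γ(X, U) := h
  haveI : Algebra.IsStandardSmooth k Γ(X, U) :=
    Algebra.IsStandardSmoothOfRelativeDimension.isStandardSmooth 1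
  haveI := hU.isLocalization_stalk x
  haveI : Nontrivial Γ(X, U) := (algebraMap Γ(X, U) (X.presheaf.stalk x.1)).domain_nontrivial
  have h1 : Module.rank Γ(X, U) Ω[Γ(X, U)⁄k] = 1 := by
    simpa using Algebra.IsStandardSmoothOfRelativeDimension.rank_kaehlerDifferential
      (R := k) (S := Γ(X, U)) 1
  haveI : Module.Finite Γ(X, U) Ω[Γ(X, U)⁄k] := inferInstance
  haveI : Module.Free Γ(X, U) Ω[Γ(X, U)⁄k] := inferInstance
  have h2 : Module.rank Γ(X, U) Ω[Γ(X, U)⁄k] = Module.rank Γ(X, U) Γ(X, U) := by
    rw [h1, CommSemiring.rank_self]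
  obtain ⟨e⟩ := nonempty_linearEquiv_of_rank_eq (R := Γ(X, U)) h2
  haveI : Algebra.FormallyEtale Γ(X, U) (X.presheaf.stalk x.1) :=
    Algebra.FormallyEtale.of_isLocalization (Rₘ := X.presheaf.stalk x.1) (hU.primeIdealOf x).asIdeal.primeCompl
  let e1 := KaehlerDifferential.tensorKaehlerEquivOfFormallyEtale k Γ(X, U) (X.presheaf.stalk x.1)
  let e2 : TensorProduct Γ(X, U) (X.presheaf.stalk x.1) Ω[Γ(X, U)⁄k] ≃ₗ[X.presheaf.stalk x.1]
      TensorProduct Γ(X, U) (X.presheaf.stalk x.1) Γ(X, U) :=
    e.baseChange Γ(X, U) (X.presheaf.stalk x.1) _ _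
  exact ⟨e1.symm ≪≫ₗ e2 ≪≫ₗ (Algebra.TensorProduct.rid Γ(X, U) (X.presheaf.stalk x.1) (X.presheaf.stalk x.1)).toLinearEquiv⟩

theorem exists_equiv_kaehler_stalk [SmoothOfRelativeDimension 1 f] (x : X) :
    letI := stAlg f x
    Nonempty (Ω[X.presheaf.stalk x⁄k] ≃ₗ[X.presheaf.stalk x] X.presheaf.stalk x) := by
  obtain ⟨U, hU, hxU, h⟩ := exists_chart f x
  exact exists_equiv_kaehler_stalk_aux f hU h ⟨x, hxU⟩

theorem smooth_of [SmoothOfRelativeDimension 1 f] : Smooth f := SmoothOfRelativeDimension.smooth 1 f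

/-- The local ring of a smooth curve at a closed point is not a field. -/
theorem maximalIdeal_ne_bot [SmoothOfRelativeDimension 1 f] (x : X) (hx : IsClosed ({x} : Set X)) :
    IsLocalRing.maximalIdeal (X.presheaf.stalk x) ≠ ⊥ := by
  intro h0
  haveI := smooth_of f
  letI : Field (X.presheaf.stalk x) := (IsLocalRing.isField_iff_maximalIdeal_eq.2 h0).toField
  letI := stAlg f x
  haveI : Algebra.FormallySmooth k (X.presheaf.stalk x) := formallySmooth_stalk f x
  haveI : Algebra.EssFiniteType k (X.presheaf.stalk x) := essFiniteType_stalk f x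
  obtain ⟨e⟩ := exists_equiv_kaehler_stalk f x
  have h1 : finrank (X.presheaf.stalk x) Ω[X.presheaf.stalk x⁄k] = 1 := by
    rw [e.finrank_eq, finrank_self]
  rw [Groth.Agent.CurvesB.SmoothCurveAlg.finrank_kaehler_eq_trdeg] at h1
  have h2 := (Groth.Agent.CurvesB.Node.isClosed_iff_finite f x).1 hx
  letI := @Curv2.resAlgebra k _ X ⟨f⟩ x
  have hinj : Function.Injective (X.residue x).hom := by
    rw [injective_iff_map_eq_zero]
    intro a ha
    have : a ∈ IsLocalRing.maximalIdeal (X.presheaf.stalk x) := (residue_eq_zero_iff a).1 ha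
    rw [h0] at this
    exact this
  let φ : X.presheaf.stalk x →ₗ[k] X.residueField x :=
    { toFun := (X.residue x).hom
      map_add' := map_add _
      map_smul' := fun c a => by
        rw [Algebra.smul_def, map_mul, Algebra.smul_def]
        rfl }
  haveI : Module.Finite k (X.presheaf.stalk x) := Module.Finite.of_injective φ hinj
  haveI : Algebra.IsAlgebraic k (X.presheaf.stalk x) := inferInstance
  rw [trdeg_eq_zero] at h1
  simp at h1

end K330.TameResGeo
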