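import Groth.Agent.Curves.K330.TameResGeo

/-!
# Residue fields of tamely ramified points
-/

set_option autoImplicit false
set_option linter.style.haveILetI false

universe u

open CategoryTheory CategoryTheory.Limits AlgebraicGeometry Opposite TopologicalSpace Module
open IsLocalRing

namespace K330.TameResMain

open Groth.Agent.CurvesB.OmegaStalkDict Groth.Agent.CurvesB.SmoothCurveFacts K330.TameResGeo

variable {k : Type u} [Field k] {X Y : Scheme.{u}} (fX : X ⟶ Spec (CommRingCat.of k))
  (fY : Y ⟶ Spec (CommRingCat.of k))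

theorem stalkMap_stHom (f : X ⟶ Y) (hf : f ≫ fY = fX) (x : X) (c : k) :
    (f.stalkMap x).hom (stHom fY (f x) c) = stHom fX x c := by
  subst hf
  have h1 := Scheme.Hom.germ_stalkMap_apply f ⊤ x trivial (Coh.toGlobal fY c)
  refine h1.trans ?_
  rfl

theorem formallyUnramified_stalkMap [SmoothOfRelativeDimension 1 fX]
    (f : X ⟶ Y) (hf : f ≫ fY = fX) (x : X)
    (hres : (f.residueFieldMap x).hom.FormallyUnramified)
    (h : ¬ (@Curv2.resMap k _ X ⟨fX⟩ x).FormallyUnramified) : (f.stalkMap x).hom.FormallyUnramified := by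
  letI iA := stAlg fX x
  letI iB := stAlg fY (f x)
  letI iBA : Algebra (Y.presheaf.stalk (f x)) (X.presheaf.stalk x) := (f.stalkMap x).hom.toAlgebra
  haveI tow : IsScalarTower k (Y.presheaf.stalk (f x)) (X.presheaf.stalk x) :=
    IsScalarTower.of_algebraMap_eq fun c => (stalkMap_stHom fX fY f hf x c).symm
  haveI : IsLocalHom (algebraMap (Y.presheaf.stalk (f x)) (X.presheaf.stalk x)) :=
    inferInstanceAs (IsLocalHom (f.stalkMap x).hom)
  obtain ⟨e0⟩ := exists_equiv_kaehler_stalk fX x
  have hω : ∀ w : Ω[X.presheaf.stalk x⁄k], ∃ a : X.presheaf.stalk x, w = a • e0.symm 1 := by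
    intro w
    refine ⟨e0 w, ?_⟩
    rw [← map_smul, smul_eq_mul, mul_one, LinearEquiv.symm_apply_apply]
  refine K330.TameResAlg.formallyUnramified (k := k) (e0.symm 1) hω ?_ ?_
  · rw [← RingHom.formallyUnramified_algebraMap]
    exact hres
  · rw [← RingHom.formallyUnramified_algebraMap]
    exact h

theorem main [SmoothOfRelativeDimension 1 fX]
    (f : X ⟶ Y) [LocallyOfFiniteType f] (hf : f ≫ fY = fX) (x : X) (hx : IsClosed ({x} : Set X)) (e : ℕ)
    (he : (IsLocalRing.maximalIdeal (Y.presheaf.stalk (f x))).map (f.stalkMap x).hom =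
      IsLocalRing.maximalIdeal (X.presheaf.stalk x) ^ e)
    (h2 : 2 ≤ e) (hsep : @Algebra.IsSeparable (Y.residueField (f x)) (X.residueField x) _ _
      (f.residueFieldMap x).hom.toAlgebra) :
    @Algebra.IsSeparable k (X.residueField x) _ _ (@Curv2.resAlgebra k _ X ⟨fX⟩ x) := by
  by_contra hcon
  haveI : Smooth fX := smooth_of fX
  have hunr : (f.stalkMap x).hom.FormallyUnramified := by
    refine formallyUnramified_stalkMap fX fY f hf x ?_ ?_
    · letI := (f.residueFieldMap x).hom.toAlgebra
      exact Algebra.FormallyUnramified.of_isSeparable (Y.residueField (f x)) (X.residueField x)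
    · intro h
      exact hcon ((Groth.Agent.CurvesB.Node.resFS_iff fX x).2 h).2
  letI iA := stAlg fX x
  letI iBA : Algebra (Y.presheaf.stalk (f x)) (X.presheaf.stalk x) := (f.stalkMap x).hom.toAlgebra
  haveI : IsLocalHom (algebraMap (Y.presheaf.stalk (f x)) (X.presheaf.stalk x)) :=
    inferInstanceAs (IsLocalHom (f.stalkMap x).hom)
  haveI hess : Algebra.EssFiniteType (Y.presheaf.stalk (f x)) (X.presheaf.stalk x) :=
    LocallyOfFiniteType.stalkMap f x
  haveI : Algebra.EssFiniteType k (X.presheaf.stalk x) := essFiniteType_stalk fX x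
  haveI : IsNoetherianRing (X.presheaf.stalk x) := Algebra.EssFiniteType.isNoetherianRing k _
  haveI : Algebra.FormallyUnramified (Y.presheaf.stalk (f x)) (X.presheaf.stalk x) := hunr
  have hmap := Algebra.FormallyUnramified.map_maximalIdeal (R := Y.presheaf.stalk (f x))
    (S := X.presheaf.stalk x)
  have h3 : IsLocalRing.maximalIdeal (X.presheaf.stalk x) =
      IsLocalRing.maximalIdeal (X.presheaf.stalk x) ^ e := hmap.symm.trans he
  apply maximalIdeal_ne_bot fX x hx
  refine Submodule.eq_bot_of_le_smul_of_le_jacobson_bot (IsLocalRing.maximalIdeal (X.presheaf.stalk x)) _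
    (IsNoetherian.noetherian _) ?_ (IsLocalRing.maximalIdeal_le_jacobson _)
  rw [smul_eq_mul, ← pow_two]
  exact h3.le.trans (Ideal.pow_le_pow_right h2)

end K330.TameResMain
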